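import Cfsg.Agent.H95.Hig.Num
import Cfsg.Prelude
import Cfsg.Agent.H900.TWCore
import Cfsg.Agent.Lib.GenFitting
import Mathlib
import Cfsg.Agent.Lib.Cores
import Cfsg.Agent.LieExceptional.SingerCentralizer
import Cfsg.Agent.Lib.Zsigmondy
import Cfsg.Agent.Omega.TwoF.Rk
import Cfsg.Agent.S0242
import Cfsg.Agent.S0243
import Cfsg.Agent.S0249
import Cfsg.Agent.S0265
import Cfsg.Agent.S0813
import Cfsg.Agent.H163.PG.PslAut
import Cfsg.Agent.H384.TwoTrans
import Cfsg.Agent.H163.PG.Few_m3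
import Cfsg.Agent.TwoFusion.SLTwoFacts
import Cfsg.Agent.Lib.FieldAutCard
import Cfsg.Agent.S0244
import Cfsg.Agent.H341.ThreeList_m3
import Cfsg.Agent.H500.SocleSimple
import Cfsg.Agent.H985.Final_mg
import Cfsg.Agent.H985.Trans
import Cfsg.Agent.LieClassical.SLGen
import Cfsg.Agent.FastGrp
import Cfsg.Agent.Prune
set_option linter.all false

section
prune_inst 0x7f00000000000000000000000000000000000000000000000000000000000000000000000000000000000000000000000000000000000000000000000000000000000000000000000000000000000000003fffffffffffffffffffffffffffbeffbdffffffff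

-- part: H873/Tits/Stmts
section
set_option linter.all false

/-!
# S3414: statements of the pieces

Every piece `StXxx : Prop` is proved in some file as `theorem ... : StXxx.{u, v}` (or with the variables explicit).
-/

set_option autoImplicit false

namespace Cfsg.Agent.H873.Tits

universe u v

/-! ## Key lemma -/

/-- K1 + K3: `L y` affine.  `s_r ≤ (i_x)_r`. -/
def StKeyAff : Prop := ∀ {G : Type u} [Group G] [Finite G] {V : Type v} [Finite V] [MulAction G V] (P : Pol G V), Facts P →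
  ∀ {p : ℕ}, CaseA P p → ∀ {x y x' : V}, P.adj x y → P.Opp x x' → ∀ {r : ℕ}, r.Prime → r ≠ p → Aff (P.L y) →
  (r ≠ 2 ∨ ¬ 2 ∣ P.q (P.tp y) + 1 ∨ ¬ 2 ∣ Nat.card ↥(P.K y)) →
  (P.q (P.tp x)).factorization r ≤ (P.idx x x').factorization r

/-- the two points `a ≠ b` can be swapped in `X` -/
def Swap {Ω : Type v} (X : Subgroup (Equiv.Perm Ω)) : Prop := ∀ a b : Ω, a ≠ b → ∃ τ ∈ X, τ a = b ∧ τ b = a

/-- K2: the non-affine case with `soc (L y) ≤ L' y`.  `s_r ≤ (T_x)_r`. -/
def StKeyNonaff : Prop := ∀ {G : Type u} [Group G] [Finite G] {V : Type v} [Finite V] [MulAction G V] (P : Pol G V), Facts P →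
  ∀ {p : ℕ}, CaseA P p → ∀ {x y y' z : V}, P.adj x y → P.adj x z → y ≠ z → P.Opp y y' → ∀ {r : ℕ}, r.Prime → r ≠ p →
  ∀ X : Subgroup (Equiv.Perm {w : V // P.adj y w}), X ≤ P.L' y y' → (X.subgroupOf (P.L y)).Normal → Swap X →
  (∀ N : Subgroup (Equiv.Perm {w : V // P.adj y w}), N ≤ P.L y → (N.subgroupOf (P.L y)).Normal → N ≠ ⊥ → X ≤ N) →
  (r ≠ 2 ∨ ¬ 2 ∣ Nat.card ↥(P.K y)) →
  (P.q (P.tp x)).factorization r ≤ (P.T2 x y z).factorization r

/-- K0: `r` does not divide `i_y`: `s_r ≤ (T_x)_r`. -/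
def StKeyEasy : Prop := ∀ {G : Type u} [Group G] [Finite G] {V : Type v} [Finite V] [MulAction G V] (P : Pol G V), Facts P →
  ∀ {p : ℕ}, CaseA P p → ∀ {x y y' z : V}, P.adj x y → P.adj x z → y ≠ z → P.Opp y y' → ∀ {r : ℕ}, r.Prime → r ≠ p →
  ¬ r ∣ P.idx y y' → (P.q (P.tp x)).factorization r ≤ (P.T2 x y z).factorization r

/-- `G` has no non-trivial normal subgroup of odd order and trivial center -/
def NoOdd (G : Type u) [Group G] : Prop :=
  (∀ N : Subgroup G, N.Normal → ¬ 2 ∣ Nat.card ↥N → N = ⊥) ∧ Subgroup.center G = ⊥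

/-- Z*: `p` odd, `L x` affine of odd degree: `K y` has odd order. -/
def StZstar : Prop := ∀ {G : Type u} [Group G] [Finite G] {V : Type v} [Finite V] [MulAction G V] (P : Pol G V), Facts P →
  NoOdd G → ∀ {p : ℕ}, CaseA P p → p ≠ 2 → ∀ {x y : V}, P.adj x y → Aff (P.L x) → 2 ∣ P.q (P.tp x) → ¬ 2 ∣ Nat.card ↥(P.K y)

/-- (*): in case (A) the stabilizers in `K y` of the `O_p (K y)`-orbits on the `w ~ x`, `w ≠ y`, coincide. -/
def StStar : Prop := ∀ {G : Type u} [Group G] [Finite G] {V : Type v} [Finite V] [MulAction G V] (P : Pol G V), Facts P →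
  ∀ {p : ℕ}, CaseA P p → ∀ {x y w₁ w₂ : V}, P.adj x y → P.adj x w₁ → w₁ ≠ y → P.adj x w₂ → w₂ ≠ y →
  ∀ Q : Subgroup G, Q ≤ P.K y → (Q.subgroupOf (P.S y)).Normal → IsPGroup p ↥Q →
  (∀ Q' : Subgroup G, Q' ≤ P.K y → (Q'.subgroupOf (P.S y)).Normal → IsPGroup p ↥Q' → Q' ≤ Q) →
  ∀ g ∈ P.K y, (∃ a ∈ Q, g • w₁ = a • w₁) → ∃ b ∈ Q, g • w₂ = b • w₂

/-! ## 2-transitive groups -/

/-- 2-transitive permutation group -/
def TwoTr {Ω : Type v} (L : Subgroup (Equiv.Perm Ω)) : Prop :=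
  ∀ a b a' b' : Ω, a ≠ b → a' ≠ b' → ∃ g ∈ L, g a = a' ∧ g b = b'

/-- the stabilizer of `a` in `L`, as a subgroup of `Perm Ω` -/
def Stb {Ω : Type v} (L : Subgroup (Equiv.Perm Ω)) (a : Ω) : Subgroup (Equiv.Perm Ω) :=
  L ⊓ MulAction.stabilizer (Equiv.Perm Ω) a

/-- `PSL_d(F)`, `d ≥ 3`, `char F = p`, is a normal subgroup of `L` and the degree is `(|F|^d - 1)/(|F| - 1)` -/
def PSLType {Ω : Type v} (L : Subgroup (Equiv.Perm Ω)) (p d f : ℕ) : Prop :=
  3 ≤ d ∧ 1 ≤ f ∧ p.Prime ∧ Nat.card Ω * (p ^ f - 1) = (p ^ f) ^ d - 1 ∧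
    ∃ X : Subgroup (Equiv.Perm Ω), X ≤ L ∧ (X.subgroupOf L).Normal ∧
      (∀ N : Subgroup (Equiv.Perm Ω), N ≤ L → (N.subgroupOf L).Normal → N ≠ ⊥ → X ≤ N) ∧
      ∃ (F : Type) (_ : Field F) (_ : Fintype F), Fintype.card F = p ^ f ∧
        Nonempty (X ≃* Matrix.ProjectiveSpecialLinearGroup (Fin d) F)

/-- common hypotheses: `L` is 2-transitive on `s + 1 ≥ 3` points and the stabilizer of `a` has a normal `p`-subgroup `Q ≠ 1` -/
structure LQ {Ω : Type v} (L : Subgroup (Equiv.Perm Ω)) (s p : ℕ) (a b : Ω) (Q : Subgroup (Equiv.Perm Ω)) : Prop where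
  two : TwoTr L
  card : Nat.card Ω = s + 1
  two_le : 2 ≤ s
  prime : p.Prime
  ne : a ≠ b
  Q_ne : Q ≠ ⊥
  Q_le : Q ≤ Stb L a
  Q_normal : (Q.subgroupOf (Stb L a)).Normal
  Q_p : IsPGroup p ↥Q

/-- TAB1a: the non-affine 2-transitive groups with `O_p (L_a) ≠ 1` -/
def StTab1a : Prop := ∀ {Ω : Type v} [Finite Ω] (L : Subgroup (Equiv.Perm Ω)) (s p : ℕ) (a b : Ω) (Q : Subgroup (Equiv.Perm Ω)),
  LQ L s p a b Q → ¬ Aff L → (∃ k : ℕ, s = p ^ k) ∨ ∃ d f, PSLType L p d f

/-- TAB1b: `PSL_d(q)`, `d ≥ 3`: there is an odd prime `r ≠ p` with `s_r > T_r`, except for `PSL_3(p)`, `p + 1 = 2 ^ k`, and `PSL_7(2)` -/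
def StTab1b : Prop := ∀ {Ω : Type v} [Finite Ω] (L : Subgroup (Equiv.Perm Ω)) (s p : ℕ) (a b : Ω) (Q : Subgroup (Equiv.Perm Ω)),
  LQ L s p a b Q → ∀ d f, PSLType L p d f →
  (∀ r : ℕ, r.Prime → r ≠ p → r ≠ 2 → s.factorization r ≤ (Nat.card ↥(Stb L a ⊓ Stb L b)).factorization r) →
  (d = 3 ∧ f = 1 ∧ ∃ k, p + 1 = 2 ^ k) ∨ (d = 7 ∧ f = 1 ∧ p = 2)

/-- TAB1c: the affine case -/
def StTab1c : Prop := ∀ {Ω : Type v} [Finite Ω] (L : Subgroup (Equiv.Perm Ω)) (s p : ℕ) (a b : Ω) (Q : Subgroup (Equiv.Perm Ω)),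
  LQ L s p a b Q → Aff L →
  (∀ r : ℕ, r.Prime → r ≠ p → s.factorization r ≤ (Nat.card ↥(Stb L a ⊓ Stb L b)).factorization r) →
  (∃ k : ℕ, s = p ^ k) ∨ (p = 2 ∧ ∃ r₀ k : ℕ, r₀.Prime ∧ 7 ≤ r₀ ∧ r₀ + 1 = 2 ^ k ∧ s + 1 = r₀ ^ 2)

/-- TAB2: `L' ≤ L` 2-transitive of degree `p ^ k + 1`, `L` not affine: `L'` contains the socle of `L`, or `S_5 > 5:4`
(`r` is a prime divisor of the index, `r ≠ p`) -/
def StTab2 : Prop := ∀ {Ω : Type v} [Finite Ω] (L L' : Subgroup (Equiv.Perm Ω)) (s p : ℕ) (a b : Ω) (Q : Subgroup (Equiv.Perm Ω)),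
  LQ L s p a b Q → TwoTr L' → L' ≤ L → (∃ k, s = p ^ k) → ¬ Aff L → ∀ {r : ℕ}, r.Prime → r ≠ p → r ∣ L'.relIndex L →
  (∃ X : Subgroup (Equiv.Perm Ω), X ≤ L' ∧ (X.subgroupOf L).Normal ∧ Swap X ∧
    ∀ N : Subgroup (Equiv.Perm Ω), N ≤ L → (N.subgroupOf L).Normal → N ≠ ⊥ → X ≤ N) ∨
  (s = 4 ∧ p = 2 ∧ r = 3 ∧ Nat.card ↥L = 120 ∧ Nat.card ↥L' = 20)

/-! ## Thompson-Wielandt and the two cases -/

def StTW : Prop := ∀ {G : Type u} [Group G] [Finite G] {V : Type v} [Finite V] [MulAction G V] (P : Pol G V), Facts P →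
  (∃ p, CaseA P p) ∨ ∃ b, CaseB P b

/-- all parameters are powers of `p` -/
def Powers {G : Type u} [Group G] {V : Type v} [MulAction G V] (P : Pol G V) (p : ℕ) : Prop :=
  p.Prime ∧ ∀ b, ∃ k, P.q b = p ^ k

/-- both types are of `PSL` type (characteristic `p`): impossible -/
def StPSLPSL : Prop := ∀ {G : Type u} [Group G] [Finite G] {V : Type v} [Finite V] [MulAction G V] (P : Pol G V), Facts P → Num P →
  ∀ {p : ℕ}, CaseA P p → ∀ {x y : V}, P.adj x y → ∀ d f d' f', PSLType (P.L x) p d f → PSLType (P.L y) p d' f' → False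

/-- E1: `PSL_3(p)`, `p + 1 = 2 ^ k`, the other type is affine or `t = p ^ k` -/
def StE1 : Prop := ∀ {G : Type u} [Group G] [Finite G] {V : Type v} [Finite V] [MulAction G V] (P : Pol G V), Facts P → Num P →
  NoOdd G → ∀ {p : ℕ}, CaseA P p → ∀ {x y : V}, P.adj x y → PSLType (P.L x) p 3 1 → (∃ k, p + 1 = 2 ^ k) →
  (Aff (P.L y) ∨ ∃ k, P.q (P.tp y) = p ^ k) → False

/-- E2: `PSL_7(2)` -/
def StE2 : Prop := ∀ {G : Type u} [Group G] [Finite G] {V : Type v} [Finite V] [MulAction G V] (P : Pol G V), Facts P → Num P →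
  CaseA P 2 → ∀ {x y : V}, P.adj x y → PSLType (P.L x) 2 7 1 →
  (Aff (P.L y) ∨ ∃ k, P.q (P.tp y) = 2 ^ k) → False

/-- E3: `L x` affine of degree `r₀ ^ 2`, `r₀ + 1 = 2 ^ k`, `r₀ ≥ 7`, `p = 2` -/
def StE3 : Prop := ∀ {G : Type u} [Group G] [Finite G] {V : Type v} [Finite V] [MulAction G V] (P : Pol G V), Facts P → Num P →
  NoOdd G → CaseA P 2 → ∀ {x y : V}, P.adj x y → Aff (P.L x) → ∀ {r₀ k : ℕ}, r₀.Prime → 7 ≤ r₀ → r₀ + 1 = 2 ^ k →
  P.q (P.tp x) + 1 = r₀ ^ 2 → (Aff (P.L y) ∨ ∃ k, P.q (P.tp y) = 2 ^ k) → False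

/-- E4: `L y = S_5`, `L' y = 5:4`: then `s` is a power of `2` -/
def StE4 : Prop := ∀ {G : Type u} [Group G] [Finite G] {V : Type v} [Finite V] [MulAction G V] (P : Pol G V), Facts P → Num P →
  CaseA P 2 → ∀ {x y y' : V}, P.adj x y → P.Opp y y' → P.q (P.tp y) = 4 → Nat.card ↥(P.L y) = 120 → Nat.card ↥(P.L' y y') = 20 →
  ∃ k, P.q (P.tp x) = 2 ^ k

/-- case (A) -/
def StCaseA : Prop := ∀ {G : Type u} [Group G] [Finite G] {V : Type v} [Finite V] [MulAction G V] (P : Pol G V), Facts P → Num P →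
  NoOdd G → ∀ {p : ℕ}, CaseA P p → Powers P p

end Cfsg.Agent.H873.Tits
end

-- part: H873/Tits/End
section
set_option linter.all false

/-!
# S3414: the end step.  All parameters are powers of `p`, `T` is the simple normal subgroup.  Then `|T| < |T|_p ^ 3`.

`StEnd` follows from `StOut`, `StPath`, `StLoc`, `StNumE`, `StSmall` (assembly: helper873).
-/

set_option autoImplicit false

namespace Cfsg.Agent.H873.Tits

universe u v

/-- number of chambers of a generalized `n`-gon with parameters `s, t` -/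
def ch (n s t : ℕ) : ℕ := (1 + s) * (1 + t) * ∑ i ∈ Finset.range (n / 2), (s * t) ^ i

/-- further geometric facts (orders) -/
structure FactsE {G : Type u} [Group G] {V : Type v} [MulAction G V] (P : Pol G V) : Prop where
  /-- `|G| = c (st)^m |H|` -/
  card_G : ∀ {p : ℕ → V}, IsPath P.adj (P.n + 1) p →
    Nat.card G = ch P.n (P.q true) (P.q false) * (P.q true * P.q false) ^ (P.n / 2) * Nat.card ↥(P.H p)
  index_S : ∀ v : V, (P.S v).index * (1 + P.q (P.tp v)) = ch P.n (P.q true) (P.q false)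
  index_B : ∀ {x y : V}, P.adj x y → (P.S x ⊓ P.S y).index = ch P.n (P.q true) (P.q false)
  /-- `H` embeds in the product of the local two point stabilizers -/
  card_H : ∀ {p : ℕ → V}, IsPath P.adj (P.n + 1) p → Nat.card ↥(P.H p) ∣ P.T2 (p 1) (p 0) (p 2) * P.T2 (p 2) (p 1) (p 3)

/-- `L` has a non-abelian simple 2-transitive normal subgroup -/
def SimpTwo {Ω : Type v} (L : Subgroup (Equiv.Perm Ω)) : Prop :=
  ∃ X : Subgroup (Equiv.Perm Ω), X ≤ L ∧ (X.subgroupOf L).Normal ∧ IsSimpleGroup ↥X ∧ ¬ IsMulCommutative ↥X ∧ TwoTr X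

/-- `G / T` embeds in `Out T`, is solvable (Schreier, S5758) and `2 ^ |Out T| ≤ (G : S) ^ 3` for `S ≠ G`, `S T = G` (S5879, H934) -/
def StOut : Prop := ∀ {G : Type u} [Group G] [Finite G] (T : Subgroup G) [T.Normal] [IsSimpleGroup ↥T], ¬ IsMulCommutative ↥T →
  Subgroup.centralizer (T : Set G) = ⊥ →
  Group.IsSolvable (G ⧸ T) ∧ T.index ≤ Nat.card (Cfsg.Out ↥T) ∧
    ∀ S : Subgroup G, S ⊔ T = ⊤ → S ≠ ⊤ → 2 ^ Nat.card (Cfsg.Out ↥T) ≤ S.index ^ 3

/-- if all `L' v v'` have a simple 2-transitive normal subgroup, then `T` is transitive on the `(n+1)`-paths: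
`T ∩ S v ∩ S v'` induces a normal subgroup of `L' v v'` with solvable quotient, so it contains `X` and is 2-transitive. -/
def StPath : Prop := ∀ {G : Type u} [Group G] [Finite G] {V : Type v} [Finite V] [MulAction G V] (P : Pol G V), Facts P → FactsE P →
  ∀ (T : Subgroup G) [T.Normal], Group.IsSolvable (G ⧸ T) → (∀ v v' : V, P.Opp v v' → SimpTwo (P.L' v v')) →
  ∀ {p : ℕ → V}, IsPath P.adj (P.n + 1) p → (P.S (p 0) ⊓ P.S (p 1)) ⊔ T = ⊤ →
  Nat.card ↥T = ch P.n (P.q true) (P.q false) * (P.q true * P.q false) ^ (P.n / 2) * Nat.card ↥(T ⊓ P.H p)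

/-- divisibility for the orders of the two point stabilizers of a rank one group of degree `p ^ k + 1` -/
def TBd (p k T : ℕ) : Prop := T ∣ (p ^ k - 1) * k ∨ ∃ f, k = 3 * f ∧ T ∣ (p ^ (2 * f) - 1) * (2 * f)

/-- special local types of degree `p ^ k + 1`: affine of Fermat prime degree, affine of degree `9`, affine of degree `2 ^ d`
(`p` a Mersenne prime), `PΓL_2(8)` of degree `28` -/
def Spec (p k T : ℕ) : Prop :=
  (p = 2 ∧ (2 ^ k + 1).Prime ∧ T = 1) ∨ (p = 2 ∧ k = 3 ∧ T ∣ 6) ∨ (k = 1 ∧ (∃ d, p + 1 = 2 ^ d) ∧ T ∣ p - 1) ∨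
  (p = 3 ∧ k = 3 ∧ T ∣ 2)

/-- the local 2-transitive groups when `s = p ^ k` -/
def StLoc : Prop := ∀ {Ω : Type v} [Finite Ω] (L L' : Subgroup (Equiv.Perm Ω)) (s p k : ℕ) (a b : Ω) (Q : Subgroup (Equiv.Perm Ω)),
  LQ L s p a b Q → TwoTr L' → L' ≤ L → s = p ^ k → (∃ e, L'.relIndex L = p ^ e) →
  ((2 ≤ k ∨ 5 ≤ p) ∧ SimpTwo L' ∧ TBd p k (Nat.card ↥(Stb L a ⊓ Stb L b))) ∨ Spec p k (Nat.card ↥(Stb L a ⊓ Stb L b))

/-- the small exceptions `(n, s, t, p, h)`, `s ≤ t`, `h` a multiple of the order of `H` -/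
def smallList : List (ℕ × ℕ × ℕ × ℕ × ℕ) :=
  [(4, 2, 2, 2, 1), (4, 2, 4, 2, 6), (4, 4, 4, 2, 36), (4, 4, 8, 2, 252), (4, 4, 16, 2, 360), (4, 8, 8, 2, 1764),
   (4, 8, 64, 2, 158760), (6, 2, 2, 2, 1), (6, 2, 8, 2, 42), (8, 2, 4, 2, 6), (4, 3, 3, 3, 4), (4, 3, 9, 3, 32)]

/-- numerical part: `a` belongs to a special type; `M = |T|`, `h = |H|`, `u` the `p`-part of `|G : T|`. -/
def StNumE : Prop := ∀ {n p a b h Tx Ty M u : ℕ}, (n = 4 ∨ n = 6 ∨ n = 8) → p.Prime → 1 ≤ a → 1 ≤ b →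
  ((n = 4 ∨ n = 8) → p ^ a ≤ (p ^ b) ^ 2 ∧ p ^ b ≤ (p ^ a) ^ 2) → (n = 6 → p ^ a ≤ (p ^ b) ^ 3 ∧ p ^ b ≤ (p ^ a) ^ 3) →
  (n = 4 → (p ^ a + p ^ b) ∣ 2 * p ^ a * p ^ b * (1 + p ^ a) * (1 + p ^ b)) →
  (n = 6 → ∃ g : ℕ, p ^ a * p ^ b = g ^ 2) → (n = 8 → ∃ g : ℕ, 2 * p ^ a * p ^ b = g ^ 2) →
  Spec p a Tx → (Spec p b Ty ∨ ((2 ≤ b ∨ 5 ≤ p) ∧ TBd p b Ty)) → h ∣ Tx * Ty → 0 < Tx → 0 < Ty → 0 < M →
  2 ^ u * (1 + p ^ a) ^ 3 ≤ ch n (p ^ a) (p ^ b) ^ 3 → 2 ^ u * (1 + p ^ b) ^ 3 ≤ ch n (p ^ a) (p ^ b) ^ 3 →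
  M ∣ ch n (p ^ a) (p ^ b) * (p ^ a * p ^ b) ^ (n / 2) * h →
  u * p ^ M.factorization p = (p ^ a * p ^ b) ^ (n / 2) * p ^ h.factorization p →
  M < p ^ (3 * M.factorization p) ∨
    ∃ x ∈ smallList, x.1 = n ∧ x.2.2.2.1 = p ∧ h ∣ x.2.2.2.2 ∧
      ((x.2.1 = p ^ a ∧ x.2.2.1 = p ^ b) ∨ (x.2.1 = p ^ b ∧ x.2.2.1 = p ^ a))

/-- the small exceptions, by the orders of the known simple groups (`OrdDiv.exists_real_filter`) and their outer automorphism groups -/
def StSmall : Prop := ∀ (T : Type u) [Group T] [Finite T] [IsSimpleGroup T], ¬ IsMulCommutative T →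
  ∀ x ∈ smallList, ∀ u : ℕ, ch x.1 x.2.1 x.2.2.1 ∣ Nat.card T →
  Nat.card T ∣ ch x.1 x.2.1 x.2.2.1 * (x.2.1 * x.2.2.1) ^ (x.1 / 2) * x.2.2.2.2 →
  (x.2.1 * x.2.2.1) ^ (x.1 / 2) ≤ u * x.2.2.2.1 ^ (Nat.card T).factorization x.2.2.2.1 →
  u ≤ Nat.card (Cfsg.Out T) → 2 ^ u * (1 + x.2.1) ^ 3 ≤ ch x.1 x.2.1 x.2.2.1 ^ 3 → 2 ^ u * (1 + x.2.2.1) ^ 3 ≤ ch x.1 x.2.1 x.2.2.1 ^ 3 →
  Nat.card T < x.2.2.2.1 ^ (3 * (Nat.card T).factorization x.2.2.2.1)

/-- **the end step, local part** -/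
def StEnd : Prop := ∀ {G : Type u} [Group G] [Finite G] {V : Type v} [Finite V] [MulAction G V] (P : Pol G V), Facts P → FactsE P →
  Num P → ∀ {p : ℕ}, CaseA P p → Powers P p → ∀ (T : Subgroup G) [T.Normal] [IsSimpleGroup ↥T], ¬ IsMulCommutative ↥T →
  Subgroup.centralizer (T : Set G) = ⊥ → (∀ {x y : V}, P.adj x y → (P.S x ⊓ P.S y) ⊔ T = ⊤) →
  Nat.card ↥T < p ^ (3 * (Nat.card ↥T).factorization p)

end Cfsg.Agent.H873.Tits
end

-- part: H263/TW/Pol
section
set_option linter.all false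
open scoped Cfsg.Agent.FastGrp

-- part: H263/TW/Edge
section
/-!
# Edges of graphs of groups: a trichotomy of Thompson-Wielandt type (helper263)

`Edge X Y K L` : `X = G_x`, `Y = G_y` are subgroups of `G` (vertex stabilisers of an edge of a graph),
`X ⊓ Y` is maximal in both, no nontrivial subgroup is normal in both, and `K`, `L` are the largest subgroups of
`X ⊓ Y` which are normal in `X`, `Y` (the kernels of the actions on the neighbours).

Main result `Edge.trichotomy` : `X` or `Y` normalises `K ⊓ L`, or for some prime `p` the group `K ⊓ L` is a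
nontrivial `p`-group and both kernels are of characteristic `p`, `C_X(O_p(K)) ≤ O_p(K)`, `O_p(K) ≰ L`, and
the same with `X`, `Y` interchanged.
-/

set_option autoImplicit false
set_option linter.style.haveILetI false

namespace Cfsg.Agent.H263.TW

open Subgroup Cfsg Cfsg.Agent.Lib Cfsg.Agent.Lib.LocalCore Cfsg.Agent.H900.TWCore
open Cfsg.Agent.SignalizersComponents

variable {G : Type*} [Group G]

/-- The configuration. -/
structure Edge (X Y K L : Subgroup G) : Prop where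
  maxX : ∀ T : Subgroup G, X ⊓ Y ≤ T → T ≤ X → T = X ⊓ Y ∨ T = X
  maxY : ∀ T : Subgroup G, X ⊓ Y ≤ T → T ≤ Y → T = X ⊓ Y ∨ T = Y
  both : ∀ T : Subgroup G, T ≤ X ⊓ Y → X ≤ normalizer (T : Set G) → Y ≤ normalizer (T : Set G) → T = ⊥
  KB : K ≤ X ⊓ Y
  XK : X ≤ normalizer (K : Set G)
  leK : ∀ T : Subgroup G, T ≤ X ⊓ Y → X ≤ normalizer (T : Set G) → T ≤ K
  LB : L ≤ X ⊓ Y
  YL : Y ≤ normalizer (L : Set G)
  leL : ∀ T : Subgroup G, T ≤ X ⊓ Y → Y ≤ normalizer (T : Set G) → T ≤ L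

/-- `O_p(K)` as a subgroup of `G`. -/
def cp (p : ℕ) (K : Subgroup G) : Subgroup G := (pCore p K).map K.subtype

theorem cp_le (p : ℕ) (K : Subgroup G) : cp p K ≤ K := map_subtype_le _

theorem cp_pGroup (p : ℕ) (K : Subgroup G) : IsPGroup p (cp p K) := isPGroup_map_pCore p K

theorem conj_mem {K : Subgroup G} {g x : G} (hg : g ∈ normalizer (K : Set G)) (hx : x ∈ K) :
    g * x * g⁻¹ ∈ K := (mem_normalizer_iff.mp hg x).mp hx

theorem conj_mem' {K : Subgroup G} {g x : G} (hg : g ∈ normalizer (K : Set G)) (hx : x ∈ K) :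
    g⁻¹ * x * g ∈ K := by
  have := conj_mem (inv_mem hg) hx
  simpa using this

theorem conj_le {K : Subgroup G} {g : G} (hg : g ∈ normalizer (K : Set G)) :
    K.map (MulAut.conj g).toMonoidHom = K := by
  ext z
  constructor
  · rintro ⟨w, hw, rfl⟩
    exact conj_mem hg hw
  · intro hz
    refine ⟨g⁻¹ * z * g, conj_mem' hg hz, by simp only [mul_assoc, _root_.MulEquiv.toMonoidHom_eq_coe, _root_.MonoidHom.coe_coe, _root_.MulAut.conj_apply, _root_.mul_inv_cancel_left, _root_.mul_inv_cancel, _root_.mul_one]⟩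

/-- `N_G(K)` normalises `O_p(K)`. -/
theorem normalizer_le_cp (p : ℕ) (K : Subgroup G) :
    normalizer (K : Set G) ≤ normalizer (cp p K : Set G) := by
  apply mem_normalizer_of_forall
  intro g hg y hy
  have h2 : (cp p K).map (MulAut.conj g).toMonoidHom ≤ cp p K := by
    refine le_map_pCore ?_ ((isPGroup_map_pCore p K).map _) ?_
    · calc _ ≤ K.map (MulAut.conj g).toMonoidHom := Subgroup.map_mono (map_subtype_le _)
        _ = K := conj_le hg
    · apply mem_normalizer_of_forall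
      rintro x hx _ ⟨w, hw, rfl⟩
      have hx' : g⁻¹ * x * g ∈ K := conj_mem' hg hx
      refine ⟨(g⁻¹ * x * g) * w * (g⁻¹ * x * g)⁻¹, ?_, by simp only [mul_assoc, _root_.MulEquiv.toMonoidHom_eq_coe, _root_.mul_inv_rev, _root_.inv_inv, _root_.MonoidHom.coe_coe, _root_.MulAut.conj_apply, _root_.mul_inv_cancel_left, _root_.mul_inv_cancel, _root_.mul_one]⟩
      exact conj_mem (le_normalizer_map_pCore p K hx') hw
  exact h2 ⟨y, hy, rfl⟩

/-- The normaliser of `K` normalises the image of a characteristic subgroup of `K`. -/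
theorem normalizer_le_char {K : Subgroup G} (C : Subgroup K) (hC : C.Characteristic) :
    normalizer (K : Set G) ≤ normalizer ((C.map K.subtype : Subgroup G) : Set G) := by
  apply mem_normalizer_of_forall
  rintro g hg _ ⟨x, hx, rfl⟩
  let φ : MulAut K := K.normalizerMonoidHom ⟨g, hg⟩
  have h1 : φ x ∈ C := (Subgroup.characteristic_iff_map_le.mp hC) φ (Subgroup.mem_map_of_mem _ hx)
  exact ⟨φ x, h1, rfl⟩

/-- a `p`-subgroup of `K` normalised by `K` lies in `O_p(K)`. -/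
theorem le_cp {p : ℕ} {K T : Subgroup G} (hTK : T ≤ K) (hT : IsPGroup p T)
    (hn : K ≤ normalizer (T : Set G)) : T ≤ cp p K := le_map_pCore hTK hT hn

namespace Edge

variable {X Y K L : Subgroup G}

theorem symm (h : Edge X Y K L) : Edge Y X L K where
  maxX := fun T h1 h2 => by rw [inf_comm] at h1 ⊢; exact h.maxY T h1 h2
  maxY := fun T h1 h2 => by rw [inf_comm] at h1 ⊢; exact h.maxX T h1 h2
  both := fun T h1 h2 h3 => h.both T (by rwa [inf_comm] at h1) h3 h2
  KB := by rw [inf_comm]; exact h.LB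
  XK := h.YL
  leK := fun T h1 h2 => h.leL T (by rwa [inf_comm] at h1) h2
  LB := by rw [inf_comm]; exact h.KB
  YL := h.XK
  leL := fun T h1 h2 => h.leK T (by rwa [inf_comm] at h1) h2

theorem KY (h : Edge X Y K L) : K ≤ Y := h.KB.trans inf_le_right
theorem LX (h : Edge X Y K L) : L ≤ X := h.LB.trans inf_le_left
/-- `X ⊓ Y` normalises `K ⊓ L`. -/
theorem nE (h : Edge X Y K L) : X ⊓ Y ≤ normalizer ((K ⊓ L : Subgroup G) : Set G) := by
  apply mem_normalizer_of_forall
  intro g hg x hx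
  exact ⟨conj_mem (h.XK hg.1) hx.1, conj_mem (h.YL hg.2) hx.2⟩

/-- a normal subgroup of `X` outside `K` together with `X ⊓ Y` generates `X`. -/
theorem stepC (h : Edge X Y K L) {C D : Subgroup G} (hCX : C ≤ X) (hXC : X ≤ normalizer (C : Set G))
    (hCK : ¬ C ≤ K) (hCD : C ≤ normalizer (D : Set G)) (hBD : X ⊓ Y ≤ normalizer (D : Set G)) :
    X ≤ normalizer (D : Set G) := by
  have hCB : ¬ C ≤ X ⊓ Y := fun hle => hCK (h.leK C hle hXC)
  have hT : C ⊔ (X ⊓ Y) = X := by
    rcases h.maxX (C ⊔ (X ⊓ Y)) le_sup_right (sup_le hCX inf_le_left) with h1 | h1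
    · exact absurd (le_sup_left.trans h1.le) hCB
    · exact h1
  calc X = C ⊔ (X ⊓ Y) := hT.symm
    _ ≤ normalizer (D : Set G) := sup_le hCD hBD

/-- **The basic step**: if some subgroup of `X` outside `K` centralises `K / R`, `R` normal in `X`, then `X`
normalises each `X ⊓ Y`-invariant subgroup between `R` and `K`. -/
theorem step (h : Edge X Y K L) {R D Z : Subgroup G} (hXR : X ≤ normalizer (R : Set G)) (hRD : R ≤ D)
    (hDK : D ≤ K) (hBD : X ⊓ Y ≤ normalizer (D : Set G)) (hZX : Z ≤ X) (hZK : ¬ Z ≤ K)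
    (hc : ∀ z ∈ Z, ∀ k ∈ K, z * k * z⁻¹ * k⁻¹ ∈ R) : X ≤ normalizer (D : Set G) := by
  let C : Subgroup G :=
    { carrier := {x | x ∈ X ∧ ∀ k ∈ K, x * k * x⁻¹ * k⁻¹ ∈ R}
      mul_mem' := by
        rintro a b ⟨ha, ha'⟩ ⟨hb, hb'⟩
        refine ⟨mul_mem ha hb, fun k hk => ?_⟩
        have h1 := ha' _ (conj_mem (h.XK hb) hk)
        have h2 := hb' k hk
        have h3 : a * b * k * (a * b)⁻¹ * k⁻¹ =
            (a * (b * k * b⁻¹) * a⁻¹ * (b * k * b⁻¹)⁻¹) * (b * k * b⁻¹ * k⁻¹) := by group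
        rw [h3]
        exact mul_mem h1 h2
      one_mem' := ⟨one_mem X, fun k _ => by simp⟩
      inv_mem' := by
        rintro a ⟨ha, ha'⟩
        refine ⟨inv_mem ha, fun k hk => ?_⟩
        have h1 := ha' _ (conj_mem' (h.XK ha) hk)
        have h2 : a⁻¹ * k * a⁻¹⁻¹ * k⁻¹ = (a * (a⁻¹ * k * a) * a⁻¹ * (a⁻¹ * k * a)⁻¹)⁻¹ := by group
        rw [h2]
        exact inv_mem h1 }
  have hCX : C ≤ X := fun x hx => hx.1
  have hXC : X ≤ normalizer (C : Set G) := by
    apply mem_normalizer_of_forall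
    rintro g hg x ⟨hx, hx'⟩
    refine ⟨mul_mem (mul_mem hg hx) (inv_mem hg), fun k hk => ?_⟩
    have h1 := conj_mem (hXR hg) (hx' _ (conj_mem' (h.XK hg) hk))
    have h2 : g * x * g⁻¹ * k * (g * x * g⁻¹)⁻¹ * k⁻¹ =
        g * (x * (g⁻¹ * k * g) * x⁻¹ * (g⁻¹ * k * g)⁻¹) * g⁻¹ := by group
    rw [h2]
    exact h1
  have hZC : Z ≤ C := fun z hz => ⟨hZX hz, fun k hk => hc z hz k hk⟩
  refine h.stepC hCX hXC (fun hle => hZK (hZC.trans hle)) ?_ hBD
  apply mem_normalizer_of_forall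
  rintro x ⟨hx, hx'⟩ d hd
  have h1 := hRD (hx' d (hDK hd))
  have h2 : x * d * x⁻¹ = (x * d * x⁻¹ * d⁻¹) * d := by group
  rw [h2]
  exact mul_mem h1 hd

/-- A component of `L` is a component of `X ⊓ Y`. -/
theorem comp_B (h : Edge X Y K L) {C : Subgroup L} (hC : IsComponent C) :
    IsComponent ((C.map L.subtype).subgroupOf (X ⊓ Y)) := by
  have hLn : (L.subgroupOf (X ⊓ Y)).Normal :=
    normal_subgroupOf_of_le_normalizer (inf_le_right.trans h.YL)
  have h1 : IsComponent (C.map (subgroupOfEquivOfLe h.LB).symm.toMonoidHom) :=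
    Components.isComponent_map_equiv _ hC
  have h2 : IsComponent ((C.map (subgroupOfEquivOfLe h.LB).symm.toMonoidHom).map
      (L.subgroupOf (X ⊓ Y)).subtype) := Components.isComponent_map_subtype hLn.isSubnormal h1
  convert h2 using 1
  ext x
  constructor
  · intro hx
    obtain ⟨c, hc, hcx⟩ := mem_subgroupOf.mp hx
    exact ⟨_, ⟨c, hc, rfl⟩, Subtype.ext hcx⟩
  · rintro ⟨_, ⟨c, hc, rfl⟩, rfl⟩
    exact mem_subgroupOf.mpr ⟨c, hc, rfl⟩

/-- a component of `L` outside `K` forces `X` to normalise `K ⊓ L`. -/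
theorem of_component (h : Edge X Y K L) {C : Subgroup L} (hC : IsComponent C)
    (hCK : ¬ C.map L.subtype ≤ K) : X ≤ normalizer ((K ⊓ L : Subgroup G) : Set G) := by
  have hKn : (K.subgroupOf (X ⊓ Y)).Normal :=
    normal_subgroupOf_of_le_normalizer (inf_le_left.trans h.XK)
  have hCL : C.map L.subtype ≤ L := map_subtype_le _
  rcases Components.component_le_or_commutator_eq_bot (h.comp_B hC) hKn.isSubnormal with h3 | h3
  · exfalso
    apply hCK
    intro c hc
    have h4 : (⟨c, h.LB (hCL hc)⟩ : ↥(X ⊓ Y)) ∈ (C.map L.subtype).subgroupOf (X ⊓ Y) :=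
      mem_subgroupOf.mpr hc
    exact mem_subgroupOf.mp (h3 h4)
  · refine h.step (R := ⊥) (Z := C.map L.subtype) ?_ bot_le inf_le_left h.nE (hCL.trans h.LX) hCK ?_
    · intro g _
      rw [mem_normalizer_iff]
      intro x
      simp only [mem_bot, _root_.conj_eq_one_iff]
    · intro c hc k hk
      have h4 : (⟨c, h.LB (hCL hc)⟩ : ↥(X ⊓ Y)) ∈ (C.map L.subtype).subgroupOf (X ⊓ Y) :=
        mem_subgroupOf.mpr hc
      have h5 : (⟨k, h.KB hk⟩ : ↥(X ⊓ Y)) ∈ K.subgroupOf (X ⊓ Y) := mem_subgroupOf.mpr hk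
      have h6 := commutator_mem_commutator h4 h5
      rw [h3, mem_bot, commutatorElement_def] at h6
      rw [mem_bot]
      exact congrArg Subtype.val h6

/-- the layer of `L`, if contained in `K`, lies in the layer of `K`. -/
theorem layer_le (h : Edge X Y K L) (hc : ∀ C : Subgroup L, IsComponent C → C.map L.subtype ≤ K) :
    (layer L).map L.subtype ≤ (layer K).map K.subtype := by
  rw [layer, sSup_eq_iSup', Subgroup.map_iSup]
  refine iSup_le ?_
  rintro ⟨C, hC⟩
  change C.map L.subtype ≤ _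
  have hCL : C.map L.subtype ≤ L := map_subtype_le _
  have h1 := h.comp_B hC
  have h2 : (C.map L.subtype).subgroupOf (X ⊓ Y) ≤ K.subgroupOf (X ⊓ Y) :=
    Subgroup.comap_mono (hc C hC)
  have h3 := Subgroup.map_mono (f := (X ⊓ Y).subtype) (FStarNormal.component_le_layer_map h1 h2)
  rw [GenFitting.layer_subgroupOf h.KB, Subgroup.map_subgroupOf_eq_of_le (hCL.trans h.LB)] at h3
  exact h3

/-- `[O_r(L), K] ≤ O_r(K)`. -/
theorem comm_cp (h : Edge X Y K L) (r : ℕ) {z k : G} (hz : z ∈ cp r L) (hk : k ∈ K) :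
    z * k * z⁻¹ * k⁻¹ ∈ cp r K ⊓ cp r L := by
  have hB : X ⊓ Y ≤ normalizer ((K ⊓ cp r L : Subgroup G) : Set G) := by
    apply mem_normalizer_of_forall
    intro g hg x hx
    exact ⟨conj_mem (h.XK hg.1) hx.1, conj_mem (normalizer_le_cp r L (h.YL hg.2)) hx.2⟩
  have h1 : K ⊓ cp r L ≤ cp r K :=
    le_cp inf_le_left ((cp_pGroup r L).to_le inf_le_right) (h.KB.trans hB)
  have h2 : z * k * z⁻¹ * k⁻¹ ∈ K :=
    mul_mem (conj_mem (h.XK (h.LX (cp_le r L hz))) hk) (inv_mem hk)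
  have h3 : z * k * z⁻¹ * k⁻¹ ∈ cp r L := by
    have := conj_mem (normalizer_le_cp r L (h.YL (h.KY hk))) (inv_mem hz)
    have h4 := mul_mem hz this
    simpa only [mul_assoc] using h4
  exact ⟨h1 ⟨h2, h3⟩, h3⟩

/-- if `O_r(L) ≰ K` and `O_r(K) ≤ L`, then `X` normalises `K ⊓ L`. -/
theorem of_cp (h : Edge X Y K L) {r : ℕ} (h1 : ¬ cp r L ≤ K) (h2 : cp r K ≤ L) :
    X ≤ normalizer ((K ⊓ L : Subgroup G) : Set G) :=
  h.step (h.XK.trans (normalizer_le_cp r K)) (le_inf (cp_le r K) h2) inf_le_left h.nE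
    ((cp_le r L).trans h.LX) h1 fun _ hz _ hk => (h.comm_cp r hz hk).1

/-- if `O_r(L) ≰ K` then `X` normalises `O^r(K ⊓ L)`. -/
theorem of_cp_res (h : Edge X Y K L) {r : ℕ} (h1 : ¬ cp r L ≤ K) :
    X ≤ normalizer ((res r (K ⊓ L) : Subgroup G) : Set G) := by
  have hKE : K ≤ normalizer ((K ⊓ L : Subgroup G) : Set G) := h.KB.trans h.nE
  have hcE : cp r K ≤ normalizer ((K ⊓ L : Subgroup G) : Set G) := (cp_le r K).trans hKE
  have hD : X ≤ normalizer ((cp r K ⊔ (K ⊓ L) : Subgroup G) : Set G) := by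
    refine h.step (h.XK.trans (normalizer_le_cp r K)) le_sup_left (sup_le (cp_le r K) inf_le_left) ?_
      ((cp_le r L).trans h.LX) h1 fun _ hz _ hk => (h.comm_cp r hz hk).1
    intro g hg
    have ha : (cp r K).map (MulAut.conj g).toMonoidHom = cp r K :=
      conj_le (normalizer_le_cp r K (h.XK hg.1))
    have hb : (K ⊓ L).map (MulAut.conj g).toMonoidHom = K ⊓ L := conj_le (h.nE hg)
    rw [mem_normalizer_iff]
    intro x
    have hc : (cp r K ⊔ (K ⊓ L)).map (MulAut.conj g).toMonoidHom = cp r K ⊔ (K ⊓ L) := by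
      rw [Subgroup.map_sup, ha, hb]
    constructor
    · intro hx
      rw [← hc]
      exact ⟨x, hx, rfl⟩
    · intro hx
      rw [← hc] at hx
      obtain ⟨w, hw, hw'⟩ := hx
      have : w = x := by
        have h5 : g * w * g⁻¹ = g * x * g⁻¹ := hw'
        simpa only [_root_.mul_left_inj, _root_.mul_right_inj] using h5
      rwa [← this]
  have hres : ∀ x : G, x ∈ cp r K ⊔ (K ⊓ L) → (orderOf x).Coprime r → x ∈ K ⊓ L := by
    intro x hx hc
    obtain ⟨n, hn⟩ := pow_mem_of_mem_sup (cp_pGroup r K) hcE hx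
    exact mem_of_pow_mem_of_coprime hc hn
  have hEle : K ⊓ L ≤ cp r K ⊔ (K ⊓ L) := le_sup_right
  apply mem_normalizer_of_forall
  intro g hg y hy
  refine conj_mem_of_gen (fun x hx hc => mem_res (hres _ ?_ ?_) ?_) hy
  · exact conj_mem (hD hg) (hEle hx)
  · rwa [orderOf_conj']
  · rwa [orderOf_conj']

/-- if no `O_r` and no component leaves the other kernel then `K = ⊥`. -/
theorem exists_cp [Finite G] (h : Edge X Y K L) (h1 : ¬ X ≤ normalizer ((K ⊓ L : Subgroup G) : Set G))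
    (h2 : ¬ Y ≤ normalizer ((K ⊓ L : Subgroup G) : Set G)) :
    ∃ p : ℕ, p.Prime ∧ ¬ cp p L ≤ K ∧ ¬ cp p K ≤ L := by
  by_contra hno
  push Not at hno
  have h2' : ¬ Y ≤ normalizer ((L ⊓ K : Subgroup G) : Set G) := by rwa [inf_comm]
  have hr1 : ∀ r : ℕ, r.Prime → cp r L ≤ K := by
    intro r hr
    by_contra hc
    exact h1 (h.of_cp hc (hno r hr hc))
  have hr2 : ∀ r : ℕ, r.Prime → cp r K ≤ L := by
    intro r hr
    by_contra hc
    exact h2' (h.symm.of_cp hc (hr1 r hr))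
  have hK0 : ∀ r : ℕ, r.Prime → pCore r K = ⊥ := by
    intro r hr
    have ha : cp r K ≤ cp r L := le_cp (hr2 r hr) (cp_pGroup r K)
      (h.LX.trans (h.XK.trans (normalizer_le_cp r K)))
    have hb : cp r L ≤ cp r K := le_cp (hr1 r hr) (cp_pGroup r L)
      (h.KY.trans (h.YL.trans (normalizer_le_cp r L)))
    have hab : cp r K = cp r L := le_antisymm ha hb
    have h3 : cp r K = ⊥ := h.both _ ((cp_le r K).trans h.KB) (h.XK.trans (normalizer_le_cp r K))
      (by rw [hab]; exact h.YL.trans (normalizer_le_cp r L))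
    rwa [cp, Subgroup.map_eq_bot_iff_of_injective _ K.subtype_injective] at h3
  have hl : layer K = ⊥ := by
    have ha : (layer L).map L.subtype ≤ (layer K).map K.subtype :=
      h.layer_le fun C hC => by
        by_contra hc
        exact h1 (h.of_component hC hc)
    have hb : (layer K).map K.subtype ≤ (layer L).map L.subtype :=
      h.symm.layer_le fun C hC => by
        by_contra hc
        exact h2' (h.symm.of_component hC hc)
    have hab := le_antisymm hb ha
    have h3 : (layer K).map K.subtype = ⊥ := by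
      refine h.both _ ((map_subtype_le _).trans h.KB) (h.XK.trans ?_) ?_
      · exact normalizer_le_char _ (Components.layer_characteristic K)
      · rw [hab]
        exact h.YL.trans (normalizer_le_char _ (Components.layer_characteristic L))
    rwa [Subgroup.map_eq_bot_iff_of_injective _ K.subtype_injective] at h3
  have hF : fittingSubgroup K = ⊥ := by
    rw [Cores.fittingSubgroup_eq_iSup_pCore, iSup_eq_bot]
    intro p
    exact hK0 p p.2
  have hG : generalizedFittingSubgroup K = ⊥ := by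
    rw [generalizedFittingSubgroup, hl, hF, bot_sup_eq]
  have h4 := GenFitting.centralizer_genFitting_le (G := K)
  have h5 : (⊤ : Subgroup K) ≤ ⊥ := by
    calc (⊤ : Subgroup K) ≤ centralizer (generalizedFittingSubgroup K : Set K) := by
          rw [hG]
          intro x _
          rw [mem_centralizer_iff]
          intro y hy
          rw [SetLike.mem_coe, mem_bot] at hy
          rw [hy, one_mul, mul_one]
      _ ≤ ⊥ := by rwa [hG] at h4 ⊢
  apply h1
  have hKb : K = ⊥ := by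
    rw [eq_bot_iff]
    intro x hx
    have : (⟨x, hx⟩ : K) ∈ (⊥ : Subgroup K) := h5 trivial
    rw [mem_bot] at this ⊢
    exact congrArg Subtype.val this
  rw [hKb, bot_inf_eq]
  intro g _
  rw [mem_normalizer_iff]
  intro x
  simp only [mem_bot, _root_.conj_eq_one_iff]

/-- one half of the description of the generic case. -/
theorem charP [Finite G] (h : Edge X Y K L) {p : ℕ} (hp : p.Prime)
    (hE : IsPGroup p (K ⊓ L : Subgroup G)) (hE0 : K ⊓ L ≠ ⊥)
    (h1 : ¬ X ≤ normalizer ((K ⊓ L : Subgroup G) : Set G))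
    (h2 : ¬ Y ≤ normalizer ((K ⊓ L : Subgroup G) : Set G)) :
    ∀ x ∈ X, (∀ k ∈ cp p K, x * k = k * x) → x ∈ cp p K := by
  have : Fact p.Prime := ⟨hp⟩
  have h2' : ¬ Y ≤ normalizer ((L ⊓ K : Subgroup G) : Set G) := by rwa [inf_comm]
  have hEp : K ⊓ L ≤ cp p K := le_cp inf_le_left hE (h.KB.trans h.nE)
  -- the other primes
  have hr : ∀ r : ℕ, r.Prime → r ≠ p → pCore r K = ⊥ := by
    intro r hr hrp
    have : Fact r.Prime := ⟨hr⟩
    have hrE : K ⊓ L ≠ ⊥ → ¬ IsPGroup r (K ⊓ L : Subgroup G) := by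
      intro h0 h3
      apply h0
      obtain ⟨a, ha⟩ := (IsPGroup.iff_card).mp hE
      obtain ⟨b, hb⟩ := (IsPGroup.iff_card).mp h3
      rw [← Subgroup.card_eq_one]
      have h4 : Nat.card (K ⊓ L : Subgroup G) ∣ Nat.gcd (p ^ a) (r ^ b) :=
        Nat.dvd_gcd ⟨1, by rw [ha, mul_one]⟩ ⟨1, by rw [hb, mul_one]⟩
      rw [(Nat.Coprime.pow a b ((Nat.coprime_primes hp hr).mpr hrp.symm)).gcd_eq_one] at h4
      exact Nat.dvd_one.mp h4
    -- `O_r(K) ≤ L`
    have h3 : cp r K ≤ L := by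
      by_contra hc
      -- `O^r(E)` is normal in `Y`
      have h4 := h.symm.of_cp_res hc
      -- `E` is generated by its `r'`-elements
      have h5 : res r (L ⊓ K) = L ⊓ K := by
        refine le_antisymm (res_le _ _) fun x hx => mem_res hx ?_
        obtain ⟨n, hn⟩ := hE ⟨x, hx.2, hx.1⟩
        have h6 : x ^ p ^ n = 1 := congrArg Subtype.val hn
        exact Nat.Coprime.coprime_dvd_left (orderOf_dvd_of_pow_eq_one h6)
          (Nat.Coprime.pow_left n ((Nat.coprime_primes hp hr).mpr hrp.symm))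
      rw [h5] at h4
      exact h2' h4
    have h4 : cp r K ≤ K ⊓ L := le_inf (cp_le r K) h3
    have h5 : cp r K = ⊥ := by
      have ha := hE.to_le h4
      obtain ⟨a, ha⟩ := (IsPGroup.iff_card).mp ha
      obtain ⟨b, hb⟩ := (IsPGroup.iff_card).mp (cp_pGroup r K)
      rw [← Subgroup.card_eq_one]
      have h6 : Nat.card (cp r K) ∣ Nat.gcd (p ^ a) (r ^ b) :=
        Nat.dvd_gcd ⟨1, by rw [ha, mul_one]⟩ ⟨1, by rw [hb, mul_one]⟩
      rw [(Nat.Coprime.pow a b ((Nat.coprime_primes hp hr).mpr hrp.symm)).gcd_eq_one] at h6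
      exact Nat.dvd_one.mp h6
    rwa [cp, Subgroup.map_eq_bot_iff_of_injective _ K.subtype_injective] at h5
  have hl : layer K = ⊥ := by
    rw [layer, sSup_eq_bot]
    intro C hC
    exfalso
    have hCL : C.map K.subtype ≤ L := by
      by_contra hc
      exact h2' (h.symm.of_component hC hc)
    have hCE : C.map K.subtype ≤ K ⊓ L := le_inf (map_subtype_le _) hCL
    have h3 : IsPGroup p C := (hE.to_le hCE).of_injective
      (C.equivMapOfInjective K.subtype K.subtype_injective).toMonoidHom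
      (C.equivMapOfInjective K.subtype K.subtype_injective).injective
    have h4 : Group.IsNilpotent C := h3.isNilpotent
    exact Components.quasisimple_not_isSolvable hC.2 inferInstance
  have hF : generalizedFittingSubgroup K = pCore p K := by
    rw [generalizedFittingSubgroup, hl, bot_sup_eq, Cores.fittingSubgroup_eq_iSup_pCore]
    apply le_antisymm
    · refine iSup_le fun r => ?_
      by_cases hrp : (r : ℕ) = p
      · rw [hrp]
      · rw [hr r r.2 hrp]; exact bot_le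
    · exact le_iSup (fun r : Nat.Primes => pCore (r : ℕ) K) ⟨p, hp⟩
  have hCK := CharP.centralizer_pCore_le_of_genFitting_eq hF
  intro x hx hxc
  -- `x ∈ K`
  have hxK : x ∈ K := by
    by_contra hxK
    apply h1
    have hXc : X ≤ normalizer (cp p K : Set G) := h.XK.trans (normalizer_le_cp p K)
    refine h.stepC (C := X ⊓ centralizer (cp p K : Set G)) inf_le_left ?_ ?_ ?_ h.nE
    · apply mem_normalizer_of_forall
      rintro g hg c ⟨hc, hc'⟩
      refine ⟨X.mul_mem (X.mul_mem hg hc) (X.inv_mem hg), ?_⟩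
      refine mem_centralizer_iff.mpr fun y hy => ?_
      have h3 := mem_centralizer_iff.mp hc' (g⁻¹ * y * g) (conj_mem' (hXc hg) hy)
      calc y * (g * c * g⁻¹) = g * ((g⁻¹ * y * g) * c) * g⁻¹ := by group
        _ = g * (c * (g⁻¹ * y * g)) * g⁻¹ := by rw [h3]
        _ = g * c * g⁻¹ * y := by group
    · intro hle
      exact hxK (hle ⟨hx, mem_centralizer_iff.mpr fun y hy => (hxc y hy).symm⟩)
    · refine le_trans inf_le_right ?_
      refine le_trans ?_ (centralizer_le_normalizer _)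
      exact centralizer_le hEp
  have h3 : (⟨x, hxK⟩ : K) ∈ centralizer (pCore p K : Set K) := by
    rw [mem_centralizer_iff]
    intro y hy
    exact Subtype.ext (hxc y ⟨y, hy, rfl⟩).symm
  exact ⟨⟨x, hxK⟩, hCK h3, rfl⟩

/-- **The trichotomy.** -/
theorem trichotomy [Finite G] (h : Edge X Y K L) :
    X ≤ normalizer ((K ⊓ L : Subgroup G) : Set G) ∨ Y ≤ normalizer ((K ⊓ L : Subgroup G) : Set G) ∨
      ∃ p : ℕ, p.Prime ∧ IsPGroup p (K ⊓ L : Subgroup G) ∧ K ⊓ L ≠ ⊥ ∧ ¬ cp p L ≤ K ∧ ¬ cp p K ≤ L ∧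
        (∀ x ∈ X, (∀ k ∈ cp p K, x * k = k * x) → x ∈ cp p K) ∧
        ∀ y ∈ Y, (∀ l ∈ cp p L, y * l = l * y) → y ∈ cp p L := by
  by_cases h1 : X ≤ normalizer ((K ⊓ L : Subgroup G) : Set G)
  · exact Or.inl h1
  by_cases h2 : Y ≤ normalizer ((K ⊓ L : Subgroup G) : Set G)
  · exact Or.inr (Or.inl h2)
  refine Or.inr (Or.inr ?_)
  obtain ⟨p, hp, hpL, hpK⟩ := h.exists_cp h1 h2
  have hE0 : K ⊓ L ≠ ⊥ := by
    intro h0
    apply h1
    rw [h0]
    intro g _
    rw [mem_normalizer_iff]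
    intro x
    simp only [mem_bot, _root_.conj_eq_one_iff]
  have h2' : ¬ Y ≤ normalizer ((L ⊓ K : Subgroup G) : Set G) := by rwa [inf_comm]
  have h1' : ¬ X ≤ normalizer ((L ⊓ K : Subgroup G) : Set G) := by rwa [inf_comm]
  have hE : IsPGroup p (K ⊓ L : Subgroup G) := by
    by_contra hno
    refine res_ne_bot hp hno (h.both _ ((res_le _ _).trans (inf_le_left.trans h.KB)) (h.of_cp_res hpL) ?_)
    have := h.symm.of_cp_res hpK
    rwa [inf_comm] at this
  refine ⟨p, hp, hE, hE0, hpL, hpK, h.charP hp hE hE0 h1 h2, ?_⟩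
  have hE' : IsPGroup p (L ⊓ K : Subgroup G) := by rwa [inf_comm]
  have hE0' : L ⊓ K ≠ ⊥ := by rwa [inf_comm]
  exact h.symm.charP hp hE' hE0' h2' h1'

end Edge

end Cfsg.Agent.H263.TW
end

-- part: H263/TW/Pol
section
/-!
# Thompson-Wielandt for strongly transitive generalized polygons (helper263): `StTW`

* `K_smul`, `S_smul` : conjugation;
* `edge` : `Edge (S x) (S y) (K x) (K y)` for adjacent `x`, `y`;
* `st_tw : StTW`;
* `K_eq_bot_of_le` : in case (B), if `K x ≤ K y` for one edge then `K x = ⊥`.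
-/

set_option autoImplicit false

namespace Cfsg.Agent.H263.TW

open Subgroup Cfsg.Agent.H873.Tits Cfsg.Agent.Lib Cfsg.Agent.Lib.LocalCore Cfsg.Agent.H900.TWCore

universe u v

variable {G : Type u} [Group G] {V : Type v} [MulAction G V]

theorem mem_S {P : Pol G V} {v : V} {g : G} : g ∈ P.S v ↔ g • v = v := Iff.rfl

theorem K_smul (P : Pol G V) (g : G) (v : V) : P.K (g • v) = (P.K v).map (MulAut.conj g).toMonoidHom := by
  ext a
  rw [mem_map_equiv, MulAut.conj_symm_apply, P.mem_K, P.mem_K]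
  constructor
  · rintro ⟨h1, h2⟩
    refine ⟨by rw [mul_smul, mul_smul, h1, inv_smul_smul], fun w hw => ?_⟩
    rw [mul_smul, mul_smul, h2 _ (P.smul_adj g hw), inv_smul_smul]
  · rintro ⟨h1, h2⟩
    refine ⟨?_, fun w hw => ?_⟩
    · rw [mul_smul, mul_smul, inv_smul_eq_iff] at h1
      exact h1
    · have h3 : P.adj v (g⁻¹ • w) := by
        have := P.smul_adj g⁻¹ hw
        rwa [inv_smul_smul] at this
      have h4 := h2 _ h3
      rw [mul_smul, mul_smul, smul_inv_smul, inv_smul_eq_iff, smul_inv_smul] at h4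
      exact h4

theorem S_smul (P : Pol G V) (g : G) (v : V) : P.S (g • v) = (P.S v).map (MulAut.conj g).toMonoidHom := by
  ext a
  rw [mem_map_equiv, MulAut.conj_symm_apply, mem_S, mem_S, mul_smul, mul_smul, inv_smul_eq_iff]

theorem conj_mem_K {P : Pol G V} {v : V} {g a : G} (hg : g ∈ P.S v) (ha : a ∈ P.K v) : g * a * g⁻¹ ∈ P.K v := by
  have h1 : g * a * g⁻¹ ∈ P.K (g • v) := by
    rw [K_smul]
    exact ⟨a, ha, rfl⟩
  rwa [mem_S.1 hg] at h1

theorem conj_mem_K' {P : Pol G V} {v : V} {g a : G} (ha : a ∈ P.K v) : g * a * g⁻¹ ∈ P.K (g • v) := by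
  rw [K_smul]
  exact ⟨a, ha, rfl⟩

theorem S_le_normalizer_K (P : Pol G V) (v : V) : P.S v ≤ normalizer (P.K v : Set G) := by
  intro g hg
  rw [mem_normalizer_iff]
  intro a
  refine ⟨fun ha => conj_mem_K hg ha, fun ha => ?_⟩
  have h1 := conj_mem_K (inv_mem hg) ha
  have h2 : g⁻¹ * (g * a * g⁻¹) * g⁻¹⁻¹ = a := by group
  rwa [h2] at h1

theorem K_le_S_nb {P : Pol G V} {x y : V} (h : P.adj x y) : P.K x ≤ P.S y := fun _ ha => ha.2 y h

/-- transitivity of `S x` on the neighbours -/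
theorem trans_nb {P : Pol G V} (F : Facts P) {x y z : V} (hy : P.adj x y) (hz : P.adj x z) :
    ∃ g ∈ P.S x, g • y = z := by
  by_cases h : y = z
  · exact ⟨1, one_mem _, by rw [one_smul, h]⟩
  · obtain ⟨g, hg, h1, -⟩ := F.two_trans hy hz h hz hy (Ne.symm h)
    exact ⟨g, hg, h1⟩

theorem max_aux {P : Pol G V} (F : Facts P) {x y : V} (hxy : P.adj x y) (T : Subgroup G) (h1 : P.S x ⊓ P.S y ≤ T)
    (h2 : T ≤ P.S x) : T = P.S x ⊓ P.S y ∨ T = P.S x := by
  by_cases h : T ≤ P.S y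
  · exact Or.inl (le_antisymm (le_inf h2 h) h1)
  right
  obtain ⟨t, ht, hty⟩ := SetLike.not_le_iff_exists.1 h
  refine le_antisymm h2 ?_
  intro g hg
  have hadj : ∀ g' ∈ P.S x, P.adj x (g' • y) := by
    intro g' hg'
    have := P.smul_adj g' hxy
    rwa [mem_S.1 hg'] at this
  by_cases hgy : g • y = y
  · exact h1 ⟨hg, hgy⟩
  obtain ⟨a, ha, ha1, ha2⟩ := F.two_trans hxy (hadj t (h2 ht)) (fun h => hty (mem_S.2 h.symm)) hxy (hadj g hg)
    (fun h => hgy h.symm)
  have h3 : a ∈ T := h1 ⟨ha, ha1⟩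
  have h4 : (a * t)⁻¹ * g ∈ T := by
    have h5 : (a * t)⁻¹ * g ∈ P.S y := by
      rw [mem_S, mul_smul, inv_smul_eq_iff, mul_smul, ha2]
    have h6 : (a * t)⁻¹ * g ∈ P.S x := mul_mem (inv_mem (mul_mem ha (h2 ht))) hg
    exact h1 ⟨h6, h5⟩
  have h5 := mul_mem (mul_mem h3 ht) h4
  rwa [mul_inv_cancel_left] at h5

theorem le_K {P : Pol G V} (F : Facts P) {x y : V} (hxy : P.adj x y) (T : Subgroup G) (h1 : T ≤ P.S x ⊓ P.S y)
    (h2 : P.S x ≤ normalizer (T : Set G)) : T ≤ P.K x := by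
  intro t ht
  refine ⟨(h1 ht).1, fun z hz => ?_⟩
  obtain ⟨g, hg, rfl⟩ := trans_nb F hxy hz
  have h3 : g⁻¹ * t * g ∈ T := conj_mem' (h2 hg) ht
  have h4 := mem_S.1 (h1 h3).2
  rw [mul_smul, mul_smul, inv_smul_eq_iff] at h4
  exact h4

theorem edge {P : Pol G V} (F : Facts P) {x y : V} (hxy : P.adj x y) : Edge (P.S x) (P.S y) (P.K x) (P.K y) where
  maxX := max_aux F hxy
  maxY := fun T h1 h2 => by
    rw [inf_comm] at h1 ⊢
    exact max_aux F (P.symm hxy) T h1 h2
  both := fun T h1 h2 h3 => F.core T hxy h1 (fun g hg a ha => conj_mem (K := T) (h2 hg) ha)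
    fun g hg a ha => conj_mem (K := T) (h3 hg) ha
  KB := le_inf (P.K_le_S x) (K_le_S_nb hxy)
  XK := S_le_normalizer_K P x
  leK := le_K F hxy
  LB := le_inf (K_le_S_nb (P.symm hxy)) (P.K_le_S y)
  YL := S_le_normalizer_K P y
  leL := fun T h1 h2 => le_K F (P.symm hxy) T (by rwa [inf_comm] at h1) h2

/-! ### Transport -/

theorem edge_trans (P : Pol G V) {x y x' y' : V} (h : P.adj x y) (h' : P.adj x' y') (ht : P.tp x = P.tp x') :
    ∃ g : G, g • x = x' ∧ g • y = y' := by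
  have h1 : ∀ {a b : V}, P.adj a b → IsPath P.adj 1 (fun i => if i = 0 then a else b) := by
    intro a b hab
    refine ⟨fun i hi => ?_, fun i hi => by omega⟩
    have : i = 0 := by omega
    subst this
    simpa using hab
  have h2 : 1 ≤ P.n + 1 := by omega
  obtain ⟨g, hg⟩ := P.trans h2 (h1 h) (h1 h') (by simpa using ht)
  exact ⟨g, by simpa using hg 0 (by omega), by simpa using hg 1 le_rfl⟩

/-- the property of case (A) for one edge -/
def PA (P : Pol G V) (p : ℕ) (x y : V) : Prop :=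
  IsPGroup p (P.K x ⊓ P.K y : Subgroup G) ∧ ¬ cp p (P.K y) ≤ P.K x ∧ ¬ cp p (P.K x) ≤ P.K y

theorem cp_map_conj (p : ℕ) (H : Subgroup G) (g : G) :
    (cp p H).map (MulAut.conj g).toMonoidHom ≤ cp p (H.map (MulAut.conj g).toMonoidHom) := by
  refine le_cp (Subgroup.map_mono (cp_le p H)) ((cp_pGroup p H).map _) ?_
  apply mem_normalizer_of_forall
  rintro _ ⟨a, ha, rfl⟩ _ ⟨b, hb, rfl⟩
  refine ⟨a * b * a⁻¹, conj_mem (normalizer_le_cp p H (le_normalizer ha)) hb, by simp only [mul_assoc, _root_.MulEquiv.toMonoidHom_eq_coe, _root_.MonoidHom.coe_coe, _root_.MulAut.conj_apply, _root_.inv_mul_cancel_left, _root_.mul_inv_rev, _root_.inv_inv]⟩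

theorem PA.smul {P : Pol G V} {p : ℕ} {x y : V} (h : PA P p x y) (g : G) : PA P p (g • x) (g • y) := by
  obtain ⟨h1, h2, h3⟩ := h
  refine ⟨?_, ?_, ?_⟩
  · rw [K_smul, K_smul, ← Subgroup.map_inf _ _ _ (MulAut.conj g).injective]
    exact h1.map _
  · intro h4
    apply h2
    rw [K_smul, K_smul] at h4
    intro a ha
    obtain ⟨b, hb, hab⟩ := h4 (cp_map_conj p _ g ⟨a, ha, rfl⟩)
    rwa [← (MulAut.conj g).injective hab]
  · intro h4
    apply h3
    rw [K_smul, K_smul] at h4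
    intro a ha
    obtain ⟨b, hb, hab⟩ := h4 (cp_map_conj p _ g ⟨a, ha, rfl⟩)
    rwa [← (MulAut.conj g).injective hab]

theorem PA.symm {P : Pol G V} {p : ℕ} {x y : V} (h : PA P p x y) : PA P p y x :=
  ⟨by rw [inf_comm]; exact h.1, h.2.2, h.2.1⟩

theorem caseA_of {P : Pol G V} {p : ℕ} (hp : p.Prime) {x y : V} (hxy : P.adj x y) (h : PA P p x y) : CaseA P p := by
  have h1 : ∀ {x' y' : V}, P.adj x' y' → PA P p x' y' := by
    intro x' y' h'
    by_cases ht : P.tp x = P.tp x'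
    · obtain ⟨g, rfl, rfl⟩ := edge_trans P hxy h' ht
      exact h.smul g
    · have ht' : P.tp x = P.tp y' := by
        rw [P.tp_adj h']
        revert ht
        cases P.tp x <;> cases P.tp x' <;> simp
      obtain ⟨g, rfl, rfl⟩ := edge_trans P hxy (P.symm h') ht'
      exact (h.smul g).symm
  refine ⟨hp, fun h' => (h1 h').1, fun {x' y'} h' => ⟨cp p (P.K y'), cp_le _ _, ?_, cp_pGroup _ _, (h1 h').2.1⟩⟩
  constructor
  intro n hn g
  exact conj_mem (K := cp p (P.K y')) (normalizer_le_cp p _ (S_le_normalizer_K P y' g.2)) hn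

/-- the property of case (B) for one edge -/
theorem norm_smul {P : Pol G V} {x y : V} (h : P.S y ≤ normalizer ((P.K x ⊓ P.K y : Subgroup G) : Set G)) (g : G) :
    P.S (g • y) ≤ normalizer ((P.K (g • x) ⊓ P.K (g • y) : Subgroup G) : Set G) := by
  rw [S_smul, K_smul, K_smul, ← Subgroup.map_inf _ _ _ (MulAut.conj g).injective]
  apply mem_normalizer_of_forall
  rintro _ ⟨a, ha, rfl⟩ _ ⟨b, hb, rfl⟩
  exact ⟨a * b * a⁻¹, conj_mem (K := P.K x ⊓ P.K y) (h ha) hb, by simp only [mul_assoc, _root_.MulEquiv.toMonoidHom_eq_coe, _root_.MonoidHom.coe_coe, _root_.MulAut.conj_apply, _root_.inv_mul_cancel_left, _root_.mul_inv_rev, _root_.inv_inv]⟩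

/-- In case (B) the kernels `K x` (type not `b`) are trivial as soon as one of them is contained in a neighbouring kernel. -/
theorem K_eq_bot_of_norm {P : Pol G V} (F : Facts P) {x y : V} (hxy : P.adj x y)
    (h : P.S y ≤ normalizer ((P.K x ⊓ P.K y : Subgroup G) : Set G)) (hle : P.K x ≤ P.K y) : P.K x = ⊥ := by
  have h1 : P.K x ⊓ P.K y = P.K x := inf_eq_left.2 hle
  rw [h1] at h
  exact (edge F hxy).both _ (edge F hxy).KB (S_le_normalizer_K P x) h

theorem caseB_of {P : Pol G V} (F : Facts P) {x y : V} (hxy : P.adj x y)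
    (h : P.S y ≤ normalizer ((P.K x ⊓ P.K y : Subgroup G) : Set G)) : ∃ b, CaseB P b := by
  -- all edges
  have hall : ∀ {x' y' : V}, P.adj x' y' → P.tp y' = P.tp y →
      P.S y' ≤ normalizer ((P.K x' ⊓ P.K y' : Subgroup G) : Set G) := by
    intro x' y' h' ht
    obtain ⟨g, rfl, rfl⟩ := edge_trans P (P.symm hxy) (P.symm h') ht.symm
    exact norm_smul h g
  by_cases hle : P.K x ≤ P.K y
  · -- `K x = ⊥`
    have h0 : P.K x = ⊥ := K_eq_bot_of_norm F hxy h hle
    have h0' : ∀ {v : V}, P.tp v = P.tp x → P.K v = ⊥ := by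
      intro v hv
      obtain ⟨w, hw⟩ : ∃ w, P.adj v w := by
        have h3 : Nat.card {w : V // P.adj v w} ≠ 0 := by rw [P.card_nb v]; omega
        obtain ⟨⟨w, hw⟩⟩ := (Nat.card_ne_zero.1 h3).1
        exact ⟨w, hw⟩
      obtain ⟨g, rfl, -⟩ := edge_trans P hxy hw hv.symm
      rw [K_smul, h0, Subgroup.map_bot]
    refine ⟨P.tp x, ⟨fun {x' y' z'} hy' _ _ => ?_, fun {w' x' y'} hy' _ _ _ => ?_⟩⟩
    · rw [h0' hy', inf_bot_eq]; exact bot_le
    · rw [h0' hy', bot_inf_eq]; exact bot_le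
  · refine ⟨P.tp y, ?_⟩
    have hball : ∀ {x' y' z' : V}, P.tp y' = P.tp y → P.adj x' y' → P.adj z' y' → P.K x' ⊓ P.K y' ≤ P.K z' := by
      intro x' y' z' ht hx' hz'
      obtain ⟨g, hg, rfl⟩ := trans_nb F (P.symm hx') (P.symm hz')
      intro a ha
      have h3 : g⁻¹ * a * g ∈ P.K x' ⊓ P.K y' := conj_mem' (hall hx' ht hg) ha
      have h4 : g * (g⁻¹ * a * g) * g⁻¹ ∈ P.K (g • x') := conj_mem_K' h3.1
      have h5 : g * (g⁻¹ * a * g) * g⁻¹ = a := by group
      rwa [h5] at h4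
    refine ⟨hball, ?_⟩
    intro w' x' y' ht hx' hw' hne k hk
    -- an element of some `K x''`, `x'' ~ y'`, moving `x'`
    obtain ⟨x'', a, hx'', ha, hax⟩ : ∃ (x'' : V) (a : G), P.adj x'' y' ∧ a ∈ P.K x'' ∧ a • x' ≠ x' := by
      obtain ⟨a, ha, hay⟩ := SetLike.not_le_iff_exists.1 hle
      obtain ⟨z, hz, haz⟩ : ∃ z, P.adj y z ∧ a • z ≠ z := by
        by_contra hcon
        push Not at hcon
        exact hay ⟨K_le_S_nb hxy ha, hcon⟩
      obtain ⟨g, h1, h2⟩ := edge_trans P hz (P.symm hx') ht.symm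
      refine ⟨g • x, g * a * g⁻¹, ?_, conj_mem_K' ha, ?_⟩
      · rw [← h1]; exact P.smul_adj g hxy
      · rw [← h2, mul_smul, mul_smul, inv_smul_smul]
        exact fun h => haz (smul_left_cancel g h)
    set z := a • x' with hz
    have hay : a • y' = y' := K_le_S_nb hx'' ha
    have hzy : P.adj z y' := by
      have := P.smul_adj a hx'
      rwa [hay] at this
    set u := a • w' with hu
    have huz : P.adj z u := P.smul_adj a (P.symm hw')
    have huy : u ≠ y' := by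
      intro h3
      apply hne
      rw [← hay, hu] at h3
      exact smul_left_cancel a h3
    -- elements of `K y'` fix `w'` iff they fix `u`
    have hcomm : ∀ k' ∈ P.K y', a * k' * a⁻¹ * k'⁻¹ ∈ P.K x'' ⊓ P.K y' := by
      intro k' hk'
      refine ⟨?_, ?_⟩
      · have h3 : k' * a⁻¹ * k'⁻¹ ∈ P.K x'' := conj_mem_K (K_le_S_nb (P.symm hx'') hk') (inv_mem ha)
        have h4 := mul_mem ha h3
        rwa [show a * (k' * a⁻¹ * k'⁻¹) = a * k' * a⁻¹ * k'⁻¹ by group] at h4
      · have h5 : a * k' * a⁻¹ ∈ P.K y' := conj_mem_K (mem_S.2 hay) hk'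
        exact (P.K y').mul_mem h5 ((P.K y').inv_mem hk')
    have hfix : ∀ k' ∈ P.K y', (k' • w' = w' ↔ k' • u = u) := by
      intro k' hk'
      have h3 : (a * k' * a⁻¹ * k'⁻¹) ∈ P.K z := hball ht hx'' hzy (hcomm k' hk')
      have h3' : (a * k' * a⁻¹ * k'⁻¹)⁻¹ • u = u := (inv_mem h3).2 u huz
      have h3'' : (a * k' * a⁻¹ * k'⁻¹) • u = u := h3.2 u huz
      constructor
      · intro h4
        have h5 : k' • u = (a * k' * a⁻¹ * k'⁻¹)⁻¹ • (a * k' * a⁻¹) • u := by
          rw [← mul_smul (a * k' * a⁻¹ * k'⁻¹)⁻¹ (a * k' * a⁻¹) u,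
            show (a * k' * a⁻¹ * k'⁻¹)⁻¹ * (a * k' * a⁻¹) = k' by group]
        have h6 : (a * k' * a⁻¹) • u = u := by
          rw [hu, mul_smul, mul_smul, inv_smul_smul, h4]
        rw [h5, h6, h3']
      · intro h4
        have h5 : k' • w' = a⁻¹ • ((a * k' * a⁻¹ * k'⁻¹) • k' • u) := by
          rw [hu, ← mul_smul, ← mul_smul, ← mul_smul,
            show a⁻¹ * (a * k' * a⁻¹ * k'⁻¹) * k' * a = k' by group]
        rw [h5, h4, h3'', hu, inv_smul_smul]
    refine ⟨hk.1.2 x' (P.symm hx'), fun w hw => ?_⟩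
    by_cases hwy : w = y'
    · rw [hwy]; exact hk.1.1
    obtain ⟨g, hg, hg1, hg2⟩ := F.pair_trans hx' hzy (Ne.symm hax) (P.symm hw') hne huz huy hw hwy huz huy
    have h7 : k • u = u := (hfix k hk.1).1 hk.2
    have hgy : g ∈ P.S y' := hg.1.2
    have h8 : g⁻¹ * k * g ∈ P.K y' := by
      have := conj_mem_K (inv_mem hgy) hk.1
      rwa [inv_inv] at this
    have h9 : (g⁻¹ * k * g) • u = u := by
      rw [mul_smul, mul_smul, hg2, h7, inv_smul_eq_iff, hg2]
    have h10 := (hfix _ h8).2 h9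
    rw [mul_smul, mul_smul, inv_smul_eq_iff, hg1] at h10
    exact h10

/-- **Thompson-Wielandt for strongly transitive generalized polygons.** -/
theorem st_tw : StTW.{u, v} := by
  intro G _ _ V _ _ P F
  obtain ⟨x⟩ := P.nonempty
  obtain ⟨y, hxy⟩ : ∃ w, P.adj x w := by
    have h3 : Nat.card {w : V // P.adj x w} ≠ 0 := by rw [P.card_nb x]; omega
    obtain ⟨⟨w, hw⟩⟩ := (Nat.card_ne_zero.1 h3).1
    exact ⟨w, hw⟩
  rcases (edge F hxy).trichotomy with h | h | ⟨p, hp, h1, -, h2, h3, -, -⟩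
  · right
    exact caseB_of F (P.symm hxy) (by rwa [inf_comm] at h)
  · right
    exact caseB_of F hxy h
  · left
    exact ⟨p, caseA_of hp hxy ⟨h1, h2, h3⟩⟩

/-- In case (B), if `K x ≤ K y` for one edge with `tp y = b`, then `K x = ⊥` (and `K x ⊓ K y = ⊥`). -/
theorem K_eq_bot_of_le {P : Pol G V} (F : Facts P) {b : Bool} (hB : CaseB P b) {x y : V} (hxy : P.adj x y)
    (hb : P.tp y = b) (hle : P.K x ≤ P.K y) : P.K x = ⊥ ∧ P.K x ⊓ P.K y = ⊥ := by
  have h1 : P.S y ≤ normalizer ((P.K x ⊓ P.K y : Subgroup G) : Set G) := by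
    apply mem_normalizer_of_forall
    intro g hg a ha
    refine ⟨?_, conj_mem_K hg ha.2⟩
    have h2 : P.adj (g⁻¹ • x) y := by
      have := P.smul_adj g⁻¹ hxy
      rwa [mem_S.1 (inv_mem hg)] at this
    have h3 : a ∈ P.K (g⁻¹ • x) := hB.ball hb hxy h2 ha
    have h4 := conj_mem_K' (g := g) h3
    rwa [smul_inv_smul] at h4
  have h0 := K_eq_bot_of_norm F hxy h1 hle
  exact ⟨h0, by rw [h0, bot_inf_eq]⟩

end Cfsg.Agent.H263.TW
end

private theorem dce_141d33c4fa28 : _root_.True := by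
  try have : _root_.True := by simp only [_root_.Cfsg.Agent.H263.TW.cp.eq_1]
  exact _root_.True.intro
end

-- part: H523/KA/Aff_mg
section
set_option linter.all false
open scoped Cfsg.Agent.FastGrp

-- part: H523/KA/Base
section
/-!
# S3414, case (A): the group `S̄_y = S y / O_p(K y)`

`P : Pol G V`, `y : V`, `p` a prime.

* `Q P p y` : `O_p(K y)` as a subgroup of `G`
* `Sb P p y` : the quotient of `S y` by `Q P p y`, `pi : ↥(P.S y) →* Sb P p y`
* `im P p y X` : the image of `X ⊓ S y`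
* `act : Sb P p y →* Perm Γ(y)`, kernel `im P p y (P.K y)`
* `Y P p y` : generated by the images of the `K x`, `x ~ y`; it is normal (`Y_conj`) and centralised by `im (K y)` (`Y_comm`)
* `mem_K_of_im` (KEY') : an element of order prime to `p` whose image is in the image of `K w`, `w ~ y`, is in `K w`.
-/

set_option autoImplicit false

namespace Cfsg.Agent.H523.KA.Base

open Cfsg Cfsg.Agent.H873.Tits

universe u v

variable {G : Type u} [Group G] {V : Type v} [MulAction G V] (P : Pol G V) (p : ℕ)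

theorem conj_mem_K {v : V} {a : G} (g : G) (ha : a ∈ P.K v) : g * a * g⁻¹ ∈ P.K (g • v) := by
  constructor
  · rw [mul_smul, mul_smul, inv_smul_smul, ha.1]
  · intro w hw
    have h1 : P.adj v (g⁻¹ • w) := by
      rw [← P.adj_smul_iff g, smul_inv_smul]; exact hw
    rw [mul_smul, mul_smul, ha.2 _ h1, smul_inv_smul]

theorem K_le_S_adj {x y : V} (h : P.adj x y) : P.K x ≤ P.S y := fun _ ha => ha.2 y h

theorem toPerm_eq_one {v : V} {g : P.S v} : P.toPerm v g = 1 ↔ (g : G) ∈ P.K v := by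
  constructor
  · intro h
    refine ⟨g.2, fun w hw => ?_⟩
    have := congrArg (fun σ : Equiv.Perm {w : V // P.adj v w} => ((σ ⟨w, hw⟩ : {w : V // P.adj v w}) : V)) h
    exact this
  · intro h
    ext w
    exact h.2 w w.2

theorem mem_L {v : V} {σ : Equiv.Perm {w : V // P.adj v w}} : σ ∈ P.L v ↔ ∃ g : P.S v, P.toPerm v g = σ := by
  constructor
  · rintro ⟨g, -, e⟩; exact ⟨g, e⟩
  · rintro ⟨g, e⟩; exact ⟨g, g.2, e⟩

/-- `O_p(K y)` -/
def Q (y : V) : Subgroup G := (Cfsg.pCore p ↥(P.K y)).map (P.K y).subtype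

theorem Q_le_K (y : V) : Q P p y ≤ P.K y := Subgroup.map_subtype_le _

theorem Q_le_S (y : V) : Q P p y ≤ P.S y := (Q_le_K P p y).trans (P.K_le_S y)

theorem isPGroup_Q (y : V) : IsPGroup p ↥(Q P p y) := by
  have h1 : IsPGroup p ↥(Cfsg.pCore p ↥(P.K y)) := Sylow.sSup_of_normal _ (fun _ h => h.2) (fun _ h => h.1)
  exact h1.map _

theorem le_Q {y : V} {X : Subgroup G} (hX : X ≤ P.K y) (hn : ∀ g ∈ P.K y, ∀ a ∈ X, g * a * g⁻¹ ∈ X)
    (hp : IsPGroup p ↥X) : X ≤ Q P p y := by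
  have h1 : (X.subgroupOf (P.K y)).Normal := ⟨fun a ha g => hn g g.2 a ha⟩
  have h2 : IsPGroup p ↥(X.subgroupOf (P.K y)) := hp.comap_subtype
  have h3 : X.subgroupOf (P.K y) ≤ Cfsg.pCore p ↥(P.K y) := le_sSup ⟨h1, h2⟩
  intro a ha
  exact ⟨⟨a, hX ha⟩, h3 ha, rfl⟩

theorem conj_mem_Q {y : V} {a : G} (g : G) (ha : a ∈ Q P p y) : g * a * g⁻¹ ∈ Q P p (g • y) := by
  have h1 : (Q P p y).map (MulAut.conj g).toMonoidHom ≤ Q P p (g • y) := by
    refine le_Q P p ?_ ?_ ((isPGroup_Q P p y).map _)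
    · rintro _ ⟨b, hb, rfl⟩
      exact conj_mem_K P g (Q_le_K P p y hb)
    · rintro k hk _ ⟨b, hb, rfl⟩
      have h2 := conj_mem_K P g⁻¹ hk
      rw [inv_smul_smul, inv_inv] at h2
      obtain ⟨c, hc, rfl⟩ := hb
      refine ⟨(g⁻¹ * k * g) * c * (g⁻¹ * k * g)⁻¹, ?_, ?_⟩
      · have h3 : (Cfsg.pCore p ↥(P.K y)).Normal := by
          refine ⟨fun a ha h => ?_⟩
          have hn : (sSup {N : Subgroup ↥(P.K y) | N.Normal ∧ IsPGroup p N}).Normal :=
            Subgroup.sSup_normal _ fun _ h => h.1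
          exact hn.conj_mem a ha h
        exact ⟨(⟨g⁻¹ * k * g, h2⟩ : ↥(P.K y)) * c * (⟨g⁻¹ * k * g, h2⟩ : ↥(P.K y))⁻¹, h3.conj_mem c hc _, rfl⟩
      · show g * ((g⁻¹ * k * g) * (c : G) * (g⁻¹ * k * g)⁻¹) * g⁻¹ = k * (g * (c : G) * g⁻¹) * k⁻¹
        group
  exact h1 ⟨a, ha, rfl⟩

theorem conj_mem_Q' {y : V} {a g : G} (hg : g ∈ P.S y) (ha : a ∈ Q P p y) : g * a * g⁻¹ ∈ Q P p y := by
  have := conj_mem_Q P p g ha
  rwa [show g • y = y from hg] at this

instance normal_Q (y : V) : ((Q P p y).subgroupOf (P.S y)).Normal :=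
  ⟨fun _ ha g => conj_mem_Q' P p g.2 ha⟩

/-- the normal `p`-subgroup of case (A) is in `Q` -/
theorem exists_mem_Q {P : Pol G V} {p : ℕ} (hA : CaseA P p) {x y : V} (h : P.adj x y) : ∃ a ∈ Q P p y, a ∉ P.K x := by
  obtain ⟨X, h1, h2, h3, h4⟩ := hA.big h
  obtain ⟨a, ha, hax⟩ := Set.not_subset.1 h4
  refine ⟨a, le_Q P p h1 ?_ h3 ha, hax⟩
  intro g hg b hb
  exact h2.conj_mem ⟨b, P.K_le_S y (h1 hb)⟩ hb ⟨g, P.K_le_S y hg⟩

/-- `K x ⊓ K y ≤ O_p(K y)` in case (A) -/
theorem inf_le_Q {P : Pol G V} {p : ℕ} (hA : CaseA P p) {x y : V} (h : P.adj x y) : P.K x ⊓ P.K y ≤ Q P p y := by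
  refine le_Q P p inf_le_right ?_ (hA.pgroup h)
  intro g hg a ha
  refine ⟨?_, (P.K y).mul_mem ((P.K y).mul_mem hg ha.2) ((P.K y).inv_mem hg)⟩
  have := conj_mem_K P g ha.1
  rwa [show g • x = x from hg.2 x (P.symm h)] at this

/-- the group `S y / O_p(K y)` -/
abbrev Sb (y : V) : Type u := ↥(P.S y) ⧸ (Q P p y).subgroupOf (P.S y)

/-- the projection -/
def pi (y : V) : ↥(P.S y) →* Sb P p y := QuotientGroup.mk' _

theorem pi_surjective (y : V) : Function.Surjective (pi P p y) := QuotientGroup.mk'_surjective _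

theorem pi_eq_one {y : V} {g : P.S y} : pi P p y g = 1 ↔ (g : G) ∈ Q P p y := by
  rw [← MonoidHom.mem_ker, pi, QuotientGroup.ker_mk']; rfl

theorem pi_eq {y : V} {g h : P.S y} : pi P p y g = pi P p y h ↔ (g : G)⁻¹ * h ∈ Q P p y := by
  rw [← inv_mul_eq_one, ← map_inv, ← map_mul, pi_eq_one]; rfl

/-- the image of `X ⊓ S y` -/
def im (y : V) (X : Subgroup G) : Subgroup (Sb P p y) := (X.subgroupOf (P.S y)).map (pi P p y)

theorem mem_im {y : V} {X : Subgroup G} {b : Sb P p y} : b ∈ im P p y X ↔ ∃ g : P.S y, (g : G) ∈ X ∧ pi P p y g = b :=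
  Iff.rfl

theorem im_mono {y : V} {X X' : Subgroup G} (h : X ≤ X') : im P p y X ≤ im P p y X' := by
  rintro _ ⟨g, hg, rfl⟩
  exact ⟨g, h hg, rfl⟩

/-- the action on the neighbours of `y` -/
def act (y : V) : Sb P p y →* Equiv.Perm {w : V // P.adj y w} :=
  QuotientGroup.lift _ (P.toPerm y) fun g hg => (toPerm_eq_one P).2 (Q_le_K P p y hg)

@[simp] theorem act_pi (y : V) (g : P.S y) : act P p y (pi P p y g) = P.toPerm y g := rfl

theorem act_eq_one {y : V} {b : Sb P p y} : act P p y b = 1 ↔ b ∈ im P p y (P.K y) := by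
  obtain ⟨g, rfl⟩ := pi_surjective P p y b
  rw [act_pi, toPerm_eq_one, mem_im]
  constructor
  · intro h; exact ⟨g, h, rfl⟩
  · rintro ⟨k, hk, e⟩
    rw [pi_eq] at e
    have h1 := (P.K y).mul_mem hk (Q_le_K P p y e)
    rwa [mul_inv_cancel_left] at h1

theorem act_mem_L (y : V) (b : Sb P p y) : act P p y b ∈ P.L y := by
  obtain ⟨g, rfl⟩ := pi_surjective P p y b
  rw [act_pi, mem_L]
  exact ⟨g, rfl⟩

theorem exists_act {y : V} {σ : Equiv.Perm {w : V // P.adj y w}} (h : σ ∈ P.L y) : ∃ b : Sb P p y, act P p y b = σ := by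
  obtain ⟨g, rfl⟩ := (mem_L P).1 h
  exact ⟨pi P p y g, rfl⟩

/-- the images of `K x` and `K y` commute -/
theorem comm_im {P : Pol G V} {p : ℕ} (hA : CaseA P p) {x y : V} (h : P.adj x y) : ∀ a ∈ im P p y (P.K x), ∀ b ∈ im P p y (P.K y),
    a * b = b * a := by
  rintro _ ⟨g, hg, rfl⟩ _ ⟨k, hk, rfl⟩
  replace hg : (g : G) ∈ P.K x := hg
  replace hk : (k : G) ∈ P.K y := hk
  rw [← map_mul, ← map_mul, pi_eq]
  refine inf_le_Q hA h ⟨?_, ?_⟩
  · -- (g k)⁻¹ (k g) = k⁻¹ g⁻¹ k g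
    have h1 := conj_mem_K P (k : G)⁻¹ ((P.K x).inv_mem hg)
    rw [show (k : G)⁻¹ • x = x by rw [inv_smul_eq_iff]; exact (hk.2 x (P.symm h)).symm, inv_inv] at h1
    have h2 := (P.K x).mul_mem h1 hg
    have e : ((g * k : P.S y) : G)⁻¹ * ((k * g : P.S y) : G) = (k : G)⁻¹ * (g : G)⁻¹ * k * g := by
      push_cast; group
    rw [e]; exact h2
  · have h1 := conj_mem_K P (g : G)⁻¹ hk
    rw [show (g : G)⁻¹ • y = y by rw [inv_smul_eq_iff]; exact (hg.2 y h).symm, inv_inv] at h1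
    have h2 := (P.K y).mul_mem ((P.K y).inv_mem hk) h1
    have e : ((g * k : P.S y) : G)⁻¹ * ((k * g : P.S y) : G) = (k : G)⁻¹ * ((g : G)⁻¹ * k * g) := by
      push_cast; group
    rw [e]; exact h2

/-- conjugation of `im (K x)` -/
theorem conj_im {y x : V} (g : P.S y) {a : Sb P p y} (ha : a ∈ im P p y (P.K x)) :
    pi P p y g * a * (pi P p y g)⁻¹ ∈ im P p y (P.K ((g : G) • x)) := by
  obtain ⟨k, hk, rfl⟩ := ha
  exact ⟨g * k * g⁻¹, conj_mem_K P (g : G) hk, by simp only [_root_.map_mul, _root_.map_inv]⟩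

/-- the group generated by the images of the `K x`, `x ~ y` -/
def Y (y : V) : Subgroup (Sb P p y) := ⨆ x : {x : V // P.adj y x}, im P p y (P.K x)

theorem im_le_Y {x y : V} (h : P.adj y x) : im P p y (P.K x) ≤ Y P p y :=
  le_iSup (fun x : {x : V // P.adj y x} => im P p y (P.K x)) ⟨x, h⟩

/-- `Y` is centralised by the image of `K y` -/
theorem Y_comm {P : Pol G V} {p : ℕ} (hA : CaseA P p) (y : V) : ∀ a ∈ Y P p y, ∀ b ∈ im P p y (P.K y), a * b = b * a := by
  have h1 : Y P p y ≤ Subgroup.centralizer (im P p y (P.K y) : Set (Sb P p y)) := by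
    refine iSup_le fun x a ha => ?_
    rw [Subgroup.mem_centralizer_iff]
    intro b hb
    exact (comm_im hA (P.symm x.2) a ha b hb).symm
  intro a ha b hb
  exact (Subgroup.mem_centralizer_iff.1 (h1 ha) b hb).symm

theorem Y_conj (y : V) (g : Sb P p y) {a : Sb P p y} (ha : a ∈ Y P p y) : g * a * g⁻¹ ∈ Y P p y := by
  obtain ⟨g, rfl⟩ := pi_surjective P p y g
  have h1 : (Y P p y).map (MulAut.conj (pi P p y g)).toMonoidHom ≤ Y P p y := by
    unfold Y
    rw [Subgroup.map_iSup]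
    refine iSup_le fun x => ?_
    rintro _ ⟨b, hb, rfl⟩
    have h2 : P.adj y ((g : G) • x.1) := by
      have := P.smul_adj (g : G) x.2
      rwa [show (g : G) • y = y from g.2] at this
    exact im_le_Y P p h2 (conj_im P p g hb)
  exact h1 ⟨a, ha, rfl⟩

/-- **KEY'**: an element of order prime to `p` with image in `im (K w)` is in `K w`. -/
theorem mem_K_of_im {p : ℕ} {y w : V} (h : P.adj y w) {g : P.S y} (hg : (orderOf (g : G)).Coprime p)
    (hi : pi P p y g ∈ im P p y (P.K w)) : (g : G) ∈ P.K w := by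
  obtain ⟨k, hk, e⟩ := hi
  replace hk : (k : G) ∈ P.K w := hk
  rw [pi_eq] at e
  -- g = k q
  obtain ⟨q, hq⟩ : ∃ q : G, q = (k : G)⁻¹ * g := ⟨_, rfl⟩
  rw [← hq] at e
  have hqw : q ∈ P.S w := (Q_le_K P p y e).2 w h
  have hgq : (g : G) = k * q := by rw [hq, mul_inv_cancel_left]
  have hgw : (g : G) ∈ P.S w := by rw [hgq]; exact (P.S w).mul_mem (P.K_le_S w hk) hqw
  obtain ⟨n, hn⟩ := isPGroup_Q P p y ⟨q, e⟩
  have hn' : q ^ p ^ n = 1 := by
    have := congrArg Subtype.val hn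
    simpa only [_root_.SubmonoidClass.mk_pow, _root_.OneMemClass.coe_one] using this
  have h1 : P.toPerm w ⟨g, hgw⟩ = P.toPerm w ⟨q, hqw⟩ := by
    have h2 : (⟨g, hgw⟩ : P.S w) = ⟨k, P.K_le_S w hk⟩ * ⟨q, hqw⟩ := Subtype.ext hgq
    rw [h2, map_mul, (toPerm_eq_one P).2 (show ((⟨k, P.K_le_S w hk⟩ : P.S w) : G) ∈ P.K w from hk), one_mul]
  have h3 : orderOf (P.toPerm w ⟨g, hgw⟩) ∣ p ^ n := by
    rw [h1]
    apply orderOf_dvd_of_pow_eq_one
    rw [← map_pow, show (⟨q, hqw⟩ : P.S w) ^ p ^ n = 1 from Subtype.ext (by simpa only [_root_.SubmonoidClass.mk_pow, _root_.OneMemClass.coe_one] using hn'), map_one]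
  have h4 : orderOf (P.toPerm w ⟨g, hgw⟩) ∣ orderOf (g : G) := by
    rw [← Subgroup.orderOf_mk (g : G) hgw]
    exact orderOf_map_dvd _ _
  have h5 : orderOf (P.toPerm w ⟨g, hgw⟩) = 1 := by
    have h6 := Nat.Coprime.coprime_dvd_left h4 (Nat.Coprime.pow_right n hg)
    exact Nat.Coprime.eq_one_of_dvd h6 h3
  rw [orderOf_eq_one_iff, toPerm_eq_one] at h5
  exact h5

end Cfsg.Agent.H523.KA.Base
end

-- part: H523/KA/Abs
section
/-!
# S3414, key lemma: abstract part

* `perm_inv` : in a group of class two the product `l.prod * l.reverse.prod` does not depend on the order of the list;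
* `comm_zpow` ... : the commutator `z` of `ρ` and `τ`.
-/

set_option autoImplicit false

namespace Cfsg.Agent.H523.KA.Abs

open List

universe u v

section ClassTwo

variable {Γ : Type u} [Group Γ]

/-- the symmetric product of a list -/
def sp (l : List Γ) : Γ := l.prod * l.reverse.prod

theorem sp_cons (a : Γ) (l : List Γ) : sp (a :: l) = a * sp l * a := by
  unfold sp
  rw [List.prod_cons, List.reverse_cons, List.prod_append, List.prod_singleton]
  group

theorem sp_nil : sp ([] : List Γ) = 1 := by unfold sp; simp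

theorem sp_mem (H : Subgroup Γ) {l : List Γ} (hl : ∀ a ∈ l, a ∈ H) : sp l ∈ H := by
  unfold sp
  exact H.mul_mem (H.list_prod_mem hl) (H.list_prod_mem fun a ha => hl a (List.mem_reverse.1 ha))

theorem sp_perm (H : Subgroup Γ) (hH : ∀ a ∈ H, ∀ b ∈ H, ∀ c ∈ H, (a * b * a⁻¹ * b⁻¹) * c = c * (a * b * a⁻¹ * b⁻¹))
    {l l' : List Γ} (h : l ~ l') : (∀ a ∈ l, a ∈ H) → sp l = sp l' := by
  induction h with
  | nil => intro _; rfl
  | cons x h ih =>
    intro hl
    rw [sp_cons, sp_cons, ih fun a ha => hl a (List.mem_cons_of_mem _ ha)]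
  | swap a b l =>
    intro hl
    have ha : a ∈ H := hl a (by simp)
    have hb : b ∈ H := hl b (by simp)
    have hM : sp l ∈ H := sp_mem H fun c hc => hl c (by simp [hc])
    rw [sp_cons, sp_cons, sp_cons, sp_cons]
    generalize sp l = M at hM
    -- b * (a * M * a) * b = a * (b * M * b) * a
    have h1 := hH b hb a ha M hM
    have h2 := hH b hb a ha a ha
    have h3 := hH b hb a ha b hb
    set c := b * a * b⁻¹ * a⁻¹ with hc
    have e1 : b * a = c * (a * b) := by rw [hc]; group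
    calc b * (a * M * a) * b = (b * a) * M * (a * b) := by group
      _ = (c * (a * b)) * M * (a * b) := by rw [e1]
      _ = (a * b) * M * (c * (a * b)) := by
          have e2 : c * (a * b) = (a * b) * c := by
            rw [← mul_assoc, h2, mul_assoc, h3, mul_assoc]
          calc (c * (a * b)) * M * (a * b) = (a * b) * (c * M) * (a * b) := by rw [e2]; group
            _ = (a * b) * (M * c) * (a * b) := by rw [h1]
            _ = _ := by group
      _ = (a * b) * M * (b * a) := by rw [← e1]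
      _ = a * (b * M * b) * a := by group
  | trans h1 h2 ih1 ih2 =>
    intro hl
    rw [ih1 hl, ih2 fun a ha => hl a (h1.mem_iff.2 ha)]

theorem sp_map_conj (g : Γ) (l : List Γ) : sp (l.map fun a => g * a * g⁻¹) = g * sp l * g⁻¹ := by
  induction l with
  | nil => simp [sp_nil]
  | cons a l ih => rw [List.map_cons, sp_cons, sp_cons, ih]; group

theorem sp_map_mul (H : Subgroup Γ) (z : Γ) (hz : ∀ a ∈ H, z * a = a * z) (l : List Γ) (hl : ∀ a ∈ l, a ∈ H) :
    sp (l.map fun a => z * a) = z ^ (2 * l.length) * sp l := by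
  induction l with
  | nil => simp [sp_nil]
  | cons a l ih =>
    have ha : a ∈ H := hl a (by simp)
    have hM : sp l ∈ H := sp_mem H fun c hc => hl c (by simp [hc])
    rw [List.map_cons, sp_cons, sp_cons, ih fun c hc => hl c (by simp [hc]), List.length_cons]
    have e1 := hz a ha
    have e2 : z ^ (2 * l.length) * a = a * z ^ (2 * l.length) := by
      have : Commute z a := e1
      exact (this.pow_left _).eq
    have e3 := hz _ hM
    have e4 : z * a * (z ^ (2 * l.length) * sp l) * (z * a) = (z * z ^ (2 * l.length) * z) * (a * sp l * a) := by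
      calc z * a * (z ^ (2 * l.length) * sp l) * (z * a) = z * (a * z ^ (2 * l.length)) * (sp l * z) * a := by group
        _ = z * (z ^ (2 * l.length) * a) * (z * sp l) * a := by rw [e2, e3]
        _ = z * z ^ (2 * l.length) * (a * z) * sp l * a := by group
        _ = z * z ^ (2 * l.length) * (z * a) * sp l * a := by rw [e1]
        _ = _ := by group
    rw [e4]
    congr 1
    rw [← pow_succ', ← pow_succ]
    congr 1

end ClassTwo

/-- The situation: `φ : Γ →* Λ`, `Y ≤ Γ`, elements of `Y ⊓ ker φ` commute with `Y`. -/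
structure Sit {Γ : Type u} [Group Γ] {Λ : Type v} [Group Λ] (φ : Γ →* Λ) (Y : Subgroup Γ) : Prop where
  cent : ∀ z ∈ Y, φ z = 1 → ∀ a ∈ Y, z * a = a * z

section Sit

variable {Γ : Type u} [Group Γ] {Λ : Type v} [Group Λ] {φ : Γ →* Λ} {Y : Subgroup Γ} (H : Sit φ Y)

include H

/-- the commutator `z = ρ τ ρ⁻¹ τ⁻¹` lies in `Y ⊓ ker φ`, and `z ^ orderOf ρ = 1`, `z ^ orderOf (φ τ) = 1` -/
theorem Sit.zpow {ρ τ : Γ} (hρ : ρ ∈ Y) (hτ : τ ∈ Y) (hc : φ ρ * φ τ = φ τ * φ ρ) :
    (ρ * τ * ρ⁻¹ * τ⁻¹ ∈ Y ∧ φ (ρ * τ * ρ⁻¹ * τ⁻¹) = 1) ∧ (ρ * τ * ρ⁻¹ * τ⁻¹) ^ orderOf ρ = 1 ∧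
      (ρ * τ * ρ⁻¹ * τ⁻¹) ^ orderOf (φ τ) = 1 := by
  set z := ρ * τ * ρ⁻¹ * τ⁻¹ with hz
  have h1 : z ∈ Y := Y.mul_mem (Y.mul_mem (Y.mul_mem hρ hτ) (Y.inv_mem hρ)) (Y.inv_mem hτ)
  have h2 : φ z = 1 := by
    rw [hz]
    simp only [map_mul, map_inv]
    rw [hc]; group
  have e0 : ρ * τ * ρ⁻¹ = z * τ := by rw [hz]; group
  have zρ : z * ρ = ρ * z := H.cent z h1 h2 ρ hρ
  have zτ : z * τ = τ * z := H.cent z h1 h2 τ hτ
  refine ⟨⟨h1, h2⟩, ?_, ?_⟩
  · -- ρ ^ k τ ρ ^ -k = z ^ k τ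
    have e1 : ∀ k : ℕ, ρ ^ k * τ * (ρ ^ k)⁻¹ = z ^ k * τ := by
      intro k
      induction k with
      | zero => simp
      | succ k ih =>
        have e2 : ρ * z ^ k = z ^ k * ρ := ((show Commute z ρ from zρ).pow_left k).eq.symm
        calc ρ ^ (k + 1) * τ * (ρ ^ (k + 1))⁻¹ = ρ * (ρ ^ k * τ * (ρ ^ k)⁻¹) * ρ⁻¹ := by rw [pow_succ']; group
          _ = (ρ * z ^ k) * τ * ρ⁻¹ := by rw [ih]; group
          _ = z ^ k * (ρ * τ * ρ⁻¹) := by rw [e2]; group
          _ = z ^ (k + 1) * τ := by rw [e0, pow_succ]; group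
    have e3 := e1 (orderOf ρ)
    rw [pow_orderOf_eq_one, one_mul, inv_one, mul_one] at e3
    exact (mul_eq_right.1 e3.symm)
  · have e1 : ∀ k : ℕ, (z * τ) ^ k = z ^ k * τ ^ k := fun k => (show Commute z τ from zτ).mul_pow k
    have h3 : φ (τ ^ orderOf (φ τ)) = 1 := by rw [map_pow, pow_orderOf_eq_one]
    have h4 := H.cent _ (Y.pow_mem hτ (orderOf (φ τ))) h3 ρ hρ
    have e4 : (ρ * τ * ρ⁻¹) ^ orderOf (φ τ) = τ ^ orderOf (φ τ) := by
      rw [conj_pow, ← h4]; group
    rw [e0, e1] at e4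
    exact (mul_eq_right.1 e4)

/-- the trace argument: `z ^ (2 |S|) = 1` -/
theorem Sit.trace {ρ τ : Γ} (hρ : ρ ∈ Y) (hτ : τ ∈ Y) (hc : φ ρ * φ τ = φ τ * φ ρ) (W : Subgroup Λ)
    (hWc : ∀ a ∈ W, ∀ b ∈ W, a * b = b * a) (hτW : φ τ ∈ W) (S : Subgroup Γ) [Finite S] (hSY : S ≤ Y)
    (hSW : ∀ s ∈ S, ∀ a ∈ W, φ s * a * (φ s)⁻¹ ∈ W) (hρS : ∀ s ∈ S, ρ * s * ρ⁻¹ ∈ S)
    (hfix : ∀ a ∈ W, (∀ s ∈ S, φ s * a * (φ s)⁻¹ = a) → a = 1) :
    (ρ * τ * ρ⁻¹ * τ⁻¹) ^ (2 * Nat.card S) = 1 := by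
  classical
  have := Fintype.ofFinite S
  obtain ⟨⟨h1, h2⟩, -, -⟩ := H.zpow hρ hτ hc
  set z := ρ * τ * ρ⁻¹ * τ⁻¹ with hz
  -- the subgroup
  let U : Subgroup Γ := Y ⊓ W.comap φ
  have hU : ∀ a ∈ U, ∀ b ∈ U, ∀ c ∈ U, (a * b * a⁻¹ * b⁻¹) * c = c * (a * b * a⁻¹ * b⁻¹) := by
    intro a ha b hb c hc'
    refine H.cent _ (Y.mul_mem (Y.mul_mem (Y.mul_mem ha.1 hb.1) (Y.inv_mem ha.1)) (Y.inv_mem hb.1)) ?_ c hc'.1
    have := hWc _ ha.2 _ hb.2
    simp only [map_mul, map_inv]
    rw [this]; group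
  have hUS : ∀ s ∈ S, ∀ a ∈ U, s * a * s⁻¹ ∈ U := by
    intro s hs a ha
    refine ⟨Y.mul_mem (Y.mul_mem (hSY hs) ha.1) (Y.inv_mem (hSY hs)), ?_⟩
    show φ (s * a * s⁻¹) ∈ W
    rw [map_mul, map_mul, map_inv]
    exact hSW s hs _ ha.2
  let lst : Γ → List Γ := fun a => (Finset.univ : Finset S).toList.map fun s : S => (s : Γ) * a * (s : Γ)⁻¹
  have hlst : ∀ a ∈ U, ∀ b ∈ lst a, b ∈ U := by
    intro a ha b hb
    obtain ⟨s, -, rfl⟩ := List.mem_map.1 hb
    exact hUS s s.2 a ha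
  -- reindexing
  have hre : ∀ (f : S ≃ S) (g : S → Γ), ((Finset.univ : Finset S).toList.map fun s : S => g (f s)) ~
      ((Finset.univ : Finset S).toList.map g) := by
    intro f g
    have e1 : ((Finset.univ : Finset S).toList.map fun s : S => g (f s)) =
        (((Finset.univ : Finset S).toList.map f).map g) := by rw [List.map_map]; rfl
    rw [e1]
    refine List.Perm.map g ?_
    refine (List.perm_ext_iff_of_nodup ?_ (Finset.nodup_toList _)).2 ?_
    · exact (Finset.nodup_toList _).map f.injective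
    · intro s
      simp only [List.mem_map, Finset.mem_toList, Finset.mem_univ, true_and, iff_true]
      exact ⟨f.symm s, f.apply_symm_apply s⟩
  -- conjugation
  have hconj : ∀ g : Γ, (∀ s ∈ S, g * s * g⁻¹ ∈ S) → ∀ a ∈ U, g * a * g⁻¹ ∈ U →
      sp (lst (g * a * g⁻¹)) = g * sp (lst a) * g⁻¹ := by
    intro g hg a ha hga
    rw [← sp_map_conj]
    have hinj : Function.Injective (fun s : S => (⟨g * s * g⁻¹, hg s s.2⟩ : S)) := by
      intro s t hst
      have := congrArg Subtype.val hst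
      simp only at this
      exact Subtype.ext (by simpa only [_root_.SetLike.coe_eq_coe, _root_.mul_left_inj, _root_.mul_right_inj] using this)
    let f : S ≃ S := Equiv.ofBijective _ (Finite.injective_iff_bijective.1 hinj)
    have e1 : (lst a).map (fun b => g * b * g⁻¹) =
        (Finset.univ : Finset S).toList.map fun s : S => ((f s : S) : Γ) * (g * a * g⁻¹) * ((f s : S) : Γ)⁻¹ := by
      show ((Finset.univ : Finset S).toList.map _).map _ = _
      rw [List.map_map]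
      refine List.map_congr_left fun s _ => ?_
      show g * ((s : Γ) * a * (s : Γ)⁻¹) * g⁻¹ = (g * s * g⁻¹) * (g * a * g⁻¹) * (g * s * g⁻¹)⁻¹
      group
    rw [e1]
    exact sp_perm U hU (hre f fun s : S => (s : Γ) * (g * a * g⁻¹) * (s : Γ)⁻¹).symm (hlst _ hga)
  have hτU : τ ∈ U := ⟨hτ, hτW⟩
  -- `F(τ)` commutes with `S`
  have hS : ∀ s ∈ S, s * sp (lst τ) * s⁻¹ = sp (lst τ) := by
    intro s hs
    rw [← hconj s (fun t ht => S.mul_mem (S.mul_mem hs ht) (S.inv_mem hs)) τ hτU (hUS s hs τ hτU)]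
    have e1 : lst (s * τ * s⁻¹) = (Finset.univ : Finset S).toList.map fun t : S =>
        ((Equiv.mulRight (⟨s, hs⟩ : S) t : S) : Γ) * τ * ((Equiv.mulRight (⟨s, hs⟩ : S) t : S) : Γ)⁻¹ := by
      refine List.map_congr_left fun t _ => ?_
      show (t : Γ) * (s * τ * s⁻¹) * (t : Γ)⁻¹ = ((t : Γ) * s) * τ * ((t : Γ) * s)⁻¹
      group
    rw [e1]
    refine sp_perm U hU (hre (Equiv.mulRight (⟨s, hs⟩ : S)) fun t : S => (t : Γ) * τ * (t : Γ)⁻¹) ?_
    intro b hb
    obtain ⟨t, -, rfl⟩ := List.mem_map.1 hb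
    exact hUS _ (Subtype.mem _) τ hτU
  have hFU : sp (lst τ) ∈ U := sp_mem U (hlst τ hτU)
  have hF1 : φ (sp (lst τ)) = 1 := by
    refine hfix _ hFU.2 fun s hs => ?_
    rw [← map_mul, ← map_inv, ← map_mul, hS s hs]
  have hρF : ρ * sp (lst τ) * ρ⁻¹ = sp (lst τ) := by
    rw [← H.cent _ hFU.1 hF1 ρ hρ]; group
  have e0 : ρ * τ * ρ⁻¹ = z * τ := by rw [hz]; group
  have hzU : z * τ ∈ U := by
    refine ⟨Y.mul_mem h1 hτ, ?_⟩
    show φ (z * τ) ∈ W
    rw [map_mul, h2, one_mul]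
    exact hτW
  have hzcent : ∀ a ∈ U, z * a = a * z := fun a ha => H.cent z h1 h2 a ha.1
  have e2 := hconj ρ hρS τ hτU (by rw [e0]; exact hzU)
  rw [hρF, e0] at e2
  have e3 : lst (z * τ) = (lst τ).map fun a => z * a := by
    show _ = ((Finset.univ : Finset S).toList.map _).map _
    rw [List.map_map]
    refine List.map_congr_left fun s _ => ?_
    show (s : Γ) * (z * τ) * (s : Γ)⁻¹ = z * ((s : Γ) * τ * (s : Γ)⁻¹)
    have h5 : z * (s : Γ) = (s : Γ) * z := H.cent z h1 h2 s (hSY s.2)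
    calc (s : Γ) * (z * τ) * (s : Γ)⁻¹ = ((s : Γ) * z) * τ * (s : Γ)⁻¹ := by group
      _ = (z * s) * τ * (s : Γ)⁻¹ := by rw [h5]
      _ = _ := by group
  rw [e3, sp_map_mul U z hzcent _ (hlst τ hτU)] at e2
  have e4 : (lst τ).length = Nat.card S := by
    show ((Finset.univ : Finset S).toList.map _).length = _
    rw [List.length_map, Finset.length_toList, Finset.card_univ, Nat.card_eq_fintype_card]
  rw [e4] at e2
  exact mul_eq_right.1 e2

end Sit

end Cfsg.Agent.H523.KA.Abs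
end

-- part: H523/KA/Perm
section
/-!
# S3414, key lemma: 2-transitive groups with a regular abelian normal subgroup
-/

set_option autoImplicit false

namespace Cfsg.Agent.H523.KA.Perm

open Equiv

universe v

variable {Ω : Type v}

/-- `W` is a regular abelian normal subgroup of `L` -/
structure AffD (L W : Subgroup (Perm Ω)) : Prop where
  le : W ≤ L
  conj : ∀ σ ∈ L, ∀ w ∈ W, σ * w * σ⁻¹ ∈ W
  comm : ∀ a ∈ W, ∀ b ∈ W, a * b = b * a
  trans : ∀ a b : Ω, ∃ w ∈ W, w a = b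
  reg : ∀ w ∈ W, ∀ a : Ω, w a = a → w = 1

theorem AffD.of {L : Subgroup (Perm Ω)} (h : ∃ W : Subgroup (Equiv.Perm Ω), W ≤ L ∧ (W.subgroupOf L).Normal ∧
    IsMulCommutative W ∧ MulAction.IsPretransitive W Ω ∧ ∀ a : Ω, MulAction.stabilizer W a = ⊥) :
    ∃ W : Subgroup (Perm Ω), AffD L W := by
  obtain ⟨W, h1, h2, h3, h4, h5⟩ := h
  refine ⟨W, h1, ?_, ?_, ?_, ?_⟩
  · intro σ hσ w hw
    have := h2.conj_mem (⟨w, h1 hw⟩ : L) hw ⟨σ, hσ⟩
    exact this
  · intro a ha b hb
    have := h3.is_comm.comm (⟨a, ha⟩ : W) ⟨b, hb⟩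
    exact congrArg Subtype.val this
  · intro a b
    obtain ⟨w, hw⟩ := h4.exists_smul_eq a b
    exact ⟨w, w.2, hw⟩
  · intro w hw a ha
    have h6 : (⟨w, hw⟩ : W) ∈ MulAction.stabilizer W a := ha
    rw [h5 a, Subgroup.mem_bot] at h6
    exact congrArg Subtype.val h6

section AffD

variable {L W : Subgroup (Perm Ω)} (h : AffD L W)

include h

theorem AffD.eq {u v : Perm Ω} (hu : u ∈ W) (hv : v ∈ W) {a : Ω} (e : u a = v a) : u = v := by
  have h1 : v⁻¹ * u = 1 := h.reg _ (W.mul_mem (W.inv_mem hv) hu) a (by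
    rw [Perm.mul_apply, e, Perm.inv_eq_iff_eq])
  rw [inv_mul_eq_one] at h1
  exact h1.symm

/-- a permutation commuting with `W` and fixing a point is trivial -/
theorem AffD.eq_one {s : Perm Ω} (hs : ∀ w ∈ W, s * w = w * s) {a : Ω} (ha : s a = a) : s = 1 := by
  ext b
  obtain ⟨w, hw, rfl⟩ := h.trans a b
  have := congrArg (fun σ : Perm Ω => σ a) (hs w hw)
  simp only [Perm.mul_apply, ha] at this
  rw [this, Perm.one_apply]

/-- a permutation commuting with `W` is in `W` -/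
theorem AffD.mem {s : Perm Ω} (hs : ∀ w ∈ W, s * w = w * s) (a : Ω) : s ∈ W := by
  obtain ⟨w, hw, e⟩ := h.trans a (s a)
  have h1 : w⁻¹ * s = 1 := by
    refine h.eq_one (a := a) ?_ ?_
    · intro u hu
      have h2 := h.comm _ (W.inv_mem hw) u hu
      rw [mul_assoc, hs u hu, ← mul_assoc, h2, mul_assoc]
    · rw [Perm.mul_apply, ← e, Perm.inv_eq_iff_eq]
  rw [inv_mul_eq_one] at h1
  rw [← h1]; exact hw

/-- an element of `L` fixing `a` and `u a` commutes with `u` -/
theorem AffD.comm_of_fix {s u : Perm Ω} (hs : s ∈ L) (hu : u ∈ W) {a : Ω} (ha : s a = a) (hb : s (u a) = u a) :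
    s * u = u * s := by
  have h1 : s * u * s⁻¹ = u := by
    refine h.eq (h.conj s hs u hu) hu (a := a) ?_
    have : s⁻¹ a = a := by rw [Perm.inv_eq_iff_eq]; exact ha.symm
    rw [Perm.mul_apply, Perm.mul_apply, this, hb]
  rw [mul_inv_eq_iff_eq_mul] at h1
  exact h1

variable (h2 : ∀ a b a' b' : Ω, a ≠ b → a' ≠ b' → ∃ g ∈ L, g a = a' ∧ g b = b')

include h2

/-- the stabilizer of `a` is transitive on `W - 1` -/
theorem AffD.conj_eq (a : Ω) {u v : Perm Ω} (hu : u ∈ W) (hv : v ∈ W) (hu1 : u ≠ 1) (hv1 : v ≠ 1) :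
    ∃ g ∈ L, g a = a ∧ g * u * g⁻¹ = v := by
  have h3 : a ≠ u a := fun e => hu1 (h.reg u hu a e.symm)
  have h4 : a ≠ v a := fun e => hv1 (h.reg v hv a e.symm)
  obtain ⟨g, hg, e1, e2⟩ := h2 a (u a) a (v a) h3 h4
  refine ⟨g, hg, e1, h.eq (h.conj g hg u hu) hv (a := a) ?_⟩
  have : g⁻¹ a = a := by rw [Perm.inv_eq_iff_eq]; exact e1.symm
  rw [Perm.mul_apply, Perm.mul_apply, this, e2]

theorem AffD.le_of_normal [Nonempty Ω] {N : Subgroup (Perm Ω)} (hNL : N ≤ L) (hN : ∀ σ ∈ L, ∀ n ∈ N, σ * n * σ⁻¹ ∈ N)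
    (hN1 : N ≠ ⊥) : W ≤ N := by
  obtain ⟨a⟩ := (inferInstance : Nonempty Ω)
  -- a nontrivial element of `N ⊓ W`
  obtain ⟨n, hn1⟩ := Subgroup.ne_bot_iff_exists_ne_one.1 hN1
  have h3 : ∃ u ∈ W, u ∈ N ∧ u ≠ 1 := by
    by_cases hc : ∀ w ∈ W, n.1 * w = w * n.1
    · exact ⟨n.1, h.mem hc a, n.2, fun e => hn1 (Subtype.ext e)⟩
    · push Not at hc
      obtain ⟨w, hw, hne⟩ := hc
      refine ⟨n.1 * w * n.1⁻¹ * w⁻¹, W.mul_mem (h.conj _ (hNL n.2) w hw) (W.inv_mem hw), ?_, ?_⟩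
      · have h4 := hN w (h.le hw) _ (N.inv_mem n.2)
        have h5 := N.mul_mem n.2 h4
        have e : n.1 * (w * n.1⁻¹ * w⁻¹) = n.1 * w * n.1⁻¹ * w⁻¹ := by group
        rwa [e] at h5
      · intro e
        rw [mul_inv_eq_one, mul_inv_eq_iff_eq_mul] at e
        exact hne e
  obtain ⟨u, hu, huN, hu1⟩ := h3
  intro v hv
  by_cases hv1 : v = 1
  · rw [hv1]; exact N.one_mem
  · obtain ⟨g, hg, -, e⟩ := h.conj_eq h2 a hu hv hu1 hv1
    rw [← e]
    exact hN g hg u huN

theorem AffD.orderOf_eq [Nonempty Ω] {u v : Perm Ω} (hu : u ∈ W) (hv : v ∈ W) (hu1 : u ≠ 1) (hv1 : v ≠ 1) :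
    orderOf u = orderOf v := by
  obtain ⟨a⟩ := (inferInstance : Nonempty Ω)
  obtain ⟨g, -, -, e⟩ := h.conj_eq h2 a hu hv hu1 hv1
  rw [← e]
  exact (orderOf_injective (MulAut.conj g).toMonoidHom (MulAut.conj g).injective u).symm

/-- if a prime divides the order of an element of `W` then it is the order -/
theorem AffD.orderOf_prime [Nonempty Ω] [Finite Ω] {u : Perm Ω} (hu : u ∈ W) {r : ℕ} (hr : r.Prime)
    (hd : r ∣ orderOf u) : orderOf u = r := by
  have h0 : 0 < orderOf u := orderOf_pos u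
  have h3 : orderOf (u ^ (orderOf u / r)) = r := by
    rw [orderOf_pow_of_dvd (Nat.div_pos (Nat.le_of_dvd h0 hd) hr.pos).ne' (Nat.div_dvd_of_dvd hd)]
    exact Nat.div_div_self hd h0.ne'
  have h4 : u ^ (orderOf u / r) ≠ 1 := by
    intro e
    rw [e, orderOf_one] at h3
    exact hr.one_lt.ne h3
  have h5 : u ≠ 1 := by
    rintro rfl
    rw [one_pow] at h4
    exact h4 rfl
  rw [← h3]
  exact h.orderOf_eq h2 hu (W.pow_mem hu _) h5 h4

/-- a nontrivial subgroup fixing `a` and normalised by the stabilizer of `a` centralises no nontrivial element of `W` -/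
theorem AffD.fix {S : Subgroup (Perm Ω)} {a : Ω} (hS : ∀ s ∈ S, s a = a)
    (hn : ∀ g ∈ L, g a = a → ∀ s ∈ S, g * s * g⁻¹ ∈ S) (hS1 : S ≠ ⊥) {u : Perm Ω} (hu : u ∈ W)
    (hc : ∀ s ∈ S, s * u * s⁻¹ = u) : u = 1 := by
  by_contra hu1
  apply hS1
  rw [Subgroup.eq_bot_iff_forall]
  intro s hs
  refine h.eq_one (a := a) ?_ (hS s hs)
  intro w hw
  by_cases hw1 : w = 1
  · rw [hw1, mul_one, one_mul]
  · obtain ⟨g, hg, ha, e⟩ := h.conj_eq h2 a hu hw hu1 hw1
    have hgi : g⁻¹ a = a := by rw [Perm.inv_eq_iff_eq]; exact ha.symm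
    have h5 := hn g⁻¹ (L.inv_mem hg) hgi s hs
    rw [inv_inv] at h5
    have h6 := hc _ h5
    -- (g⁻¹ s g) u (g⁻¹ s g)⁻¹ = u
    have h7 : s * w * s⁻¹ = w := by
      calc s * w * s⁻¹ = g * ((g⁻¹ * s * g) * u * (g⁻¹ * s * g)⁻¹) * g⁻¹ := by rw [← e]; group
        _ = g * u * g⁻¹ := by rw [h6]
        _ = w := e
    rw [mul_inv_eq_iff_eq_mul] at h7
    exact h7

end AffD

theorem AffD.card {L W : Subgroup (Perm Ω)} (h : AffD L W) (a : Ω) : Nat.card W = Nat.card Ω := by
  refine Nat.card_congr (Equiv.ofBijective (fun w : W => w.1 a) ⟨?_, ?_⟩)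
  · intro u v e
    exact Subtype.ext (h.eq u.2 v.2 e)
  · intro b
    obtain ⟨w, hw, e⟩ := h.trans a b
    exact ⟨⟨w, hw⟩, e⟩

theorem AffD.orderOf_dvd {L W : Subgroup (Perm Ω)} (h : AffD L W) (a : Ω) {u : Perm Ω} (hu : u ∈ W) :
    orderOf u ∣ Nat.card Ω := by
  rw [← h.card a, ← Subgroup.orderOf_mk u hu]
  exact orderOf_dvd_natCard _

end Cfsg.Agent.H523.KA.Perm
end

-- part: H523/KA/Aff
section
/-!
# S3414, key lemma, affine case and easy case
-/

set_option autoImplicit false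

namespace Cfsg.Agent.H523.KA.Aff

open Cfsg Cfsg.Agent.H873.Tits Cfsg.Agent.H523.KA.Base Cfsg.Agent.H523.KA.Abs Cfsg.Agent.H523.KA.Perm

universe u v

variable {G : Type u} [Group G] {V : Type v} [MulAction G V] {P : Pol G V} {p : ℕ}

theorem sit (hA : CaseA P p) (y : V) : Sit (act P p y) (Y P p y) where
  cent z _ h1 a ha := (Y_comm hA y a ha z ((act_eq_one P p).1 h1)).symm

theorem two (F : Facts P) (y : V) : ∀ a b a' b' : {w : V // P.adj y w}, a ≠ b → a' ≠ b' →
    ∃ g ∈ P.L y, g a = a' ∧ g b = b' := by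
  intro a b a' b' h h'
  obtain ⟨g, hg, e1, e2⟩ := F.two_trans a.2 b.2 (fun e => h (Subtype.ext e)) a'.2 b'.2 (fun e => h' (Subtype.ext e))
  exact ⟨P.toPerm y ⟨g, hg⟩, (mem_L P).2 ⟨_, rfl⟩, Subtype.ext e1, Subtype.ext e2⟩

/-- the regular normal subgroup is in the image of `Y` -/
theorem W_le (F : Facts P) (hA : CaseA P p) {x y : V} (hxy : P.adj x y) {W : Subgroup (Equiv.Perm {w : V // P.adj y w})}
    (h : AffD (P.L y) W) : W ≤ (Y P p y).map (act P p y) := by
  have : Nonempty {w : V // P.adj y w} := ⟨⟨x, P.symm hxy⟩⟩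
  refine h.le_of_normal (two F y) ?_ ?_ ?_
  · rintro _ ⟨b, -, rfl⟩
    exact act_mem_L P p y b
  · rintro σ hσ _ ⟨b, hb, rfl⟩
    obtain ⟨s, rfl⟩ := exists_act P p hσ
    exact ⟨s * b * s⁻¹, Y_conj P p y s hb, by simp only [_root_.map_mul, _root_.map_inv]⟩
  · intro e
    obtain ⟨a, ha, hay⟩ := exists_mem_Q hA (P.symm hxy)
    have h1 : a ∈ P.K x := Q_le_K P p x ha
    have h2 : a ∈ P.S y := K_le_S_adj P hxy h1
    have h3 : act P p y (pi P p y ⟨a, h2⟩) ∈ (Y P p y).map (act P p y) :=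
      ⟨_, im_le_Y P p (P.symm hxy) ⟨⟨a, h2⟩, h1, rfl⟩, rfl⟩
    rw [e, Subgroup.mem_bot, act_pi, toPerm_eq_one] at h3
    exact hay h3

/-- **K1 + K3, elementwise**: an `r`-element of `K x ⊓ S w` is in `K w`. -/
theorem mem_K [Finite G] [Finite V] (F : Facts P) (hA : CaseA P p) {x y w : V} (hxy : P.adj x y) (hyw : P.adj y w)
    {r : ℕ} (hr : r.Prime) (hrp : r ≠ p) (hL : Aff (P.L y))
    (h2 : r ≠ 2 ∨ ¬ 2 ∣ P.q (P.tp y) + 1 ∨ ¬ 2 ∣ Nat.card ↥(P.K y)) {g : G} (hg : g ∈ P.K x) (hgw : g ∈ P.S w) {n : ℕ}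
    (hgr : orderOf g = r ^ n) : g ∈ P.K w := by
  classical
  obtain ⟨W, hW⟩ := AffD.of hL
  have hne : Nonempty {w : V // P.adj y w} := ⟨⟨x, P.symm hxy⟩⟩
  set x₁ : {w : V // P.adj y w} := ⟨x, P.symm hxy⟩ with hx₁
  set w₁ : {w : V // P.adj y w} := ⟨w, hyw⟩ with hw₁
  have hgy : g ∈ P.S y := K_le_S_adj P hxy hg
  obtain ⟨t, htW, ht⟩ := hW.trans x₁ w₁
  obtain ⟨τ, hτ, hτt⟩ := W_le F hA hxy hW htW
  set ρ := pi P p y ⟨g, hgy⟩ with hρ
  have hρY : ρ ∈ Y P p y := im_le_Y P p (P.symm hxy) ⟨⟨g, hgy⟩, hg, rfl⟩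
  have hρx : act P p y ρ x₁ = x₁ := Subtype.ext hg.1
  have hρw : act P p y ρ w₁ = w₁ := Subtype.ext hgw
  have hc : act P p y ρ * act P p y τ = act P p y τ * act P p y ρ := by
    rw [hτt]
    exact hW.comm_of_fix (act_mem_L P p y ρ) htW hρx (by rw [ht]; exact hρw)
  have S := sit hA y
  obtain ⟨⟨z1, z2⟩, z3, z4⟩ := S.zpow hρY hτ hc
  rw [hτt] at z4
  obtain ⟨z, hz⟩ : ∃ z, z = ρ * τ * ρ⁻¹ * τ⁻¹ := ⟨_, rfl⟩
  rw [← hz] at z1 z2 z3 z4
  -- the order of z is a power of r
  have hρo : orderOf ρ ∣ r ^ n := by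
    rw [← hgr, ← Subgroup.orderOf_mk g hgy]
    exact orderOf_map_dvd _ _
  have zo : orderOf z ∣ r ^ n := (orderOf_dvd_of_pow_eq_one z3).trans hρo
  have key : z = 1 := by
    by_cases hrt : r ∣ orderOf t
    · have hto : orderOf t = r := hW.orderOf_prime (two F y) htW hr hrt
      by_cases hr2 : r = 2
      · subst hr2
        rcases h2 with h2 | h2 | h2
        · exact absurd rfl h2
        · exfalso
          apply h2
          rw [← P.card_nb y]
          exact hrt.trans (hW.orderOf_dvd x₁ htW)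
        · -- z is in the image of K y
          obtain ⟨k, hk, e⟩ := (act_eq_one P p).1 z2
          have h5 : orderOf z ∣ Nat.card ↥(P.K y) := by
            rw [← e]
            refine (orderOf_map_dvd _ _).trans ?_
            rw [← Subgroup.orderOf_coe k, ← Subgroup.orderOf_mk (k : G) (show (k : G) ∈ P.K y from hk)]
            exact orderOf_dvd_natCard _
          have h6 : Nat.Coprime (2 ^ n) (Nat.card ↥(P.K y)) :=
            Nat.Coprime.pow_left n ((Nat.Prime.coprime_iff_not_dvd Nat.prime_two).2 h2)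
          rw [← orderOf_eq_one_iff]
          exact Nat.eq_one_of_dvd_coprimes h6 zo h5
      · -- the trace argument
        let T : Subgroup (Sb P p y) := im P p y (Q P p x)
        have hTY : T ≤ Y P p y := (im_mono P p (Q_le_K P p x)).trans (im_le_Y P p (P.symm hxy))
        have hTp : IsPGroup p ↥T := by
          have h5 : IsPGroup p ↥((Q P p x).subgroupOf (P.S y)) := (isPGroup_Q P p x).comap_subtype
          exact h5.map _
        -- normalised by the stabilizer of x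
        have hTn : ∀ b : Sb P p y, act P p y b x₁ = x₁ → ∀ s ∈ T, b * s * b⁻¹ ∈ T := by
          intro b hb s hs
          obtain ⟨b, rfl⟩ := pi_surjective P p y b
          obtain ⟨q, hq, rfl⟩ := hs
          have hbx : (b : G) • x = x := congrArg Subtype.val hb
          refine ⟨b * q * b⁻¹, ?_, by simp only [_root_.map_mul, _root_.map_inv]⟩
          have h6 := conj_mem_Q P p (b : G) (show (q : G) ∈ Q P p x from hq)
          rwa [hbx] at h6
        have hTx : ∀ s ∈ T, act P p y s x₁ = x₁ := by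
          rintro _ ⟨q, hq, rfl⟩
          exact Subtype.ext (Q_le_S P p x hq)
        have h5 := S.trace hρY hτ hc W hW.comm (by rw [hτt]; exact htW) T hTY
          (fun s _ a ha => hW.conj _ (act_mem_L P p y s) a ha) (fun s hs => hTn ρ hρx s hs) (by
            intro a ha hfix
            refine hW.fix (two F y) (S := T.map (act P p y)) (a := x₁) ?_ ?_ ?_ ha ?_
            · rintro _ ⟨s, hs, rfl⟩
              exact hTx s hs
            · rintro σ hσ hσx _ ⟨s, hs, rfl⟩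
              obtain ⟨b, rfl⟩ := exists_act P p hσ
              exact ⟨b * s * b⁻¹, hTn b hσx s hs, by simp only [_root_.map_mul, _root_.map_inv]⟩
            · intro e
              obtain ⟨q, hq, hqy⟩ := exists_mem_Q hA (P.symm hxy)
              have h6 : q ∈ P.S y := K_le_S_adj P hxy (Q_le_K P p x hq)
              have h7 : act P p y (pi P p y ⟨q, h6⟩) ∈ T.map (act P p y) := ⟨_, ⟨⟨q, h6⟩, hq, rfl⟩, rfl⟩
              rw [e, Subgroup.mem_bot, act_pi, toPerm_eq_one] at h7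
              exact hqy h7
            · rintro _ ⟨s, hs, rfl⟩
              exact hfix s hs)
        rw [← hz] at h5
        have h6 := orderOf_dvd_of_pow_eq_one h5
        have : Fact p.Prime := ⟨hA.prime⟩
        obtain ⟨m, hm⟩ := IsPGroup.iff_card.1 hTp
        rw [hm] at h6
        have h7 : Nat.Coprime (r ^ n) (2 * p ^ m) := by
          refine Nat.Coprime.pow_left n (Nat.Coprime.mul_right ?_ (Nat.Coprime.pow_right m ?_))
          · exact (Nat.coprime_primes hr Nat.prime_two).2 hr2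
          · exact (Nat.coprime_primes hr hA.prime).2 hrp
        rw [← orderOf_eq_one_iff]
        exact Nat.eq_one_of_dvd_coprimes h7 zo h6
    · have h5 := orderOf_dvd_of_pow_eq_one z4
      have h6 : Nat.Coprime (r ^ n) (orderOf t) := Nat.Coprime.pow_left n ((Nat.Prime.coprime_iff_not_dvd hr).2 hrt)
      rw [← orderOf_eq_one_iff]
      exact Nat.eq_one_of_dvd_coprimes h6 zo h5
  -- ρ = τ ρ τ⁻¹
  have h8 : ρ = τ * ρ * τ⁻¹ := by
    rw [hz] at key
    rw [mul_inv_eq_one, mul_inv_eq_iff_eq_mul] at key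
    rw [eq_mul_inv_iff_mul_eq]
    exact key
  obtain ⟨b, rfl⟩ := pi_surjective P p y τ
  have hbx : (b : G) • x = w := by
    have h9 : act P p y (pi P p y b) x₁ = w₁ := by rw [hτt]; exact ht
    exact congrArg Subtype.val h9
  have h10 := conj_im P p b (show ρ ∈ im P p y (P.K x) from ⟨⟨g, hgy⟩, hg, rfl⟩)
  rw [← h8, hbx] at h10
  refine mem_K_of_im P (g := ⟨g, hgy⟩) hyw ?_ h10
  show (orderOf g).Coprime p
  rw [hgr]
  exact Nat.Coprime.pow_left n ((Nat.coprime_primes hr hA.prime).2 hrp)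

/-- an `r`-subgroup criterion: if all elements of order a power of `r` of `A` lie in `B` then `|A|_r ≤ |B|_r` -/
theorem factorization_le [Finite G] {A B : Subgroup G} {r : ℕ} (hr : r.Prime)
    (h : ∀ g ∈ A, ∀ n : ℕ, orderOf g = r ^ n → g ∈ B) :
    (Nat.card A).factorization r ≤ (Nat.card B).factorization r := by
  have : Fact r.Prime := ⟨hr⟩
  obtain ⟨R⟩ : Nonempty (Sylow r A) := inferInstance
  have h1 : (R : Subgroup A).map A.subtype ≤ B := by
    rintro _ ⟨a, ha, rfl⟩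
    obtain ⟨n, hn⟩ := (IsPGroup.iff_orderOf.1 R.2) ⟨a, ha⟩
    rw [Subgroup.orderOf_mk] at hn
    refine h a a.2 n ?_
    rw [Subgroup.orderOf_coe]
    exact hn
  have h2 : Nat.card ↥((R : Subgroup A).map A.subtype) = r ^ (Nat.card A).factorization r := by
    rw [Subgroup.card_map_of_injective A.subtype_injective]
    exact R.card_eq_multiplicity
  have h3 := Subgroup.card_dvd_of_le h1
  rw [h2] at h3
  exact (hr.pow_dvd_iff_le_factorization Nat.card_pos.ne').1 h3

theorem factorization_mono [Finite G] {A B : Subgroup G} (hBA : B ≤ A) (r : ℕ) :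
    (Nat.card B).factorization r ≤ (Nat.card A).factorization r :=
  (Nat.factorization_le_iff_dvd Nat.card_pos.ne' Nat.card_pos.ne').2 (Subgroup.card_dvd_of_le hBA) r

/-- from `K x ⊓ S w` to the parameter -/
theorem of_factorization [Finite G] [Finite V] (F : Facts P) {x x' y w : V} (hxy : P.adj x y) (hyw : P.adj y w)
    (hxw : x ≠ w) (hop : P.Opp x x') {r : ℕ} (hr : r.Prime)
    (h : (Nat.card ↥(P.K x ⊓ P.S w)).factorization r ≤ (Nat.card ↥(P.K x ⊓ P.K w)).factorization r) :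
    (P.q (P.tp x)).factorization r ≤ (P.idx x x').factorization r := by
  obtain ⟨q, hq, rfl, rfl, rfl⟩ := F.extend3 hxy hyw hxw
  have h1 := F.count_main (i := 1) (x' := x') hr hq (by rcases P.hn with h | h | h <;> omega) hop
  have h2 := factorization_mono (show P.K (q 1) ⊓ P.K (q 3) ⊓ P.H q ≤ P.K (q 1) ⊓ P.H q from
    le_inf (inf_le_left.trans inf_le_left) inf_le_right) r
  have h3 : (P.q (P.tp (q 1))).factorization r + (Nat.card ↥(P.K (q 1) ⊓ P.H q)).factorization r +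
      (Nat.card ↥(P.K (q 1) ⊓ P.K (q 3))).factorization r ≤
    (Nat.card ↥(P.K (q 1) ⊓ P.S (q 3))).factorization r + (P.idx (q 1) x').factorization r +
      (Nat.card ↥(P.K (q 1) ⊓ P.K (q 3) ⊓ P.H q)).factorization r := h1
  omega

theorem exists_other {y x : V} (P : Pol G V) (_ : P.adj y x) : ∃ w, P.adj y w ∧ x ≠ w := by
  by_contra hc
  push Not at hc
  have h1 : Nat.card {w : V // P.adj y w} ≤ 1 := by
    have : Subsingleton {w : V // P.adj y w} := ⟨fun a b => Subtype.ext ((hc _ a.2).symm.trans (hc _ b.2))⟩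
    exact Finite.card_le_one_iff_subsingleton.2 this
  rw [P.card_nb] at h1
  have := P.two_le (P.tp y)
  omega

end Cfsg.Agent.H523.KA.Aff

namespace Cfsg.Agent.H523.KA

open Cfsg Cfsg.Agent.H873.Tits Cfsg.Agent.H523.KA.Base Cfsg.Agent.H523.KA.Abs Cfsg.Agent.H523.KA.Perm Cfsg.Agent.H523.KA.Aff

universe u v

/-- **K1 + K3** -/
theorem st_key_aff : StKeyAff.{u, v} := by
  intro G _ _ V _ _ P F p hA x y x' hxy hop r hr hrp hL h2
  obtain ⟨w, hyw, hxw⟩ := exists_other P (P.symm hxy)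
  refine of_factorization F hxy hyw hxw hop hr ?_
  refine factorization_le hr ?_
  intro g hg n hn
  exact ⟨hg.1, mem_K F hA hxy hyw hr hrp hL h2 hg.1 hg.2 hn⟩

/-- **K0** -/
theorem st_key_easy : StKeyEasy.{u, v} := by
  intro G _ _ V _ _ P F p hA x y y' z hxy hxz hyz hop r hr hrp hri
  have : Fact r.Prime := ⟨hr⟩
  set s := P.q (P.tp x) with hs
  set t := P.q (P.tp y) with ht
  have hs2 : 2 ≤ s := P.two_le _
  have ht2 : 2 ≤ t := P.two_le _
  have htp : P.q (!P.tp y) = s := by rw [P.tp_adj hxy, Bool.not_not]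
  have h1 := F.count_opp hop
  rw [htp, ← ht] at h1
  -- the index of `K y ⊓ S z` divides `s`
  have h2 := F.relIndex_dvd (P.symm hxy) (P.symm hxz) hyz
  rw [← hs] at h2
  set A : Subgroup G := P.K y ⊓ P.S z with hA'
  have h3 : Nat.card A * A.relIndex (P.K y) = Nat.card (P.K y) := by
    have := Subgroup.relIndex_mul_relIndex ⊥ A (P.K y) bot_le inf_le_left
    simpa only [Subgroup.relIndex_bot_left] using this
  have hK0 : Nat.card (P.K y) ≠ 0 := Nat.card_pos.ne'
  have hA0 : Nat.card A ≠ 0 := Nat.card_pos.ne'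
  have hi0 : A.relIndex (P.K y) ≠ 0 := fun e => hK0 (by rw [← h3, e, mul_zero])
  have hx0 : P.idx y y' ≠ 0 := by
    intro e
    rw [e, zero_mul] at h1
    have h4 : 0 < t ^ (P.n / 2 - 1) * s ^ (P.n / 2) * Nat.card ↥(P.K y ⊓ P.S y') :=
      Nat.mul_pos (Nat.mul_pos (Nat.pow_pos (by omega)) (Nat.pow_pos (by omega))) Nat.card_pos
    omega
  -- factorizations
  have f1 : (Nat.card (P.K y)).factorization r = (P.n / 2 - 1) * t.factorization r + (P.n / 2) * s.factorization r +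
      (Nat.card ↥(P.K y ⊓ P.S y')).factorization r := by
    have h4 := congrArg (fun n : ℕ => n.factorization r) h1
    rw [Nat.factorization_mul hx0 hK0, Nat.factorization_mul
        (Nat.mul_pos (Nat.pow_pos (by omega)) (Nat.pow_pos (by omega))).ne' Nat.card_pos.ne',
      Nat.factorization_mul (Nat.pow_pos (by omega)).ne' (Nat.pow_pos (by omega)).ne', Nat.factorization_pow,
      Nat.factorization_pow] at h4
    simp only [Finsupp.add_apply, Finsupp.smul_apply, smul_eq_mul] at h4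
    rw [Nat.factorization_eq_zero_of_not_dvd hri, zero_add] at h4
    exact h4
  have f2 : (Nat.card (P.K y)).factorization r = (Nat.card A).factorization r + (A.relIndex (P.K y)).factorization r := by
    rw [← h3, Nat.factorization_mul hA0 hi0, Finsupp.add_apply]
  have f3 : (A.relIndex (P.K y)).factorization r ≤ s.factorization r :=
    (Nat.factorization_le_iff_dvd hi0 (by omega)).2 h2 r
  -- the image in the local group
  have hAx : A ≤ P.S x := inf_le_left.trans (K_le_S_adj P (P.symm hxy))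
  let f : A →* Equiv.Perm {w : V // P.adj x w} := (P.toPerm x).comp (Subgroup.inclusion hAx)
  have f4 : f.range ≤ P.img x (P.S y ⊓ P.S z) := by
    rintro _ ⟨a, rfl⟩
    refine ⟨⟨a, hAx a.2⟩, ?_, rfl⟩
    exact ⟨P.K_le_S y a.2.1, a.2.2⟩
  have f5 : IsPGroup p ↥f.ker := by
    have h5 : ∀ a : f.ker, ((a : A) : G) ∈ P.K x ⊓ P.K y := by
      intro a
      refine ⟨?_, a.1.2.1⟩
      have h6 : P.toPerm x ⟨((a : A) : G), hAx a.1.2⟩ = 1 := a.2
      exact (toPerm_eq_one P).1 h6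
    refine (hA.pgroup hxy).of_injective (⟨⟨fun a => ⟨((a : A) : G), h5 a⟩, rfl⟩, fun _ _ => rfl⟩ :
      f.ker →* ↥(P.K x ⊓ P.K y)) ?_
    intro a b e
    have h7 : ((a : A) : G) = ((b : A) : G) := congrArg (fun c : ↥(P.K x ⊓ P.K y) => (c : G)) e
    exact Subtype.ext (Subtype.ext h7)
  have f6 : (Nat.card A).factorization r = (Nat.card f.range).factorization r := by
    have h5 := f.ker.card_mul_index
    rw [Subgroup.index_ker] at h5
    have : Fact p.Prime := ⟨hA.prime⟩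
    obtain ⟨m, hm⟩ := IsPGroup.iff_card.1 f5
    rw [← h5, hm, Nat.factorization_mul (pow_pos hA.prime.pos m).ne' Nat.card_pos.ne', Finsupp.add_apply,
      Nat.factorization_eq_zero_of_not_dvd, zero_add]
    intro h6
    exact hrp ((Nat.prime_dvd_prime_iff_eq hr hA.prime).1 (hr.dvd_of_dvd_pow h6))
  have f7 : (Nat.card f.range).factorization r ≤ (P.T2 x y z).factorization r := by
    have : Finite {w : V // P.adj x w} := inferInstance
    exact (Nat.factorization_le_iff_dvd Nat.card_pos.ne' Nat.card_pos.ne').2 (Subgroup.card_dvd_of_le f4) r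
  -- arithmetic
  have hm : 2 ≤ P.n / 2 := by rcases P.hn with h | h | h <;> (clear * - hAx h; omega)
  obtain ⟨m, hm'⟩ := Nat.exists_eq_add_of_le hm
  rw [hm'] at f1
  have e1 : 2 + m - 1 = m + 1 := by omega
  rw [e1] at f1
  generalize s.factorization r = b at *
  generalize t.factorization r = a at *
  linarith only [f2, f6, f7, f3, f1, Nat.zero_le (m * a), Nat.zero_le (m * b)]

end Cfsg.Agent.H523.KA
end

-- part: H272/TP/Star
section
/-!
# S3414, step (*): the stabilizers in `K y` of the `O_p (K y)`-orbits on the `w ~ x`, `w ≠ y` (helper272)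
-/

set_option autoImplicit false

open Subgroup Cfsg

namespace Cfsg.Agent.H272.TP

open Cfsg.Agent.H873.Tits

universe u v

section abstr

variable {G : Type u} [Group G]

/-- a `p`-subgroup of `K` normalized by `K` is contained in the largest `p`-subgroup of `K` normal in `A` -/
theorem mem_of_normal {A K Q Q' : Subgroup G} {p : ℕ} [Finite G] (hKA : K ≤ A) (hK : ∀ a ∈ A, ∀ k ∈ K, a * k * a⁻¹ ∈ K)
    (hmax : ∀ R : Subgroup G, R ≤ K → (R.subgroupOf A).Normal → IsPGroup p ↥R → R ≤ Q)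
    (hQ' : IsPGroup p ↥Q') (hn : ∀ k ∈ K, ∀ e ∈ Q', k * e * k⁻¹ ∈ Q') {e : G} (he : e ∈ Q') (heK : e ∈ K) : e ∈ Q := by
  let N : Subgroup ↥A := K.subgroupOf A
  have hN : N.Normal := ⟨fun n hn a => hK a a.2 n hn⟩
  let T : Subgroup ↥N := Q'.comap (A.subtype.comp N.subtype)
  have hT : T.Normal := ⟨fun t ht n => hn _ n.2 _ ht⟩
  have hTp : IsPGroup p ↥T := by
    rintro ⟨t, ht⟩
    obtain ⟨k, hk⟩ := hQ' ⟨((t : ↥A) : G), ht⟩
    have hk' : ((t : ↥A) : G) ^ p ^ k = 1 := congrArg Subtype.val hk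
    refine ⟨k, Subtype.ext (Subtype.ext (Subtype.ext ?_))⟩
    exact hk'
  have h1 : T ≤ pCore p ↥N := Lib.Cores.le_pCore hT hTp
  let R : Subgroup G := (N ⊓ pCore p ↥A).map A.subtype
  have hR : R ≤ Q := by
    apply hmax
    · rintro _ ⟨a, ha, rfl⟩
      exact ha.1
    · have h2 : R.subgroupOf A = N ⊓ pCore p ↥A := by
        show ((N ⊓ pCore p ↥A).map A.subtype).comap A.subtype = _
        exact comap_map_eq_self_of_injective A.subtype_injective _
      rw [h2]
      have := Lib.Cores.pCore_normal (G := ↥A) p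
      infer_instance
    · exact ((Lib.Cores.pCore_isPGroup (G := ↥A) p).to_le inf_le_right).map _
  apply hR
  have h3 : (⟨⟨e, hKA heK⟩, heK⟩ : ↥N) ∈ pCore p ↥N := h1 he
  have h4 := Lib.Cores.map_subtype_pCore p hN
  have h5 : (⟨e, hKA heK⟩ : ↥A) ∈ (pCore p ↥N).map N.subtype := ⟨_, h3, rfl⟩
  rw [h4] at h5
  exact ⟨⟨e, hKA heK⟩, by simpa only [inf_comm, _root_.Subgroup.coe_inf, _root_.Set.mem_inter_iff, _root_.SetLike.mem_coe, _root_.Subgroup.mem_inf] using h5, rfl⟩

end abstr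

section star

variable {G : Type u} [Group G] {V : Type v} [MulAction G V]

/-- `g` fixes the `Q`-orbit of `w` -/
def Fx (Q : Subgroup G) (g : G) (w : V) : Prop := ∃ a ∈ Q, g • w = a • w

/-- transport by an element normalizing `Q` -/
theorem Fx.conj {Q : Subgroup G} {h g : G} {w : V} (hn : ∀ q ∈ Q, h * q * h⁻¹ ∈ Q) (hf : Fx Q g w) :
    Fx Q (h * g * h⁻¹) (h • w) := by
  obtain ⟨a, ha, e⟩ := hf
  refine ⟨h * a * h⁻¹, hn a ha, ?_⟩
  rw [mul_smul, inv_smul_smul, mul_smul, e, mul_smul, inv_smul_smul, mul_smul]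

/-- changing `g` by an element of `Q` -/
theorem Fx.mul {Q : Subgroup G} {e g : G} {w : V} (he : e ∈ Q) (hf : Fx Q g w) : Fx Q (e * g) w := by
  obtain ⟨a, ha, h⟩ := hf
  exact ⟨e * a, mul_mem he ha, by rw [mul_smul, h, mul_smul]⟩

end star

/-- **(*)** -/
theorem st_star : StStar.{u, v} := by
  intro G _ _ V _ _ P F p hA x y w₁ w₂ hxy hw₁ hw₁y hw₂ hw₂y Q hQK hQn hQp hmax g hg hfx
  have hKS : P.K y ≤ P.S y := P.K_le_S y
  have hKn : ∀ a ∈ P.S y, ∀ k ∈ P.K y, a * k * a⁻¹ ∈ P.K y := by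
    intro a ha k hk
    have ha' : a • y = y := ha
    have hai : a⁻¹ • y = y := inv_smul_eq_iff.2 ha'.symm
    refine ⟨?_, fun w hw => ?_⟩
    · rw [mul_smul, mul_smul, hai, hk.1, ha']
    · have h1 : P.adj y (a⁻¹ • w) := by
        have := P.smul_adj a⁻¹ hw
        rwa [hai] at this
      rw [mul_smul, mul_smul, hk.2 _ h1, smul_inv_smul]
  have hQn' : ∀ a ∈ P.S y, ∀ q ∈ Q, a * q * a⁻¹ ∈ Q := by
    intro a ha q hq
    have h1 := hQn.conj_mem ⟨q, hKS (hQK hq)⟩ hq ⟨a, ha⟩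
    exact h1
  -- the element `a` moving `x`
  obtain ⟨x', a, hx'y, haS, hax, Q', hQ'p, haQ', hQ'n⟩ : ∃ (x' : V) (a : G), P.adj y x' ∧ a ∈ P.S y ∧ a • x ≠ x ∧
      ∃ Q' : Subgroup G, IsPGroup p ↥Q' ∧ a ∈ Q' ∧ ∀ k ∈ P.S x', ∀ e ∈ Q', k * e * k⁻¹ ∈ Q' := by
    obtain ⟨Q₀, hQ₀K, hQ₀n, hQ₀p, hnle⟩ := hA.big (x := y) (y := x) (P.symm hxy)
    obtain ⟨a, ha, hay⟩ := Set.not_subset.1 hnle
    have hax : a • x = x ∧ ∀ w, P.adj x w → a • w = w := hQ₀K ha
    have hay' : a • y = y := hax.2 y hxy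
    -- a moved neighbour
    obtain ⟨x₀, hx₀, hne⟩ : ∃ x₀, P.adj y x₀ ∧ a • x₀ ≠ x₀ := by
      by_contra hcon
      push Not at hcon
      exact hay ⟨hay', hcon⟩
    have hx₀x : x₀ ≠ x := by rintro rfl; exact hne hax.1
    -- an element of `S y` moving `x₀` to `x` (and `x` to `x₀`)
    obtain ⟨h, hh, h1, h2⟩ := F.two_trans hx₀ (P.symm hxy) hx₀x (P.symm hxy) hx₀ hx₀x.symm
    have hh' : h • y = y := hh
    have hhi : h⁻¹ • y = y := inv_smul_eq_iff.2 hh'.symm
    refine ⟨x₀, h * a * h⁻¹, hx₀, ?_, ?_, Q₀.map (MulAut.conj h).toMonoidHom, hQ₀p.map _, ⟨a, ha, rfl⟩, ?_⟩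
    · show (h * a * h⁻¹) • y = y
      rw [mul_smul, mul_smul, hhi, hay', hh']
    · intro h3
      apply hne
      rw [← h1, mul_smul, mul_smul, inv_smul_smul] at h3
      exact smul_left_cancel h h3
    · rintro k hk _ ⟨e, he, rfl⟩
      refine ⟨(h⁻¹ * k * h) * e * (h⁻¹ * k * h)⁻¹, ?_, ?_⟩
      · have h4 : h⁻¹ * k * h ∈ P.S x := by
          show (h⁻¹ * k * h) • x = x
          have hk' : k • x₀ = x₀ := hk
          rw [mul_smul, mul_smul, h2, hk', inv_smul_eq_iff, h2]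
        have h5 := hQ₀n.conj_mem ⟨e, P.K_le_S x (hQ₀K he)⟩ he ⟨_, h4⟩
        exact h5
      · show h * ((h⁻¹ * k * h) * e * (h⁻¹ * k * h)⁻¹) * h⁻¹ = k * (h * e * h⁻¹) * k⁻¹
        group
  have haS' : a • y = y := haS
  have hai : a⁻¹ ∈ P.S y := inv_mem haS
  -- commutators
  have hcomm : ∀ k ∈ P.K y, a * k * a⁻¹ * k⁻¹ ∈ Q := by
    intro k hk
    have hkx' : k ∈ P.S x' := hk.2 x' hx'y
    refine mem_of_normal hKS hKn hmax hQ'p (fun k hk e he => hQ'n k (hk.2 x' hx'y) e he) ?_ ?_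
    · have h1 : k * a⁻¹ * k⁻¹ ∈ Q' := hQ'n k hkx' _ (inv_mem haQ')
      have e : a * k * a⁻¹ * k⁻¹ = a * (k * a⁻¹ * k⁻¹) := by group
      rw [e]
      exact mul_mem haQ' h1
    · exact mul_mem (hKn a haS k hk) (inv_mem hk)
  -- `M(w) = M(a w)`
  have htr : ∀ {k : G} {w : V}, k ∈ P.K y → Fx Q k w → Fx Q k (a • w) := by
    intro k w hk hf
    have h1 := Fx.conj (h := a) (fun q hq => hQn' a haS q hq) hf
    have h2 : k = (a * k * a⁻¹ * k⁻¹)⁻¹ * (a * k * a⁻¹) := by group
    rw [h2]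
    exact Fx.mul (inv_mem (hcomm k hk)) h1
  have htr' : ∀ {k : G} {w : V}, k ∈ P.K y → Fx Q k (a • w) → Fx Q k w := by
    intro k w hk hf
    have h1 := Fx.conj (h := a⁻¹) (fun q hq => hQn' a⁻¹ hai q hq) hf
    rw [inv_smul_smul, inv_inv] at h1
    -- `a⁻¹ k a ∈ Q k`
    have h3 : a⁻¹ * k * a ∈ P.K y := by
      have := hKn a⁻¹ hai k hk
      rwa [inv_inv] at this
    have h4 := hcomm _ h3
    have h5 : a * (a⁻¹ * k * a) * a⁻¹ * (a⁻¹ * k * a)⁻¹ = k * (a⁻¹ * k * a)⁻¹ := by group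
    rw [h5] at h4
    have h6 : k = (k * (a⁻¹ * k * a)⁻¹) * (a⁻¹ * k * a) := by group
    rw [h6]
    exact Fx.mul h4 h1
  -- pair transitivity
  set z := a • x with hz
  have hzy : P.adj z y := by
    have := P.smul_adj a hxy
    rwa [haS'] at this
  have hu : P.adj z (a • w₁) := P.smul_adj a hw₁
  have huy : a • w₁ ≠ y := by
    intro h
    apply hw₁y
    rw [← haS'] at h
    exact smul_left_cancel a h
  obtain ⟨h, hh, h1, h2⟩ := F.pair_trans hxy hzy (Ne.symm hax) hw₁ hw₁y hu huy hw₂ hw₂y hu huy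
  have hhy : h ∈ P.S y := hh.1.2
  have hf1 : Fx Q g (a • w₁) := htr hg hfx
  -- transport by `h`: `M(w₂) = h M(w₁) h⁻¹`
  have hg' : h⁻¹ * g * h ∈ P.K y := by
    have := hKn h⁻¹ (inv_mem hhy) g hg
    rwa [inv_inv] at this
  have h3 : Fx Q (h⁻¹ * g * h) (a • w₁) := by
    have h4 := Fx.conj (h := h⁻¹) (fun q hq => hQn' h⁻¹ (inv_mem hhy) q hq) hf1
    rw [inv_inv] at h4
    have h5 : h⁻¹ • (a • w₁) = a • w₁ := inv_smul_eq_iff.2 h2.symm
    rwa [h5] at h4
  have h4 : Fx Q (h⁻¹ * g * h) w₁ := htr' hg' h3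
  have h5 := Fx.conj (h := h) (fun q hq => hQn' h hhy q hq) h4
  rw [h1] at h5
  have h6 : h * (h⁻¹ * g * h) * h⁻¹ = g := by group
  rw [h6] at h5
  exact h5

end Cfsg.Agent.H272.TP
end

private theorem dce_2a595cbcadde : _root_.True := by
  try have : _root_.True := by simp only [_root_.Cfsg.Agent.H523.KA.Base.pi.eq_1]
  exact _root_.True.intro
end

section
prune_inst 0xfda8f8b9b8a1dedfbf7e7faed0ddfc39901fffa6dff943ffe049df0bdf030009c5fbad09e080fe0ed6401410a87853fb7eaefe6029dc7ffffd5ff41ffbee0fb5e7b10051948c340f3c2ffe03e0778e7f000000000000000000000000000000000000000000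

-- part: H482/Tab/Lin
section
prune_inst 0x2060346471a2120000180502e0003c62de000100006b800042000b000f89ad4320410721b6c00110081a80c440388008151018a4621000000a000600411904a180c1b2868008a00c04000f010000000000000000000000000000000000000004200000000
set_option linter.all false
open scoped Cfsg.Agent.FastGrp

-- part: H482/Tab/Frob
section
/-!
# Elements of prime order acting irreducibly: conjugates commuting with `g` are Frobenius powers (S3414, TAB1c)
-/

set_option autoImplicit false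

namespace Cfsg.Agent.H482.Tab

open Module Cfsg.Agent.LieExceptional.SingerCentralizer

variable {F V : Type*} [Field F] [Finite F] [AddCommGroup V] [Module F V] [FiniteDimensional F V]
variable {g : Module.End F V} {p : ℕ}

theorem aeval_pow_card {R : Type*} [CommRing R] [Algebra F R] (y : R) (P : Polynomial F) (k : ℕ)
    (h : Polynomial.aeval y P = 0) : Polynomial.aeval (y ^ Nat.card F ^ k) P = 0 := by
  classical
  let _ : Fintype F := Fintype.ofFinite F
  induction k with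
  | zero => rwa [pow_zero, pow_one]
  | succ k ih =>
    rw [pow_succ, pow_mul]
    have h1 := FiniteField.expand_card P
    have h2 : Polynomial.aeval ((y ^ Nat.card F ^ k) ^ Fintype.card F) P =
        (Polynomial.aeval (y ^ Nat.card F ^ k) P) ^ Fintype.card F := by
      rw [← map_pow, ← h1, Polynomial.expand_aeval]
    rw [Nat.card_eq_fintype_card] at *
    rw [h2, ih, zero_pow Fintype.card_ne_zero]

theorem exists_frob (hp : p.Prime) (hgp : g ^ p = 1) (hg1 : g ≠ 1)
    (hpn : p ∣ Nat.card F ^ finrank F V - 1)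
    (hpd : ∀ d, 0 < d → d < finrank F V → ¬ p ∣ Nat.card F ^ d - 1)
    {x : Module.End F V} (hx : Commute x g)
    (hconj : ∃ u : (Module.End F V)ˣ, x = u * g * (u⁻¹ : (Module.End F V)ˣ)) :
    ∃ k, x = g ^ Nat.card F ^ k := by
  classical
  have : Finite V := Module.finite_of_finite F
  have : Finite (Module.End F V) := Module.finite_of_finite F
  have hdom := isDomain_centralizer hp hgp hg1 hpn hpd
  have hfield := Finite.isDomain_to_isField (Subalgebra.centralizer F ({g} : Set (Module.End F V)))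
  let _ : CommRing (Subalgebra.centralizer F ({g} : Set (Module.End F V))) :=
    { (inferInstance : Ring (Subalgebra.centralizer F ({g} : Set (Module.End F V)))) with
      mul_comm := hfield.mul_comm }
  let _ : Algebra F (Subalgebra.centralizer F ({g} : Set (Module.End F V))) :=
    Subalgebra.algebra _
  have : IsDomain (Subalgebra.centralizer F ({g} : Set (Module.End F V))) := hdom
  let g' : Subalgebra.centralizer F ({g} : Set (Module.End F V)) :=
    ⟨g, (Subalgebra.mem_centralizer_iff F).2 (fun x hx => by rw [Set.mem_singleton_iff.1 hx])⟩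
  let x' : Subalgebra.centralizer F ({g} : Set (Module.End F V)) :=
    ⟨x, (Subalgebra.mem_centralizer_iff F).2 (fun y hy => by
        rw [Set.mem_singleton_iff.1 hy]; exact hx.symm)⟩
  have hval : ∀ (y : Subalgebra.centralizer F ({g} : Set (Module.End F V))) (P : Polynomial F),
      ((Polynomial.aeval y P : Subalgebra.centralizer F ({g} : Set (Module.End F V))) : Module.End F V) =
        Polynomial.aeval (y : Module.End F V) P := fun y P =>
    (Polynomial.aeval_algHom_apply (Subalgebra.val _) y P).symm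
  have hrg : Polynomial.aeval g' (LinearMap.charpoly g) = 0 := by
    apply Subtype.ext
    rw [hval]
    change Polynomial.aeval g (LinearMap.charpoly g) = 0
    exact LinearMap.aeval_self_charpoly g
  have hrx : Polynomial.aeval x' (LinearMap.charpoly g) = 0 := by
    apply Subtype.ext
    rw [hval]
    change Polynomial.aeval x (LinearMap.charpoly g) = 0
    obtain ⟨u, hu⟩ := hconj
    rw [hu]
    have h2 : ∀ P : Polynomial F, Polynomial.aeval ((u : Module.End F V) * g * (u⁻¹ : (Module.End F V)ˣ)) P =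
        u * Polynomial.aeval g P * (u⁻¹ : (Module.End F V)ˣ) := by
      intro P
      induction P using Polynomial.induction_on' with
      | add a b ha hb => rw [map_add, map_add, ha, hb, mul_add, add_mul]
      | monomial n c =>
        rw [Polynomial.aeval_monomial, Polynomial.aeval_monomial, Units.conj_pow,
          Algebra.algebraMap_eq_smul_one, smul_mul_assoc, smul_mul_assoc, one_mul, one_mul,
          mul_smul_comm, smul_mul_assoc]
    rw [h2, LinearMap.aeval_self_charpoly, mul_zero, zero_mul]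
  set S := ((LinearMap.charpoly g).aroots
      (Subalgebra.centralizer F ({g} : Set (Module.End F V)))).toFinset with hS
  have hmem : ∀ y : Subalgebra.centralizer F ({g} : Set (Module.End F V)),
      Polynomial.aeval y (LinearMap.charpoly g) = 0 → y ∈ S := by
    intro y hy
    rw [hS, Multiset.mem_toFinset, Polynomial.mem_aroots]
    exact ⟨(LinearMap.charpoly_monic g).ne_zero, hy⟩
  have hScard : S.card ≤ finrank F V := by
    refine (Multiset.toFinset_card_le _).trans ?_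
    refine (Polynomial.card_roots' _).trans ?_
    rw [(LinearMap.charpoly_monic g).natDegree_map, LinearMap.charpoly_natDegree]
  let e : Fin (finrank F V) → Subalgebra.centralizer F ({g} : Set (Module.End F V)) :=
    fun k => g' ^ Nat.card F ^ (k : ℕ)
  have : Fact p.Prime := ⟨hp⟩
  obtain ⟨gu, hgu⟩ : ∃ gu : (Module.End F V)ˣ, (gu : Module.End F V) = g :=
    ⟨Units.ofPowEqOne g p hgp hp.ne_zero, rfl⟩
  have hord : orderOf gu = p := by
    rw [← orderOf_units, hgu]
    exact orderOf_eq_prime hgp hg1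
  have hq : 0 < Nat.card F := Nat.card_pos
  have he : Function.Injective e := by
    have key : ∀ i j : ℕ, i < j → j < finrank F V → g ^ Nat.card F ^ i ≠ g ^ Nat.card F ^ j := by
      intro i j hij hj heq
      rw [← hgu, ← Units.val_pow_eq_pow_val, ← Units.val_pow_eq_pow_val] at heq
      replace heq := Units.ext heq
      rw [pow_eq_pow_iff_modEq, hord] at heq
      have h1 : p ∣ Nat.card F ^ j - Nat.card F ^ i := (Nat.modEq_iff_dvd' (Nat.pow_le_pow_right hq hij.le)).1 heq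
      have h2 : Nat.card F ^ j - Nat.card F ^ i = Nat.card F ^ i * (Nat.card F ^ (j - i) - 1) := by
        rw [Nat.mul_sub, mul_one, ← pow_add, Nat.add_sub_cancel' hij.le]
      rw [h2] at h1
      rcases hp.dvd_mul.1 h1 with h3 | h3
      · have h4 : p ∣ Nat.card F := hp.dvd_of_dvd_pow h3
        have h5 : p ∣ Nat.card F ^ finrank F V := dvd_pow h4 (by omega)
        have h6 : p ∣ 1 := by
          have := Nat.dvd_sub h5 hpn
          rwa [Nat.sub_sub_self (Nat.one_le_pow _ _ hq)] at this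
        exact hp.one_lt.ne' (Nat.dvd_one.1 h6)
      · exact hpd (j - i) (by omega) (by omega) h3
    intro i j hij
    have h0 : g ^ Nat.card F ^ (i : ℕ) = g ^ Nat.card F ^ (j : ℕ) := congrArg Subtype.val hij
    rcases lt_trichotomy (i : ℕ) (j : ℕ) with h | h | h
    · exact absurd h0 (key _ _ h j.2)
    · exact Fin.ext h
    · exact absurd h0.symm (key _ _ h i.2)
  have himg : Finset.univ.image e ⊆ S := by
    intro y hy
    obtain ⟨k, -, rfl⟩ := Finset.mem_image.1 hy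
    exact hmem _ (aeval_pow_card g' _ k hrg)
  have hcard : (Finset.univ.image e).card = finrank F V := by
    rw [Finset.card_image_of_injective _ he, Finset.card_univ, Fintype.card_fin]
  have heq : Finset.univ.image e = S := Finset.eq_of_subset_of_card_le himg (by rw [hcard]; exact hScard)
  have hxS := hmem x' hrx
  rw [← heq] at hxS
  obtain ⟨k, -, hk⟩ := Finset.mem_image.1 hxS
  refine ⟨k, ?_⟩
  have := congrArg Subtype.val hk
  exact this.symm

end Cfsg.Agent.H482.Tab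
end

-- part: H482/Tab/Lin
section
/-!
# Transitive linear groups with a normal `p`-subgroup (S3414, TAB1c)

`φ : A → End V` faithful, transitive on the non-zero vectors, `T` the stabilizer of `w₁ ≠ 0`.
-/

set_option autoImplicit false
set_option linter.unusedSectionVars false
set_option linter.style.haveILetI false

namespace Cfsg.Agent.H482.Tab

open Module Cfsg.Agent.LieExceptional.SingerCentralizer

/-- linear action -/
structure TL (r₀ : ℕ) [Fact r₀.Prime] (V : Type*) [AddCommGroup V] [Module (ZMod r₀) V] (A : Type*) [Group A]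
    (φ : A →* Module.End (ZMod r₀) V) (w₁ : V) : Prop where
  inj : Function.Injective φ
  tr : ∀ v w : V, v ≠ 0 → w ≠ 0 → ∃ g, φ g v = w
  ne : w₁ ≠ 0

section

variable {r₀ : ℕ} [Fact r₀.Prime] {V : Type*} [AddCommGroup V] [Module (ZMod r₀) V]
variable {A : Type*} [Group A] (φ : A →* Module.End (ZMod r₀) V)

/-- the action -/
@[reducible] def act : MulAction A V where
  smul g v := φ g v
  one_smul v := by change φ 1 v = v; rw [map_one]; rfl
  mul_smul g h v := by change φ (g * h) v = φ g (φ h v); rw [map_mul]; rfl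

/-- the stabilizer -/
def stab (w : V) : Subgroup A where
  carrier := {g | φ g w = w}
  one_mem' := by change φ 1 w = w; rw [map_one]; rfl
  mul_mem' := by
    intro a b ha hb
    change φ (a * b) w = w
    rw [map_mul]
    change φ a (φ b w) = w
    rw [show φ b w = w from hb]; exact ha
  inv_mem' := by
    intro a ha
    change φ a⁻¹ w = w
    have h : φ a⁻¹ (φ a w) = w := by
      change (φ a⁻¹ * φ a) w = w
      rw [← map_mul, inv_mul_cancel, map_one]; rfl
    rwa [show φ a w = w from ha] at h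

theorem mem_stab {w : V} {g : A} : g ∈ stab φ w ↔ φ g w = w := Iff.rfl

theorem inv_apply (g : A) (v : V) : φ g⁻¹ (φ g v) = v := by
  change (φ g⁻¹ * φ g) v = v
  rw [← map_mul, inv_mul_cancel, map_one]; rfl

theorem apply_inv (g : A) (v : V) : φ g (φ g⁻¹ v) = v := by
  change (φ g * φ g⁻¹) v = v
  rw [← map_mul, mul_inv_cancel, map_one]; rfl

theorem exists_fixed [Finite V] {Q : Subgroup A} {q : ℕ} (hq : q.Prime) [Finite Q] (hQ : IsPGroup q ↥Q) (U : Set V)
    (hU : ∀ g ∈ Q, ∀ u ∈ U, φ g u ∈ U) (h0 : (0 : V) ∈ U) (hmod : ¬ Nat.card U ≡ 1 [MOD q]) :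
    ∃ u ∈ U, u ≠ 0 ∧ ∀ g ∈ Q, φ g u = u := by
  classical
  by_contra hcon
  push Not at hcon
  have : Fact q.Prime := ⟨hq⟩
  letI : MulAction ↥Q ↥U :=
    { smul := fun g u => ⟨φ g u, hU g g.2 u u.2⟩
      one_smul := fun u => Subtype.ext (by
        change φ (1 : A) u = u
        rw [map_one]; rfl)
      mul_smul := fun g h u => Subtype.ext (by
        change φ ((g : A) * (h : A)) u = φ g (φ h u)
        rw [map_mul]; rfl) }
  have h1 := hQ.card_modEq_card_fixedPoints ↥U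
  apply hmod
  refine h1.trans ?_
  have h2 : Nat.card (MulAction.fixedPoints ↥Q ↥U) = 1 := by
    rw [Nat.card_eq_one_iff_unique]
    constructor
    · constructor
      rintro ⟨⟨u, hu⟩, hu'⟩ ⟨⟨v, hv⟩, hv'⟩
      have key : ∀ (u : V) (hu : u ∈ U), (⟨u, hu⟩ : U) ∈ MulAction.fixedPoints ↥Q ↥U → u = 0 := by
        intro u hu hu'
        by_contra hne
        obtain ⟨g, hg, hgu⟩ := hcon u hu hne
        exact hgu (congrArg Subtype.val (hu' ⟨g, hg⟩))
      have e1 := key u hu hu'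
      have e2 := key v hv hv'
      subst e1; subst e2
      rfl
    · refine ⟨⟨⟨0, h0⟩, fun g => Subtype.ext ?_⟩⟩
      exact map_zero _
  rw [h2]

end

namespace TL

variable {r₀ : ℕ} [Fact r₀.Prime] {V : Type*} [AddCommGroup V] [Module (ZMod r₀) V] [Finite V]
variable {A : Type*} [Group A] [Finite A] {φ : A →* Module.End (ZMod r₀) V} {w₁ : V} (H : TL r₀ V A φ w₁)

include H

theorem card_A : Nat.card A = (Nat.card V - 1) * Nat.card (stab φ w₁) := by
  classical
  letI := act φ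
  have h1 : MulAction.stabilizer A w₁ = stab φ w₁ := by
    ext g; exact Iff.rfl
  have h2 := MulAction.index_stabilizer A w₁
  have h3 : MulAction.orbit A w₁ = {v | v ≠ 0} := by
    ext v
    constructor
    · rintro ⟨g, rfl⟩ h
      apply H.ne
      rw [← inv_apply φ g w₁]
      change φ g⁻¹ (g • w₁) = 0
      have : g • w₁ = 0 := h
      rw [this, map_zero]
    · intro hv
      obtain ⟨g, hg⟩ := H.tr w₁ v H.ne hv
      exact ⟨g, hg⟩
  rw [h3] at h2
  have h4 : ({v | v ≠ 0} : Set V).ncard = Nat.card V - 1 := by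
    have h5 : ({v | v ≠ 0} : Set V) = ({0} : Set V)ᶜ := by ext; simp
    rw [h5, Set.ncard_compl, Set.ncard_singleton]
  rw [← h4, ← h2, ← h1, Subgroup.index_mul_card]

theorem no_fixed {Q : Subgroup A} (hQ : Q.Normal) (hQ1 : Q ≠ ⊥) : ¬ ∃ u : V, u ≠ 0 ∧ ∀ g ∈ Q, φ g u = u := by
  rintro ⟨u, hu, hfix⟩
  apply hQ1
  rw [eq_bot_iff]
  intro g hg
  rw [Subgroup.mem_bot]
  apply H.inj
  rw [map_one]
  apply LinearMap.ext
  intro v
  change φ g v = v
  by_cases hv : v = 0
  · rw [hv, map_zero]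
  obtain ⟨a, rfl⟩ := H.tr u v hu hv
  have h1 := hfix (a⁻¹ * g * a) (by
    have := hQ.conj_mem g hg a⁻¹
    rwa [inv_inv] at this)
  have h2 : φ (a * (a⁻¹ * g * a)) u = φ a u := by
    rw [map_mul]
    change φ a (φ (a⁻¹ * g * a) u) = φ a u
    rw [h1]
  have h3 : a * (a⁻¹ * g * a) = g * a := by group
  rw [h3, map_mul] at h2
  exact h2

/-- `|V| ≡ |C_V(X)|` -/
theorem card_modEq {q : ℕ} (hq : q.Prime) (t : A) (ht : ∃ k, t ^ q ^ k = 1) :
    Nat.card (LinearMap.ker (φ t - 1)) ≡ Nat.card V [MOD q] := by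
  classical
  have : Fact q.Prime := ⟨hq⟩
  letI : MulAction (Subgroup.zpowers t) V :=
    { smul := fun g v => φ g v
      one_smul := fun v => by change φ (1 : A) v = v; rw [map_one]; rfl
      mul_smul := fun g h v => by
        change φ ((g : A) * (h : A)) v = φ g (φ h v)
        rw [map_mul]; rfl }
  have hP : IsPGroup q (Subgroup.zpowers t) := by
    obtain ⟨k, hk⟩ := ht
    rintro ⟨_, m, rfl⟩
    refine ⟨k, Subtype.ext ?_⟩
    change (t ^ m) ^ q ^ k = 1
    rw [← zpow_natCast, ← zpow_mul, mul_comm, zpow_mul, zpow_natCast, hk, one_zpow]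
  have h1 := hP.card_modEq_card_fixedPoints V
  refine Nat.ModEq.symm (h1.trans ?_)
  have h2 : Nat.card (MulAction.fixedPoints (Subgroup.zpowers t) V) = Nat.card (LinearMap.ker (φ t - 1)) := by
    refine Nat.card_congr (Equiv.subtypeEquivRight fun v => ?_)
    rw [MulAction.mem_fixedPoints, LinearMap.mem_ker, LinearMap.sub_apply, sub_eq_zero]
    constructor
    · intro h
      exact h ⟨t, Subgroup.mem_zpowers t⟩
    · rintro h ⟨_, m, rfl⟩
      change φ (t ^ m) v = v
      have h3 : t ∈ stab φ v := h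
      exact (stab φ v).zpow_mem h3 m
  rw [h2]

theorem card_dvd_GL : Nat.card A ∣ ∏ i : Fin (finrank (ZMod r₀) V), (r₀ ^ finrank (ZMod r₀) V - r₀ ^ (i : ℕ)) := by
  classical
  have : FiniteDimensional (ZMod r₀) V := Module.Finite.of_finite
  have h1 : Nat.card (Matrix.GeneralLinearGroup (Fin (finrank (ZMod r₀) V)) (ZMod r₀)) =
      ∏ i : Fin (finrank (ZMod r₀) V), (r₀ ^ finrank (ZMod r₀) V - r₀ ^ (i : ℕ)) := by
    have := Matrix.card_GL_field (𝔽 := ZMod r₀) (finrank (ZMod r₀) V)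
    rw [this, ZMod.card]
  rw [← h1]
  let b := Module.finBasis (ZMod r₀) V
  let e : Module.End (ZMod r₀) V ≃* Matrix (Fin (finrank (ZMod r₀) V)) (Fin (finrank (ZMod r₀) V)) (ZMod r₀) :=
    (LinearMap.toMatrixAlgEquiv b).toMulEquiv
  let f : A →* Matrix.GeneralLinearGroup (Fin (finrank (ZMod r₀) V)) (ZMod r₀) :=
    (Units.map e.toMonoidHom).comp φ.toHomUnits
  refine Subgroup.card_dvd_of_injective f ?_
  intro x y hxy
  apply H.inj
  have h2 : e (φ x) = e (φ y) := congrArg Units.val hxy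
  exact e.injective h2

theorem card_stab_dvd {d : ℕ} (hd : finrank (ZMod r₀) V = d + 1) :
    Nat.card (stab φ w₁) ∣ ∏ i : Fin d, (r₀ ^ (d + 1) - r₀ ^ ((i : ℕ) + 1)) := by
  have : FiniteDimensional (ZMod r₀) V := Module.Finite.of_finite
  have h1 := H.card_dvd_GL
  rw [H.card_A, hd, Fin.prod_univ_succ] at h1
  have h2 : Nat.card V = r₀ ^ (d + 1) := by
    rw [Module.natCard_eq_pow_finrank (K := ZMod r₀), Nat.card_zmod, hd]
  rw [h2] at h1
  simp only [Fin.val_zero, pow_zero, Fin.val_succ] at h1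
  refine Nat.dvd_of_mul_dvd_mul_left ?_ h1
  have h3 : 1 < r₀ ^ (d + 1) := Nat.one_lt_pow (by omega) (Fact.out : r₀.Prime).one_lt
  omega

end TL

end Cfsg.Agent.H482.Tab
end
end

-- part: H270/Tits/OrdA
section
set_option linter.all false
open scoped Cfsg.Agent.FastGrp

-- part: H270/Tits/PrimeSyl
section
/-!
# S3414 [E2]: Sylow's theorem in groups of prime degree
-/

set_option autoImplicit false

namespace Cfsg.Agent.H270.Tits

open Subgroup

universe u

theorem card_subgroupOf' {Γ : Type u} [Group Γ] (H K : Subgroup Γ) :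
    Nat.card ↥(H.subgroupOf K) = Nat.card ↥(H ⊓ K : Subgroup Γ) := by
  rw [← inf_subgroupOf_right]
  exact Nat.card_congr (subgroupOfEquivOfLe inf_le_right).toEquiv

/-- the normalizer of a self-centralizing subgroup of prime order `p` has order dividing `p (p - 1)` -/
theorem card_norm {Γ : Type u} [Group Γ] [Finite Γ] {p : ℕ} (hp : p.Prime) (S : Subgroup Γ) (hS : Nat.card S = p)
    (hC : centralizer (S : Set Γ) ≤ S) : Nat.card ↥(normalizer (S : Set Γ)) ∣ p * (p - 1) := by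
  have : Fact p.Prime := ⟨hp⟩
  have hcyc : IsCyclic S := isCyclic_of_prime_card hS
  have h1 := S.normalizerMonoidHom.ker.card_mul_index
  rw [index_ker] at h1
  have h2 : Nat.card S.normalizerMonoidHom.ker ∣ p := by
    rw [normalizerMonoidHom_ker, card_subgroupOf', ← hS]
    exact card_dvd_of_le (inf_le_left.trans hC)
  have h3 : Nat.card S.normalizerMonoidHom.range ∣ p - 1 := by
    have := card_subgroup_dvd_card S.normalizerMonoidHom.range
    rwa [IsCyclic.card_mulAut, hS, Nat.totient_prime hp] at this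
  rw [← h1]
  exact mul_dvd_mul h2 h3

/-- Sylow's theorem -/
theorem sylow_count {Γ : Type u} [Group Γ] [Finite Γ] {p : ℕ} (hp : p.Prime) (S A : Subgroup Γ) (hS : Nat.card S = p)
    (hSA : S ≤ A) {a : ℕ} (ha : Nat.card A = p * a) (hpa : ¬ p ∣ a) :
    ∃ m, Nat.card ↥(normalizer (S : Set Γ) ⊓ A : Subgroup Γ) = p * m ∧ a ≡ m [MOD p] := by
  have : Fact p.Prime := ⟨hp⟩
  have h0 : a ≠ 0 := fun h => hpa (h ▸ dvd_zero _)
  have h1 : Nat.card (S.subgroupOf A) = p := by
    rw [card_subgroupOf', inf_of_le_left hSA, hS]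
  have h2 : (Nat.card A).factorization p = 1 := by
    rw [ha, Nat.factorization_mul hp.ne_zero h0, Finsupp.add_apply, hp.factorization_self,
      Nat.factorization_eq_zero_of_not_dvd hpa]
  set P : Sylow p A := Sylow.ofCard (S.subgroupOf A) (by rw [h1, h2, pow_one]) with hP
  have h3 : (P : Subgroup A) = S.subgroupOf A := rfl
  have h4 := P.card_eq_index_normalizer
  have h5 := card_sylow_modEq_one p A
  have h3' : normalizer (P : Set A) = (normalizer (S : Set Γ)).subgroupOf A := by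
    rw [subgroupOf_normalizer_eq hSA]
    rfl
  rw [h4, h3'] at h5
  have h6 := ((normalizer (S : Set Γ)).subgroupOf A).card_mul_index
  rw [card_subgroupOf', ha] at h6
  obtain ⟨m, hm⟩ : p ∣ Nat.card ↥(normalizer (S : Set Γ) ⊓ A : Subgroup Γ) := by
    rw [← hS]
    exact card_dvd_of_le (le_inf le_normalizer hSA)
  refine ⟨m, hm, ?_⟩
  rw [hm, mul_assoc] at h6
  have h7 := Nat.eq_of_mul_eq_mul_left hp.pos h6
  rw [← h7]
  have h8 := Nat.ModEq.mul_left m h5
  rwa [mul_one] at h8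

/-- `A ≤ B` transitive of prime degree `p` : `|A| = p a`, `|B| = p b`, `a ≡ m`, `b ≡ n (mod p)`, `m ∣ n ∣ p - 1` -/
theorem prime_degree {Ω : Type u} [Finite Ω] {p : ℕ} (hp : p.Prime) (hΩ : Nat.card Ω = p)
    (A B : Subgroup (Equiv.Perm Ω)) (hAB : A ≤ B) (hA : MulAction.IsPretransitive A Ω) :
    ∃ a b m n : ℕ, Nat.card A = p * a ∧ Nat.card B = p * b ∧ a ≡ m [MOD p] ∧ b ≡ n [MOD p] ∧ m ∣ n ∧ n ∣ p - 1 := by
  classical
  have : Fact p.Prime := ⟨hp⟩
  have hne : Nonempty Ω := by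
    rw [← Finite.card_pos_iff, hΩ]; exact hp.pos
  obtain ⟨ω⟩ := hne
  have hA1 : p ∣ Nat.card A := by
    have := (MulAction.stabilizer A ω).index_dvd_card
    rwa [MulAction.index_stabilizer_of_transitive, hΩ] at this
  obtain ⟨a, ha⟩ := hA1
  obtain ⟨b, hb⟩ : p ∣ Nat.card B := (Dvd.intro _ ha.symm).trans (card_dvd_of_le hAB)
  have hsq : ¬ p ∣ b := by
    rintro ⟨c, rfl⟩
    have h1 : p * p ∣ (p).factorial := by
      have : Nat.card B ∣ Nat.card (Equiv.Perm Ω) := card_subgroup_dvd_card B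
      rw [Nat.card_perm, hΩ, hb] at this
      exact (Dvd.intro c (by ring)).trans this
    obtain ⟨q, hq⟩ : ∃ q, p = q + 1 := ⟨p - 1, by have := hp.pos; omega⟩
    have h2 : p ∣ q.factorial := by
      have h3 : p.factorial = p * q.factorial := by
        rw [hq, Nat.factorial_succ]
      rw [h3] at h1
      exact Nat.dvd_of_mul_dvd_mul_left hp.pos h1
    have := (hp.dvd_factorial).1 h2
    omega
  have hsqa : ¬ p ∣ a := by
    intro h
    apply hsq
    have h1 : p * a ∣ p * b := by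
      rw [← ha, ← hb]; exact card_dvd_of_le hAB
    exact h.trans (Nat.dvd_of_mul_dvd_mul_left hp.pos h1)
  -- a subgroup of order `p`
  obtain ⟨s, hs⟩ := exists_prime_orderOf_dvd_card' (G := A) p (Dvd.intro _ ha.symm)
  set S : Subgroup (Equiv.Perm Ω) := zpowers (s : Equiv.Perm Ω) with hSdef
  have hScard : Nat.card S = p := by
    rw [hSdef, Nat.card_zpowers, orderOf_coe, hs]
  have hSA : S ≤ A := by
    rw [hSdef, zpowers_le]; exact s.2
  have hsne : (s : Equiv.Perm Ω) ≠ 1 := by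
    intro h
    have : s = 1 := Subtype.ext h
    rw [this, orderOf_one] at hs
    exact hp.one_lt.ne hs
  obtain ⟨α, hα⟩ : ∃ α : Ω, (s : Equiv.Perm Ω) α ≠ α := by
    by_contra hcon
    push Not at hcon
    exact hsne (Equiv.ext hcon)
  have htr : ∀ β : Ω, ∃ g ∈ S, g α = β := by
    have h1 : Nat.card (MulAction.orbit S α) ∣ p := by
      rw [← hScard]
      have := (MulAction.stabilizer S α).index_dvd_card
      rwa [MulAction.index_stabilizer, ← Nat.card_coe_set_eq] at this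
    have h2 : Nat.card (MulAction.orbit S α) ≠ 1 := by
      intro h
      rw [Nat.card_eq_one_iff_unique] at h
      obtain ⟨h, -⟩ := h
      have h3 : (⟨(s : Equiv.Perm Ω) α, ⟨⟨s, mem_zpowers _⟩, rfl⟩⟩ : MulAction.orbit S α) =
        ⟨α, MulAction.mem_orbit_self α⟩ := Subsingleton.elim _ _
      exact hα (congrArg Subtype.val h3)
    have h3 := ((Nat.dvd_prime hp).1 h1).resolve_left h2
    have h4 : MulAction.orbit S α = Set.univ := by
      apply Set.eq_of_subset_of_ncard_le (Set.subset_univ _)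
      rw [Set.ncard_univ, hΩ, ← Nat.card_coe_set_eq, h3]
    intro β
    have h5 : β ∈ MulAction.orbit S α := by rw [h4]; trivial
    obtain ⟨⟨g, hg⟩, h⟩ := h5
    exact ⟨g, hg, h⟩
  have hcomm : ∀ x ∈ S, ∀ y ∈ S, x * y = y * x := by
    intro x hx y hy
    obtain ⟨i, rfl⟩ := mem_zpowers_iff.1 hx
    obtain ⟨j, rfl⟩ := mem_zpowers_iff.1 hy
    rw [← zpow_add, ← zpow_add, add_comm]
  have hC : centralizer (S : Set (Equiv.Perm Ω)) ≤ S := by
    intro c hc
    rw [mem_centralizer_iff] at hc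
    obtain ⟨g, hg, hgα⟩ := htr (c α)
    have : c = g := by
      ext β
      obtain ⟨t, ht, rfl⟩ := htr β
      have h1 : t (c α) = c (t α) := DFunLike.congr_fun (hc t ht) α
      have h2 : g (t α) = t (g α) := DFunLike.congr_fun (hcomm g hg t ht) α
      rw [← h1, h2, hgα]
    rw [this]; exact hg
  obtain ⟨m, hm1, hm2⟩ := sylow_count hp S A hScard hSA ha hsqa
  obtain ⟨n, hn1, hn2⟩ := sylow_count hp S B hScard (hSA.trans hAB) hb hsq
  refine ⟨a, b, m, n, ha, hb, hm2, hn2, ?_, ?_⟩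
  · have h1 : p * m ∣ p * n := by
      rw [← hm1, ← hn1]
      exact card_dvd_of_le (inf_le_inf_left _ hAB)
    exact Nat.dvd_of_mul_dvd_mul_left hp.pos h1
  · have h1 : p * n ∣ p * (p - 1) := by
      rw [← hn1]
      exact (card_dvd_of_le inf_le_left).trans (card_norm hp S hScard hC)
    exact Nat.dvd_of_mul_dvd_mul_left hp.pos h1

end Cfsg.Agent.H270.Tits
end

-- part: H270/Tits/OrdA
section
/-!
# S3414 [E2]: groups of degree 127 with socle `PSL_7(2)`
-/

set_option autoImplicit false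

namespace Cfsg.Agent.H270.Tits

open Subgroup Cfsg.Agent.H873.Tits

universe u v

theorem card_psl72 {F : Type} [Field F] [Fintype F] (hF : Fintype.card F = 2) :
    Nat.card (Matrix.ProjectiveSpecialLinearGroup (Fin 7) F) = 127 * (2 ^ 21 * 63 * 9765) := by
  have h := S0243.result hF 7 (by norm_num)
  simp only [Fin.prod_univ_succ] at h
  norm_num at h
  rw [h]
  norm_num

theorem card_aut72 {F : Type} [Field F] [Fintype F] (hF : Fintype.card F = 2) :
    Nat.card (MulAut (Matrix.ProjectiveSpecialLinearGroup (Fin 7) F)) = 2 * (127 * (2 ^ 21 * 63 * 9765)) := by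
  have : Fact (Nat.Prime 2) := ⟨Nat.prime_two⟩
  have h1 := S0242.result hF 7 (by norm_num)
  rw [S0813.result 2 1 le_rfl (by rw [hF, pow_one]) 7 (by omega) (fun h => by omega), S0265.result 7, if_neg (by omega)]
  simp only [Fin.prod_univ_succ] at h1
  norm_num at h1
  rw [h1]
  norm_num

/-- the order of a group of type `PSL_7(2)` -/
theorem card_L {Ω : Type v} [Finite Ω] (L : Subgroup (Equiv.Perm Ω)) (h : PSLType L 2 7 1) :
    Nat.card Ω = 127 ∧ ∃ c, (c = 1 ∨ c = 2) ∧ Nat.card L = 127 * (c * (2 ^ 21 * 63 * 9765)) := by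
  obtain ⟨-, -, -, hc, X, hXL, hXn, hmin, F, _, _, hF, ⟨e⟩⟩ := h
  refine ⟨by norm_num at hc; omega, ?_⟩
  rw [pow_one] at hF
  have hN := hXn
  have e' : ↥(X.subgroupOf L) ≃* Matrix.ProjectiveSpecialLinearGroup (Fin 7) F := (subgroupOfEquivOfLe hXL).trans e
  have hcard : Nat.card (X.subgroupOf L) = 127 * (2 ^ 21 * 63 * 9765) := by
    rw [Nat.card_congr e'.toEquiv, card_psl72 hF]
  have hcent : centralizer ((X.subgroupOf L : Subgroup L) : Set L) = ⊥ := by
    by_contra hne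
    have h1 := hmin ((centralizer ((X.subgroupOf L : Subgroup L) : Set L)).map L.subtype) (map_subtype_le _) (by
      rw [← comap_subtype, comap_map_eq_self_of_injective (subtype_injective L)]
      infer_instance) (fun h => hne ((map_eq_bot_iff_of_injective _ (subtype_injective L)).1 h))
    have hcomm : IsMulCommutative (X.subgroupOf L) := by
      refine ⟨⟨fun a b => Subtype.ext ?_⟩⟩
      obtain ⟨c, hc1, hc2⟩ := h1 (mem_subgroupOf.1 a.2)
      have hca : c = a.1 := subtype_injective L hc2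
      have := mem_centralizer_iff.1 hc1 b.1 b.2
      rw [hca] at this
      exact this.symm
    have hs : IsSimpleGroup (Matrix.ProjectiveSpecialLinearGroup (Fin 7) F) := S0249.result 7 (by norm_num)
    have hcomm' : ∀ a b : Matrix.ProjectiveSpecialLinearGroup (Fin 7) F, a * b = b * a := by
      intro a b
      apply e'.symm.injective
      rw [map_mul, map_mul]
      exact hcomm.is_comm.comm _ _
    let _ : CommGroup (Matrix.ProjectiveSpecialLinearGroup (Fin 7) F) := { (inferInstance : Group _) with mul_comm := hcomm' }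
    have hp := IsSimpleGroup.prime_card (α := Matrix.ProjectiveSpecialLinearGroup (Fin 7) F)
    have hp' : (Nat.card (Matrix.ProjectiveSpecialLinearGroup (Fin 7) F)).Prime := hp
    rw [card_psl72 hF] at hp'
    norm_num at hp'
  have h2 := Cfsg.Agent.Omega.TwoF.Rk.card_dvd (X.subgroupOf L) e' hcent
  rw [card_aut72 hF] at h2
  have h3 := card_subgroup_dvd_card (X.subgroupOf L)
  rw [hcard] at h3
  obtain ⟨c, hc⟩ := h3
  rw [hc] at h2
  have h4 : c ∣ 2 := by
    have : 127 * (2 ^ 21 * 63 * 9765) * c ∣ 127 * (2 ^ 21 * 63 * 9765) * 2 := by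
      rw [mul_comm _ 2]; exact h2
    exact Nat.dvd_of_mul_dvd_mul_left (by norm_num) this
  refine ⟨c, (Nat.dvd_prime Nat.prime_two).1 h4, ?_⟩
  rw [hc]; ring

/-- the order of a 2-transitive group -/
theorem card_twoTr {Ω : Type v} [Finite Ω] {L : Subgroup (Equiv.Perm Ω)} (h : TwoTr L) {n : ℕ} (hn : 1 ≤ n) (hΩ : Nat.card Ω = n + 1) :
    (n + 1) * n ∣ Nat.card L := by
  classical
  have hnt : Nontrivial Ω := Finite.one_lt_card_iff_nontrivial.1 (by omega)
  obtain ⟨α, β, hαβ⟩ := exists_pair_ne Ω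
  have htr : MulAction.IsPretransitive L Ω := by
    refine ⟨fun x y => ?_⟩
    obtain ⟨x', hx'⟩ := exists_ne x
    obtain ⟨y', hy'⟩ := exists_ne y
    obtain ⟨g, hg, h1, -⟩ := h x x' y y' hx'.symm hy'.symm
    exact ⟨⟨g, hg⟩, h1⟩
  have h1 := (MulAction.stabilizer L α).card_mul_index
  rw [MulAction.index_stabilizer_of_transitive, hΩ] at h1
  have h2 : n ∣ Nat.card (MulAction.stabilizer L α) := by
    have h3 : MulAction.orbit (MulAction.stabilizer L α) β = {x | x ≠ α} := by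
      ext x
      constructor
      · rintro ⟨⟨g, hg⟩, rfl⟩
        intro h4
        have h5 : g • β = g • α := by rw [MulAction.mem_stabilizer_iff.1 hg]; exact h4
        exact hαβ (smul_left_cancel g h5).symm
      · intro hx
        obtain ⟨g, hg, h4, h5⟩ := h α β α x hαβ (Ne.symm hx)
        exact ⟨⟨⟨g, hg⟩, h4⟩, h5⟩
    have h4 := (MulAction.stabilizer (MulAction.stabilizer L α) β).index_dvd_card
    rw [MulAction.index_stabilizer, h3] at h4
    have h5 : ({x | x ≠ α} : Set Ω).ncard = n := by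
      have h6 : ({x | x ≠ α} : Set Ω) = {α}ᶜ := by ext x; simp
      rw [h6, Set.ncard_compl, Set.ncard_singleton, hΩ]
      omega
    rwa [h5] at h4
  rw [← h1, mul_comm (n + 1) n]
  exact Nat.mul_dvd_mul_right h2 _

theorem pretrans {Ω : Type v} {L : Subgroup (Equiv.Perm Ω)} (h : TwoTr L) [Nontrivial Ω] : MulAction.IsPretransitive L Ω := by
  refine ⟨fun x y => ?_⟩
  obtain ⟨x', hx'⟩ := exists_ne x
  obtain ⟨y', hy'⟩ := exists_ne y
  obtain ⟨g, hg, h1, -⟩ := h x x' y y' hx'.symm hy'.symm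
  exact ⟨⟨g, hg⟩, h1⟩

/-- arithmetic -/
theorem num127 {e m : ℕ} (he : e ∣ 2 ^ 22 * 155) (hm : m ∣ 14) (h : 63 * e ≡ m [MOD 127]) : False := by
  obtain ⟨e1, e2, h1, h2, rfl⟩ := Nat.dvd_mul.1 he
  obtain ⟨k, hk, rfl⟩ := (Nat.dvd_prime_pow Nat.prime_two).1 h1
  have hm' : m ∈ Nat.divisors 14 := Nat.mem_divisors.2 ⟨hm, by norm_num⟩
  have h2' : e2 ∈ Nat.divisors 155 := Nat.mem_divisors.2 ⟨h2, by norm_num⟩
  have d1 : Nat.divisors 14 = {1, 2, 7, 14} := by decide
  have d2 : Nat.divisors 155 = {1, 5, 31, 155} := by decide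
  rw [d1] at hm'
  rw [d2] at h2'
  simp only [Finset.mem_insert, Finset.mem_singleton] at hm' h2'
  have key : ∀ k ≤ 22, ∀ m' ∈ [1, 2, 7, 14], ∀ e' ∈ [1, 5, 31, 155], ¬ (63 * (2 ^ k * e')) % 127 = m' % 127 := by
    decide
  refine key k hk m ?_ e2 ?_ h
  · rcases hm' with rfl | rfl | rfl | rfl <;> simp
  · rcases h2' with rfl | rfl | rfl | rfl <;> simp

/-- no 2-transitive subgroup of index divisible by 63 -/
theorem no_idx {Ω : Type v} [Finite Ω] (L L' : Subgroup (Equiv.Perm Ω)) (h : PSLType L 2 7 1) (hL : L' ≤ L) (h2 : TwoTr L')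
    (h3 : 2 ≤ (L'.relIndex L).factorization 3) (h7 : 1 ≤ (L'.relIndex L).factorization 7) : False := by
  obtain ⟨hΩ, c, hc, hcard⟩ := card_L L h
  have hnt : Nontrivial Ω := Finite.one_lt_card_iff_nontrivial.1 (by omega)
  have hp : Nat.Prime 127 := by norm_num
  obtain ⟨a, b, m, n, ha, hb, ham, hbn, hmn, hn⟩ := prime_degree hp hΩ L' L hL (pretrans h2)
  have hb' : b = c * (2 ^ 21 * 63 * 9765) := Nat.eq_of_mul_eq_mul_left (by norm_num) (hb.symm.trans hcard)
  have hn' : n ≤ 126 := Nat.le_of_dvd (by norm_num) hn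
  have hn14 : n ∣ 14 := by
    have h1 : b % 127 = n % 127 := hbn
    rw [Nat.mod_eq_of_lt (a := n) (by omega), hb'] at h1
    rcases hc with rfl | rfl
    · have : n = 7 := by rw [← h1]; norm_num
      rw [this]; norm_num
    · have : n = 14 := by rw [← h1]; norm_num
      rw [this]
  -- index
  have h63 : 63 ∣ L'.relIndex L := by
    have h0 : L'.relIndex L ≠ 0 := by
      intro h0
      rw [h0] at h3
      simp at h3
    have h9 : 3 ^ 2 ∣ L'.relIndex L := (Nat.prime_three.pow_dvd_iff_le_factorization h0).2 h3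
    have h7' : 7 ^ 1 ∣ L'.relIndex L := ((by norm_num : Nat.Prime 7).pow_dvd_iff_le_factorization h0).2 h7
    exact Nat.Coprime.mul_dvd_of_dvd_of_dvd (by norm_num) h9 h7'
  have hmul := (L'.subgroupOf L).card_mul_index
  rw [card_subgroupOf', inf_of_le_left hL] at hmul
  have hmul' : Nat.card L' * L'.relIndex L = Nat.card L := hmul
  rw [ha, hb, mul_assoc] at hmul'
  have hab := Nat.eq_of_mul_eq_mul_left (by norm_num) hmul'
  obtain ⟨i, hi⟩ := h63
  have h126 : 126 ∣ a := by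
    have := card_twoTr h2 (n := 126) (by norm_num) hΩ
    rw [ha] at this
    exact Nat.dvd_of_mul_dvd_mul_left (by norm_num) this
  obtain ⟨a', ha'⟩ := h126
  refine num127 (e := 2 * a') (m := m) ?_ (hmn.trans hn14) ?_
  · have h1 : 63 * (63 * (2 * a' * i)) = 63 * (63 * (c * 2 ^ 21 * 155)) := by
      rw [hi, ha', hb'] at hab
      calc 63 * (63 * (2 * a' * i)) = 126 * a' * (63 * i) := by ring
        _ = c * (2 ^ 21 * 63 * 9765) := hab
        _ = 63 * (63 * (c * 2 ^ 21 * 155)) := by ring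
    have h2 : 2 * a' * i = c * 2 ^ 21 * 155 :=
      Nat.eq_of_mul_eq_mul_left (by norm_num) (Nat.eq_of_mul_eq_mul_left (by norm_num) h1)
    have h3 : 2 * a' ∣ c * 2 ^ 21 * 155 := Dvd.intro _ h2
    refine h3.trans ?_
    rcases hc with rfl | rfl
    · exact ⟨2, by norm_num⟩
    · exact ⟨1, by norm_num⟩
  · have : 63 * (2 * a') = a := by rw [ha']; ring
    rw [this]
    exact ham

end Cfsg.Agent.H270.Tits
end

private theorem dce_de1a0e6a0014 : _root_.True := by
  try have : _root_.True := by simp only [_root_.Matrix.ProjectiveSpecialLinearGroup.congr_simp]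
  exact _root_.True.intro
end

-- part: H592/E4/Perm
section
prune_inst 0x560346455c0120400000512d0203c46ee000590002b8001db220e400e8eff6300002760f5b01e021be8a2a540784048141018fd6018000020000600411904a180e9f2863334ad0c14001f81b887180c00000000000000000000000000041004200000000
set_option linter.all false
open scoped Cfsg.Agent.FastGrp

/-!
# S3414 [E4] (helper592): permutation groups of degree 5, 7, 13
-/

set_option autoImplicit false

namespace Cfsg.Agent.H592.E4

open Cfsg.Agent.H873.Tits Equiv Equiv.Perm Subgroup MulAction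

universe u v

section Gen

variable {G : Type u} [Group G]

theorem card_mul_rel {K L : Subgroup G} (h : K ≤ L) : Nat.card K * K.relIndex L = Nat.card L := by
  rw [← relIndex_bot_left K, ← relIndex_bot_left L]
  exact relIndex_mul_relIndex ⊥ K L bot_le h

theorem rel_stab {X : Type v} [MulAction G X] (K : Subgroup G) (b : X) :
    (K ⊓ stabilizer G b).relIndex K = (orbit K b).ncard := by
  rw [inf_comm, inf_relIndex_right]
  have h : (stabilizer G b).subgroupOf K = stabilizer K b := rfl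
  rw [relIndex, h, index_stabilizer]

theorem card_orb {X : Type v} [MulAction G X] (K : Subgroup G) (b : X) :
    Nat.card K = (orbit K b).ncard * Nat.card ↥(K ⊓ stabilizer G b) := by
  rw [← card_mul_rel (inf_le_left : K ⊓ stabilizer G b ≤ K), rel_stab, mul_comm]

end Gen

variable {Ω : Type v}

theorem twoTr_trans {L : Subgroup (Perm Ω)} (h : TwoTr L) (a b : Ω) : ∃ g ∈ L, g a = b := by
  by_cases hab : a = b
  · exact ⟨1, one_mem _, by simp [hab]⟩
  · obtain ⟨g, hg, h1, -⟩ := h a b b a hab (Ne.symm hab)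
    exact ⟨g, hg, h1⟩

theorem twoTr_stab {L : Subgroup (Perm Ω)} (h : TwoTr L) {a b c : Ω} (hb : a ≠ b) (hc : a ≠ c) :
    ∃ g ∈ Stb L a, g b = c := by
  obtain ⟨g, hg, h1, h2⟩ := h a b a c hb hc
  exact ⟨g, ⟨hg, h1⟩, h2⟩

theorem card_trans [Finite Ω] {L : Subgroup (Perm Ω)} (h : ∀ a b : Ω, ∃ g ∈ L, g a = b) (a : Ω) :
    Nat.card L = Nat.card Ω * Nat.card ↥(Stb L a) := by
  rw [card_orb L a, Stb]
  congr 1
  have : orbit L a = Set.univ := by
    ext b
    simp only [Set.mem_univ, iff_true]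
    obtain ⟨g, hg, hb⟩ := h a b
    exact ⟨⟨g, hg⟩, hb⟩
  rw [this, Set.ncard_univ]

/-- order of a 2-transitive group -/
theorem card_twoTr [Finite Ω] {L : Subgroup (Perm Ω)} (h : TwoTr L) {a b : Ω} (hab : a ≠ b) :
    Nat.card L = Nat.card Ω * ((Nat.card Ω - 1) * Nat.card ↥(Stb L a ⊓ Stb L b)) := by
  rw [card_trans (twoTr_trans h) a, card_orb (Stb L a) b]
  congr 2
  · have : orbit (Stb L a) b = {a}ᶜ := by
      ext c
      simp only [Set.mem_compl_iff, Set.mem_singleton_iff]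
      constructor
      · rintro ⟨g, rfl⟩ hc
        have h1 : (g : Perm Ω) a = a := g.2.2
        have h2 : (g : Perm Ω) b = a := hc
        exact hab ((g : Perm Ω).injective (h1.trans h2.symm))
      · intro hc
        obtain ⟨g, hg, hb⟩ := twoTr_stab h hab (Ne.symm hc)
        exact ⟨⟨g, hg⟩, hb⟩
    rw [this, Set.ncard_compl, Set.ncard_singleton]
  · congr 1
    have : Stb L a ⊓ stabilizer (Perm Ω) b = Stb L a ⊓ Stb L b := by
      apply le_antisymm
      · exact le_inf inf_le_left (le_inf (inf_le_left.trans inf_le_left) inf_le_right)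
      · exact le_inf inf_le_left (inf_le_right.trans inf_le_right)
    rw [this]


/-! ### degree 5 -/

theorem index_normalCore_le {G : Type u} [Group G] [Finite G] (H : Subgroup G) :
    H.normalCore.index ≤ (H.index).factorial := by
  rw [normalCore_eq_ker, index_ker]
  refine (Subgroup.card_le_card_group _).trans ?_
  rw [Nat.card_perm, index]

/-- a transitive group of order 20 and degree 5 is not contained in `A_5` -/
theorem not_le_alt [Fintype Ω] [DecidableEq Ω] (hΩ : Nat.card Ω = 5) {M : Subgroup (Perm Ω)} (hM : Nat.card M = 20) :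
    ¬ M ≤ alternatingGroup Ω := by
  intro h
  have : Nontrivial Ω := Finite.one_lt_card_iff_nontrivial.1 (by omega)
  have h1 : Nat.card (alternatingGroup Ω) = 60 := by
    have h2 := two_mul_nat_card_alternatingGroup (α := Ω)
    rw [Nat.card_perm, hΩ] at h2
    have h3 : Nat.factorial 5 = 120 := rfl
    omega
  set M' : Subgroup (alternatingGroup Ω) := M.subgroupOf (alternatingGroup Ω) with hM'
  have h2 : Nat.card M' = 20 := by
    rw [← hM]
    exact Nat.card_congr (subgroupOfEquivOfLe h).toEquiv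
  have h3 : M'.index = 3 := by
    have h4 := M'.card_mul_index
    rw [h1, h2] at h4
    omega
  have h4 := index_normalCore_le M'
  rw [h3] at h4
  have h5 : IsSimpleGroup (alternatingGroup Ω) := alternatingGroup.isSimpleGroup (by omega)
  have h6 : M'.normalCore = ⊥ ∨ M'.normalCore = ⊤ := (normalCore_normal M').eq_bot_or_eq_top
  rcases h6 with h6 | h6
  · rw [h6, index_bot, h1] at h4
    exact absurd h4 (by decide)
  · have h7 : M' = ⊤ := by
      rw [eq_top_iff, ← h6]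
      exact normalCore_le M'
    rw [h7, Nat.card_congr (Subgroup.topEquiv).toEquiv, h1] at h2
    omega

/-- a transitive group of order 20 and degree 5 contains an odd permutation fixing `x` -/
theorem odd_stab [Fintype Ω] [DecidableEq Ω] (hΩ : Nat.card Ω = 5) {M : Subgroup (Perm Ω)} (hM : Nat.card M = 20)
    (ht : ∀ a b : Ω, ∃ g ∈ M, g a = b) (x : Ω) : ∃ g ∈ Stb M x, sign g ≠ 1 := by
  by_contra hcon
  push Not at hcon
  have : Nontrivial Ω := Finite.one_lt_card_iff_nontrivial.1 (by omega)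
  have h1 : Nat.card ↥(Stb M x) = 4 := by
    have := card_trans ht x
    rw [hM, hΩ] at this
    omega
  have h2 : Stb M x ≤ M ⊓ alternatingGroup Ω := fun g hg => ⟨hg.1, hcon g hg⟩
  have h3 := card_dvd_of_le h2
  have h4 : (M ⊓ alternatingGroup Ω).relIndex M ∣ 2 := by
    rw [inf_comm, inf_relIndex_right, ← alternatingGroup.index_eq_two (α := Ω)]
    exact relIndex_dvd_index_of_normal _ _
  have h5 := card_mul_rel (inf_le_left : M ⊓ alternatingGroup Ω ≤ M)
  rw [hM] at h5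
  rw [h1] at h3
  have h6 : (M ⊓ alternatingGroup Ω).relIndex M = 1 := by
    rcases (Nat.dvd_prime Nat.prime_two).1 h4 with h | h
    · exact h
    · rw [h] at h5
      omega
  rw [relIndex_eq_one] at h6
  exact not_le_alt hΩ hM (h6.trans inf_le_right)

/-- a normal subgroup of the stabilizer `S_4` of a point in `S_5` whose order is divisible by 3 and which contains an
odd permutation is everything -/
theorem full_stab [Fintype Ω] [DecidableEq Ω] (hΩ : Nat.card Ω = 5) {N : Subgroup (Perm Ω)} {x : Ω}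
    (hN : N ≤ stabilizer (Perm Ω) x) (hn : ∀ g : Perm Ω, g x = x → ∀ a ∈ N, g * a * g⁻¹ ∈ N) (h3 : 3 ∣ Nat.card N)
    (hodd : ∃ g ∈ N, sign g ≠ 1) : stabilizer (Perm Ω) x ≤ N := by
  have : Fact (Nat.Prime 3) := ⟨Nat.prime_three⟩
  set N' : Subgroup (Perm {c : Ω // c ≠ x}) := N.comap ofSubtype with hN'
  have hX : Fintype.card {c : Ω // c ≠ x} = 4 := by
    rw [Nat.card_eq_fintype_card] at hΩ
    have := Fintype.card_subtype_compl (fun c : Ω => c = x)
    simp only [Fintype.card_unique] at this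
    rw [this, hΩ]
  have : Nontrivial {c : Ω // c ≠ x} := Fintype.one_lt_card_iff_nontrivial.1 (by omega)
  have hof : ∀ g : Perm Ω, g x = x → ∃ g' : Perm {c : Ω // c ≠ x}, ofSubtype g' = g := by
    intro g hg
    have h1 : ∀ c, g c ≠ x ↔ c ≠ x := by
      intro c
      rw [not_iff_not]
      constructor
      · intro h
        exact g.injective (h.trans hg.symm)
      · rintro rfl
        exact hg
    exact ⟨g.subtypePerm h1, ofSubtype_subtypePerm h1 fun c hc h => by
      rw [h] at hc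
      exact hc hg⟩
  have hfix : ∀ g' : Perm {c : Ω // c ≠ x}, (ofSubtype g') x = x := fun g' =>
    ofSubtype_apply_of_not_mem g' (by simp)
  have hnorm : ∀ g a, a ∈ N' → g * a * g⁻¹ ∈ N' := by
    intro g a ha
    rw [hN', mem_comap] at ha ⊢
    rw [map_mul, map_mul, map_inv]
    exact hn _ (hfix g) _ ha
  obtain ⟨ρ, hρ⟩ := exists_prime_orderOf_dvd_card' 3 h3
  obtain ⟨ρ', hρ'⟩ := hof (ρ : Perm Ω) (hN ρ.2)
  have h4 : orderOf ρ' = 3 := by
    rw [← orderOf_injective (ofSubtype (p := fun c : Ω => c ≠ x)) ofSubtype_injective, hρ', orderOf_coe, hρ]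
  have h5 : ρ'.IsCycle := isCycle_of_prime_order' (by rw [h4]; exact Nat.prime_three) (by rw [hX, h4]; norm_num)
  have h6 : ρ'.IsThreeCycle := by
    rw [← card_support_eq_three_iff, ← h5.orderOf, h4]
  have h7 : ρ' ∈ N' := by
    rw [hN', mem_comap, hρ']
    exact ρ.2
  have h8 : alternatingGroup {c : Ω // c ≠ x} ≤ N' := by
    rw [← closure_three_cycles_eq_alternating, closure_le]
    intro σ hσ
    have h9 : IsConj ρ' σ := by
      rw [isConj_iff_cycleType_eq]
      exact h6.cycleType.trans (IsThreeCycle.cycleType hσ).symm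
    obtain ⟨c, hc⟩ := isConj_iff.1 h9
    rw [← hc]
    exact hnorm c ρ' h7
  have h9 : N' = ⊤ := by
    have h10 : N'.index ∣ 2 := by
      rw [← alternatingGroup.index_eq_two (α := {c : Ω // c ≠ x})]
      exact index_dvd_of_le h8
    rcases (Nat.dvd_prime Nat.prime_two).1 h10 with h | h
    · exact index_eq_one.1 h
    · exfalso
      have h11 := eq_alternatingGroup_of_index_eq_two h
      obtain ⟨g, hg, hs⟩ := hodd
      obtain ⟨g', rfl⟩ := hof g (hN hg)
      apply hs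
      have h12 : g' ∈ N' := hg
      rw [h11, mem_alternatingGroup] at h12
      rw [sign_ofSubtype, h12]
  intro g hg
  obtain ⟨g', rfl⟩ := hof g hg
  have : g' ∈ N' := by rw [h9]; trivial
  exact this

/-- two permutations fixing `x, w` with commutator of order 3 -/
theorem exists_comm [Fintype Ω] [DecidableEq Ω] (hΩ : Nat.card Ω = 5) (x w : Ω) :
    ∃ α β : Perm Ω, α x = x ∧ α w = w ∧ β x = x ∧ β w = w ∧ orderOf (α * β * α⁻¹ * β⁻¹) = 3 := by
  have h1 : 2 < ({x, w}ᶜ : Finset Ω).card := by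
    rw [Finset.card_compl, ← Nat.card_eq_fintype_card, hΩ]
    have := Finset.card_le_two (a := x) (b := w)
    omega
  obtain ⟨c, d, e, hc, hd, he, hcd, hce, hde⟩ := Finset.two_lt_card_iff.1 h1
  simp only [Finset.mem_compl, Finset.mem_insert, Finset.mem_singleton, not_or] at hc hd he
  refine ⟨swap c d, swap c e, swap_apply_of_ne_of_ne (Ne.symm hc.1) (Ne.symm hd.1), swap_apply_of_ne_of_ne (Ne.symm hc.2) (Ne.symm hd.2),
    swap_apply_of_ne_of_ne (Ne.symm hc.1) (Ne.symm he.1), swap_apply_of_ne_of_ne (Ne.symm hc.2) (Ne.symm he.2), ?_⟩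
  have h2 : (swap c d * swap c e).IsThreeCycle := isThreeCycle_swap_mul_swap_same hcd hce hde
  have h3 : swap c d * swap c e * (swap c d)⁻¹ * (swap c e)⁻¹ = (swap c d * swap c e) * (swap c d * swap c e) := by
    rw [swap_inv, swap_inv, mul_assoc]
  rw [h3, ← h2.isThreeCycle_sq.orderOf]

/-! ### regular subgroups of prime order -/

theorem aut_bound [Finite Ω] {W : Subgroup (Perm Ω)} {l : ℕ} (hl : l.Prime) (hW : Nat.card W = l)
    (htr : ∀ a b : Ω, ∃ w ∈ W, w a = b) (a : Ω) :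
    Nat.card ↥(normalizer (W : Set (Perm Ω)) ⊓ stabilizer (Perm Ω) a) ∣ l - 1 := by
  have : Fact l.Prime := ⟨hl⟩
  have hcyc : IsCyclic W := isCyclic_of_prime_card hW
  have h1 : Nat.card (MulAut W) = l - 1 := by
    rw [IsCyclic.card_mulAut, hW, Nat.totient_prime hl]
  rw [← h1]
  refine card_dvd_of_injective (W.normalizerMonoidHom.comp (inclusion inf_le_left)) ?_
  rw [injective_iff_map_eq_one]
  rintro ⟨g, hg1, hg2⟩ h
  have h2 : ∀ w ∈ W, g * w * g⁻¹ = w := by
    intro w hw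
    have := congrArg (fun f : MulAut W => ((f ⟨w, hw⟩ : W) : Perm Ω)) h
    simpa only [_root_.MonoidHom.coe_comp, _root_.Function.comp_apply, _root_.Subgroup.normalizerMonoidHom_apply_apply_coe, _root_.Subgroup.coe_inclusion, _root_.MulAut.one_apply] using this
  have h3 : g = 1 := by
    ext b
    obtain ⟨w, hw, rfl⟩ := htr a b
    have h4 := h2 w hw
    have h5 : g * w = w * g := by
      rw [mul_inv_eq_iff_eq_mul] at h4
      exact h4
    have h6 : g (w a) = w (g a) := by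
      rw [← Perm.mul_apply, h5, Perm.mul_apply]
    have h7 : g a = a := hg2
    rw [h6, h7]
    rfl
  exact Subtype.ext h3

/-- degree 13, affine -/
theorem aff13 (hΩ : Nat.card Ω = 13) {L L' : Subgroup (Perm Ω)} (hL : TwoTr L) (hL' : TwoTr L') (hle : L' ≤ L)
    (hA : Aff L) : L'.relIndex L = 1 := by
  have hfin : Finite Ω := Nat.finite_of_card_ne_zero (by omega)
  obtain ⟨a, b, hab⟩ : ∃ a b : Ω, a ≠ b := by
    have : Nontrivial Ω := Finite.one_lt_card_iff_nontrivial.1 (by omega)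
    exact exists_pair_ne Ω
  obtain ⟨W, hWL, hWn, -, hWt, hWs⟩ := hA
  have htr : ∀ a b : Ω, ∃ w ∈ W, w a = b := by
    intro a b
    obtain ⟨w, hw⟩ := MulAction.exists_smul_eq W a b
    exact ⟨w, w.2, hw⟩
  have hW : Nat.card W = 13 := by
    have h1 := card_trans htr a
    have h2 : Stb W a = ⊥ := by
      rw [eq_bot_iff]
      rintro g ⟨hg1, hg2⟩
      have h3 : (⟨g, hg1⟩ : W) ∈ stabilizer W a := hg2
      rw [hWs a, mem_bot] at h3
      exact congrArg Subtype.val h3
    rw [h2, hΩ, Subgroup.card_bot, mul_one] at h1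
    omega
  have h1 := aut_bound (by norm_num) hW htr a
  have h2 : Stb L a ≤ normalizer (W : Set (Perm Ω)) ⊓ stabilizer (Perm Ω) a := by
    refine le_inf (inf_le_left.trans ?_) inf_le_right
    rwa [normal_subgroupOf_iff_le_normalizer hWL] at hWn
  have h3 : Nat.card ↥(Stb L a) ∣ 12 := (card_dvd_of_le h2).trans h1
  have h4 := card_trans (twoTr_trans hL) a
  have h5 := card_twoTr hL' hab
  have h6 := card_mul_rel hle
  have h7 := Nat.le_of_dvd (by norm_num) h3
  rw [hΩ] at h4 h5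
  have h8 : 0 < Nat.card ↥(Stb L' a ⊓ Stb L' b) := Nat.card_pos
  have h9 : 156 ≤ Nat.card L' := by omega
  have h10 : Nat.card L ≤ 156 := by omega
  have h11 : 0 < L'.relIndex L := by
    rcases Nat.eq_zero_or_pos (L'.relIndex L) with h | h
    · rw [h, mul_zero] at h6
      have : 0 < Nat.card L := Nat.card_pos
      omega
    · exact h
  by_contra hne
  have h12 : 2 ≤ L'.relIndex L := by omega
  have h13 : Nat.card L' * 2 ≤ Nat.card L' * L'.relIndex L := Nat.mul_le_mul_left _ h12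
  omega

/-! ### degree 6 -/

section Six

variable {A : Type u} [Group A] [Finite A] {X : Type v} [MulAction A X] [IsPretransitive A X]

omit [Finite A] in
theorem orb_two (hX : Nat.card X = 6) (Q : Subgroup A) [Q.Normal] (hQ : IsPGroup 2 Q)
    (hne : ∃ u ∈ Q, ∃ x : X, u • x ≠ x) (b : X) : (orbit Q b).ncard = 2 := by
  have hfin : Finite X := Nat.finite_of_card_ne_zero (by omega)
  have : Fact (Nat.Prime 2) := ⟨Nat.prime_two⟩
  have h1 : (orbit Q b).ncard ∣ 6 := by
    rw [← hX]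
    exact (IsBlock.orbit_of_normal (G := A) (N := Q) b).ncard_dvd_card (nonempty_orbit b)
  obtain ⟨k, hk⟩ : ∃ n : ℕ, (orbit Q b).ncard = 2 ^ n := by
    obtain ⟨n, hn⟩ := hQ.card_orbit b
    exact ⟨n, hn⟩
  have h2 : k ≠ 0 := by
    rintro rfl
    rw [pow_zero, Set.ncard_eq_one] at hk
    obtain ⟨c, hc⟩ := hk
    obtain ⟨u, hu, x, hx⟩ := hne
    apply hx
    obtain ⟨g, rfl⟩ := MulAction.exists_smul_eq A b x
    have h3 : g⁻¹ * u * g ∈ Q := by
      have := (inferInstance : Q.Normal).conj_mem u hu g⁻¹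
      rwa [inv_inv] at this
    have h4 : (g⁻¹ * u * g) • b = b := by
      have h5 : (g⁻¹ * u * g) • b ∈ orbit Q b := ⟨⟨_, h3⟩, rfl⟩
      have h6 : b ∈ orbit Q b := mem_orbit_self b
      rw [hc, Set.mem_singleton_iff] at h5 h6
      rw [h5, h6]
    rw [mul_smul, mul_smul, inv_smul_eq_iff] at h4
    exact h4
  have h3 : k ≤ 1 := by
    by_contra hcon
    have h4 : 2 ^ 2 ∣ 2 ^ k := pow_dvd_pow 2 (by omega)
    rw [hk] at h1
    have := h4.trans h1
    omega
  have : k = 1 := by omega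
  rw [hk, this, pow_one]

omit [Finite A] [IsPretransitive A X] in
theorem fix_orb (Q : Subgroup A) [Q.Normal] (h2 : ∀ b : X, (orbit Q b).ncard = 2) {g : A} {b : X} (hg : g • b = b)
    {u : A} (hu : u ∈ Q) : g • u • b = u • b := by
  by_cases hb : u • b = b
  · rw [hb, hg]
  have hsub : ({b, u • b} : Set X) = orbit Q b := by
    have hfin : (orbit Q b).Finite := Set.finite_of_ncard_ne_zero (by rw [h2]; omega)
    refine Set.eq_of_subset_of_ncard_le ?_ ?_ hfin
    · rintro c (rfl | rfl)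
      · exact mem_orbit_self c
      · exact ⟨⟨u, hu⟩, rfl⟩
    · rw [h2, Set.ncard_pair (Ne.symm hb)]
  have h3 : g • u • b ∈ orbit Q b := by
    refine ⟨⟨g * u * g⁻¹, (inferInstance : Q.Normal).conj_mem u hu g⟩, ?_⟩
    change (g * u * g⁻¹) • b = g • u • b
    rw [mul_smul, mul_smul]
    congr 2
    rw [inv_smul_eq_iff, hg]
  rw [← hsub] at h3
  rcases h3 with h3 | h3
  · exfalso
    apply hb
    have : g • u • b = g • b := by rw [h3, hg]
    exact smul_left_cancel g this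
  · exact h3

omit [Finite A] [IsPretransitive A X] in
theorem even_fix [Finite X] (Q : Subgroup A) [Q.Normal] (hQ : IsPGroup 2 Q) (h2 : ∀ b : X, (orbit Q b).ncard = 2) (g : A) :
    2 ∣ Nat.card {x : X // g • x = x} := by
  have : Fact (Nat.Prime 2) := ⟨Nat.prime_two⟩
  let act : MulAction Q {x : X // g • x = x} :=
    { smul := fun u x => ⟨(u : A) • x.1, fix_orb Q h2 x.2 u.2⟩
      one_smul := fun x => Subtype.ext (one_smul A x.1)
      mul_smul := fun u v x => Subtype.ext (mul_smul (u : A) (v : A) x.1) }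
  have h1 := hQ.card_modEq_card_fixedPoints {x : X // g • x = x}
  have h3 : Nat.card (fixedPoints Q {x : X // g • x = x}) = 0 := by
    rw [Nat.card_eq_zero]
    left
    constructor
    rintro ⟨⟨x, hx⟩, hfix⟩
    have h4 : orbit Q x = {x} := by
      apply Set.eq_singleton_iff_unique_mem.2
      refine ⟨mem_orbit_self x, ?_⟩
      rintro _ ⟨u, rfl⟩
      exact congrArg Subtype.val (hfix u)
    have h5 := h2 x
    rw [h4, Set.ncard_singleton] at h5
    omega
  rw [h3] at h1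
  exact (Nat.modEq_zero_iff_dvd.1 h1)

theorem two_pow_stab (hX : Nat.card X = 6) (hf : ∀ g : A, (∀ x : X, g • x = x) → g = 1) (Q : Subgroup A) [Q.Normal]
    (hQ : IsPGroup 2 Q) (hne : Q ≠ ⊥) (b : X) : ∃ k, Nat.card (stabilizer A b) = 2 ^ k := by
  have hfin : Finite X := Nat.finite_of_card_ne_zero (by omega)
  have h2 : ∀ b : X, (orbit Q b).ncard = 2 := by
    apply orb_two hX Q hQ
    by_contra hcon
    push Not at hcon
    apply hne
    rw [eq_bot_iff]
    intro u hu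
    exact hf u (hcon u hu)
  refine ⟨_, Nat.eq_prime_pow_of_unique_prime_dvd (Nat.card_pos (α := stabilizer A b)).ne' ?_⟩
  intro r hr hrd
  by_contra hr2
  have : Fact r.Prime := ⟨hr⟩
  obtain ⟨g, hg⟩ := exists_prime_orderOf_dvd_card' r hrd
  have hg' : orderOf (g : A) = r := by rw [← hg]; exact orderOf_coe g
  have hgb : (g : A) • b = b := g.2
  have hP : IsPGroup r (zpowers (g : A)) := by
    apply IsPGroup.of_card (n := 1)
    rw [Nat.card_zpowers, hg', pow_one]
  have h3 := hP.card_modEq_card_fixedPoints X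
  have h4 : Nat.card (fixedPoints (zpowers (g : A)) X) = Nat.card {x : X // (g : A) • x = x} := by
    apply Nat.card_congr
    refine Equiv.subtypeEquivRight fun x => ?_
    constructor
    · intro h
      exact h ⟨g, mem_zpowers _⟩
    · rintro h ⟨_, n, rfl⟩
      have : (g : A) ∈ stabilizer A x := h
      exact zpow_mem this n
  have h5 := even_fix Q hQ h2 (g : A)
  rw [h4, hX] at h3
  have h6 : 0 < Nat.card {x : X // (g : A) • x = x} := by
    have : Nonempty {x : X // (g : A) • x = x} := ⟨⟨b, hgb⟩⟩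
    exact Nat.card_pos
  have h7 : Nat.card {x : X // (g : A) • x = x} ≤ 6 := by
    rw [← hX]
    exact Nat.card_le_card_of_injective _ Subtype.val_injective
  have h8 : r ∣ 6 - Nat.card {x : X // (g : A) • x = x} := (Nat.modEq_iff_dvd' h7).1 h3.symm
  have h9 : Nat.card {x : X // (g : A) • x = x} = 6 := by
    obtain ⟨m, hm⟩ := h5
    have hr3 : ¬ r ∣ 2 := fun h => hr2 ((Nat.prime_dvd_prime_iff_eq hr Nat.prime_two).1 h)
    have hr4 : ¬ r ∣ 4 := fun h => hr3 (hr.dvd_of_dvd_pow (show r ∣ 2 ^ 2 by simpa using h))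
    rw [hm] at h8 h6 h7 ⊢
    have : m ≤ 3 := by omega
    interval_cases m
    · omega
    · exact absurd h8 hr4
    · exact absurd h8 hr3
    · rfl
  have h10 : (g : A) = 1 := by
    apply hf
    intro x
    have h11 : Function.Bijective (Subtype.val : {x : X // (g : A) • x = x} → X) := by
      rw [Nat.bijective_iff_injective_and_card]
      exact ⟨Subtype.val_injective, by rw [h9, hX]⟩
    obtain ⟨y, rfl⟩ := h11.2 x
    exact y.2
  rw [h10, orderOf_one] at hg'
  exact hr.one_lt.ne hg'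

end Six

/-! ### degree 7 -/

theorem card_perm_seven (hΩ : Nat.card Ω = 7) : Nat.card (Perm Ω) = 5040 := by
  have : Finite Ω := Nat.finite_of_card_ne_zero (by omega)
  rw [Nat.card_perm, hΩ]
  rfl

theorem two_pow_seven (hΩ : Nat.card Ω = 7) {L : Subgroup (Perm Ω)} (hL : TwoTr L) {a b : Ω} (hab : a ≠ b)
    {Q : Subgroup (Perm Ω)} (hne : Q ≠ ⊥) (hQ : Q ≤ Stb L a) (hQn : (Q.subgroupOf (Stb L a)).Normal)
    (hQ2 : IsPGroup 2 Q) : ∃ k ≤ 3, Nat.card ↥(Stb L a ⊓ Stb L b) = 2 ^ k := by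
  have hfin : Finite Ω := Nat.finite_of_card_ne_zero (by omega)
  let act : MulAction (Stb L a) {c : Ω // c ≠ a} :=
    { smul := fun g c => ⟨(g : Perm Ω) c.1, fun h => c.2 ((g : Perm Ω).injective (h.trans
        (show (g : Perm Ω) a = a from g.2.2).symm))⟩
      one_smul := fun c => Subtype.ext rfl
      mul_smul := fun g h c => Subtype.ext rfl }
  have hval : ∀ (g : Stb L a) (c : {c : Ω // c ≠ a}), ((g • c : {c : Ω // c ≠ a}) : Ω) = (g : Perm Ω) c := fun g c => rfl
  have htr : IsPretransitive (Stb L a) {c : Ω // c ≠ a} := by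
    constructor
    rintro ⟨c, hc⟩ ⟨d, hd⟩
    obtain ⟨g, hg, h⟩ := twoTr_stab hL (Ne.symm hc) (Ne.symm hd)
    exact ⟨⟨g, hg⟩, Subtype.ext h⟩
  have hX : Nat.card {c : Ω // c ≠ a} = 6 := by
    have h1 : Nat.card {c : Ω // c ≠ a} = ({a}ᶜ : Set Ω).ncard := rfl
    rw [h1, Set.ncard_compl, Set.ncard_singleton, hΩ]
  have hf : ∀ g : Stb L a, (∀ x : {c : Ω // c ≠ a}, g • x = x) → g = 1 := by
    intro g hg
    apply Subtype.ext
    ext c
    by_cases hc : c = a
    · rw [hc]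
      exact g.2.2
    · exact congrArg Subtype.val (hg ⟨c, hc⟩)
  have hQ2' : IsPGroup 2 (Q.subgroupOf (Stb L a)) := by
    exact hQ2.of_equiv (subgroupOfEquivOfLe hQ).symm
  have hne' : Q.subgroupOf (Stb L a) ≠ ⊥ := by
    intro h
    rw [subgroupOf_eq_bot] at h
    apply hne
    rw [eq_bot_iff, ← h.eq_bot]
    exact le_inf le_rfl hQ
  obtain ⟨k, hk⟩ := two_pow_stab hX hf (Q.subgroupOf (Stb L a)) hQ2' hne' ⟨b, Ne.symm hab⟩
  have h1 : Nat.card (stabilizer (Stb L a) (⟨b, Ne.symm hab⟩ : {c : Ω // c ≠ a})) = Nat.card ↥(Stb L a ⊓ Stb L b) := by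
    have h2 : stabilizer (Stb L a) (⟨b, Ne.symm hab⟩ : {c : Ω // c ≠ a}) = (Stb L b).subgroupOf (Stb L a) := by
      ext g
      rw [mem_subgroupOf, mem_stabilizer_iff, Subtype.ext_iff, hval]
      constructor
      · intro h
        exact ⟨g.2.1, h⟩
      · intro h
        exact h.2
    rw [h2, inf_comm, ← subgroupOf_map_subtype]
    exact (Nat.card_congr (equivMapOfInjective _ _ (Stb L a).subtype_injective).toEquiv)
  rw [h1] at hk
  refine ⟨k, ?_, hk⟩
  have h2 := card_twoTr hL hab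
  have h3 := card_subgroup_dvd_card L
  rw [card_perm_seven hΩ, h2, hΩ, hk] at h3
  by_contra hcon
  have h4 : 2 ^ 4 ∣ 2 ^ k := pow_dvd_pow 2 (by omega)
  have h5 : 7 * ((7 - 1) * 2 ^ 4) ∣ 5040 := (mul_dvd_mul_left 7 (mul_dvd_mul_left (7 - 1) h4)).trans h3
  exact absurd h5 (by decide)

theorem swap_mem [DecidableEq Ω] (hΩ : Nat.card Ω = 7) {L : Subgroup (Perm Ω)} (h16 : 16 ∣ Nat.card L) :
    ∃ τ ∈ L, τ.IsSwap := by
  have hfin : Finite Ω := Nat.finite_of_card_ne_zero (by omega)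
  have : Fact (Nat.Prime 2) := ⟨Nat.prime_two⟩
  obtain ⟨K, hK⟩ := Sylow.exists_subgroup_card_pow_prime 2 (n := 4) (G := L) (by simpa only [_root_.Nat.reducePow] using h16)
  set K' : Subgroup (Perm Ω) := K.map L.subtype with hK'
  have h1 : Nat.card K' = 2 ^ 4 := by
    rw [← hK]
    exact (Nat.card_congr (equivMapOfInjective _ _ L.subtype_injective).toEquiv).symm
  have h2 : K'.index = 315 := by
    have := K'.card_mul_index
    rw [h1, card_perm_seven hΩ] at this
    omega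
  let S : Sylow 2 (Perm Ω) := (IsPGroup.of_card h1).toSylow (by rw [h2]; omega)
  obtain ⟨a, b, hab⟩ : ∃ a b : Ω, a ≠ b := by
    have : Nontrivial Ω := Finite.one_lt_card_iff_nontrivial.1 (by omega)
    exact exists_pair_ne Ω
  have h3 : IsPGroup 2 (zpowers (swap a b)) := by
    apply IsPGroup.of_card (n := 1)
    rw [Nat.card_zpowers, pow_one]
    exact orderOf_eq_prime (by rw [pow_two, swap_mul_self]) (by
      intro h
      rw [swap_eq_one_iff] at h
      exact hab h)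
  obtain ⟨S', hS'⟩ := h3.exists_le_sylow
  obtain ⟨g, hg⟩ := MulAction.exists_smul_eq (Perm Ω) S S'
  have h4 : swap a b ∈ S' := hS' (mem_zpowers _)
  rw [← hg] at h4
  have h5 : g⁻¹ * swap a b * g ∈ K' := by
    have h6 : swap a b ∈ ((g • S : Sylow 2 (Perm Ω)) : Subgroup (Perm Ω)) := h4
    rw [Sylow.coe_subgroup_smul] at h6
    rw [mem_pointwise_smul_iff_inv_smul_mem] at h6
    have h7 : ((S : Subgroup (Perm Ω))) = K' := rfl
    rw [h7] at h6
    simpa [MulAut.smul_def] using h6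
  refine ⟨g⁻¹ * swap a b * g, ?_, ?_⟩
  · obtain ⟨l, -, hl⟩ := h5
    rw [← hl]
    exact l.2
  · refine ⟨g⁻¹ a, g⁻¹ b, fun h => hab (g⁻¹.injective h), ?_⟩
    rw [swap_apply_apply, inv_inv]

theorem not_sixteen [Finite Ω] (hΩ : Nat.card Ω = 7) {L : Subgroup (Perm Ω)} (hL : TwoTr L) (h16 : 16 ∣ Nat.card L)
    (hlt : Nat.card L < 5040) : False := by
  classical
  obtain ⟨τ, hτ, hs⟩ := swap_mem hΩ h16
  have h1 : IsMultiplyPretransitive L Ω 2 := by
    rw [is_two_pretransitive_iff]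
    intro a b c d hab hcd
    obtain ⟨g, hg, h1, h2⟩ := hL a b c d hab hcd
    exact ⟨⟨g, hg⟩, h1, h2⟩
  have h2 : L = ⊤ := subgroup_eq_top_of_isPreprimitive_of_isSwap_mem (isPreprimitive_of_is_two_pretransitive h1) τ hs hτ
  rw [h2, Nat.card_congr (Subgroup.topEquiv).toEquiv, card_perm_seven hΩ] at hlt
  omega

theorem trans_seven (hΩ : Nat.card Ω = 7) {P : Subgroup (Perm Ω)} (hP : Nat.card P = 7) :
    ∀ a b : Ω, ∃ w ∈ P, w a = b := by
  have hfin : Finite Ω := Nat.finite_of_card_ne_zero (by omega)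
  obtain ⟨a, ha⟩ : ∃ a : Ω, ∃ w ∈ P, w a ≠ a := by
    by_contra hcon
    push Not at hcon
    have : P = ⊥ := by
      rw [eq_bot_iff]
      intro w hw
      rw [mem_bot]
      ext a
      exact hcon a w hw
    rw [this, Subgroup.card_bot] at hP
    omega
  have h1 := card_orb P a
  rw [hP] at h1
  have h2 : (orbit P a).ncard ∣ 7 := ⟨_, h1⟩
  have h3 : (orbit P a).ncard = 7 := by
    rcases (Nat.dvd_prime (by norm_num)).1 h2 with h | h
    · exfalso
      rw [Set.ncard_eq_one] at h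
      obtain ⟨c, hc⟩ := h
      obtain ⟨w, hw, hwa⟩ := ha
      apply hwa
      have h5 : w a ∈ orbit P a := ⟨⟨w, hw⟩, rfl⟩
      have h6 : a ∈ orbit P a := mem_orbit_self a
      rw [hc, Set.mem_singleton_iff] at h5 h6
      rw [h5, h6]
    · exact h
  have h4 : orbit P a = Set.univ := by
    apply Set.eq_of_subset_of_ncard_le (Set.subset_univ _)
    rw [Set.ncard_univ, hΩ, h3]
  intro c d
  have h5 : c ∈ orbit P a := by rw [h4]; trivial
  have h6 : d ∈ orbit P a := by rw [h4]; trivial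
  obtain ⟨u, rfl⟩ := h5
  obtain ⟨v, rfl⟩ := h6
  refine ⟨v * (u : Perm Ω)⁻¹, mul_mem v.2 (inv_mem u.2), ?_⟩
  change ((v : Perm Ω) * (u : Perm Ω)⁻¹) ((u : Perm Ω) a) = (v : Perm Ω) a
  simp

theorem syl7 (hΩ : Nat.card Ω = 7) {L P : Subgroup (Perm Ω)} (hP : Nat.card P = 7) (hle : P ≤ L) :
    ∃ n, n % 7 = 1 ∧ Nat.card L = Nat.card ↥(L ⊓ normalizer (P : Set (Perm Ω))) * n := by
  have hfin : Finite Ω := Nat.finite_of_card_ne_zero (by omega)
  have : Fact (Nat.Prime 7) := ⟨by norm_num⟩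
  have h0 : Nat.card (P.subgroupOf L) = 7 := by
    rw [← hP]
    exact Nat.card_congr (subgroupOfEquivOfLe hle).toEquiv
  have h1 : IsPGroup 7 (P.subgroupOf L) := IsPGroup.of_card (n := 1) (by rw [h0, pow_one])
  have h2 : ¬ 7 ∣ (P.subgroupOf L).index := by
    intro h
    have h3 := (P.subgroupOf L).card_mul_index
    rw [h0] at h3
    have h4 : 7 * 7 ∣ 5040 := by
      rw [← card_perm_seven hΩ]
      refine dvd_trans ?_ (card_subgroup_dvd_card L)
      rw [← h3]
      exact mul_dvd_mul_left 7 h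
    exact absurd h4 (by decide)
  let S : Sylow 7 L := h1.toSylow h2
  have h3 := card_sylow_modEq_one 7 L
  have h4 := S.card_eq_index_normalizer
  refine ⟨Nat.card (Sylow 7 L), h3, ?_⟩
  have h5 : normalizer ((S : Subgroup L) : Set L) = (normalizer (P : Set (Perm Ω))).subgroupOf L := by
    exact (subgroupOf_normalizer_eq hle).symm
  have h6 := (normalizer ((S : Subgroup L) : Set L)).card_mul_index
  have h7 : Nat.card (normalizer ((S : Subgroup L) : Set L)) = Nat.card ↥(L ⊓ normalizer (P : Set (Perm Ω))) := by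
    rw [h5, inf_comm, ← subgroupOf_map_subtype]
    exact (Nat.card_congr (equivMapOfInjective _ _ L.subtype_injective).toEquiv)
  rw [← h6, h7]
  congr 1
  exact h4.symm

theorem num7 {k T c d n n' : ℕ} (hk : k ≤ 2) (hT : T ∣ 2 ^ k) (hcd : c * d ∣ 6) (h12 : 6 * 2 ^ k = c * d * n)
    (h13 : 6 * T = c * n') (hn : n % 7 = 1) (hn' : n' % 7 = 1) : T = 2 ^ k := by
  have hcd6 : c * d ≤ 6 := Nat.le_of_dvd (by norm_num) hcd
  have hcd0 : c * d ≠ 0 := by
    intro h
    rw [h] at hcd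
    omega
  obtain ⟨e, he⟩ : ∃ e, e = c * d := ⟨_, rfl⟩
  rw [← he] at hcd hcd6 hcd0 h12
  have hc : c ∣ e := by rw [he]; exact dvd_mul_right _ _
  interval_cases k
  · rw [pow_zero, Nat.dvd_one] at hT
    rw [hT, pow_zero]
  · exfalso
    interval_cases e <;> (clear * - hcd hn h12; omega)
  · have he3 : e = 3 := by
      interval_cases e <;> (clear * - hcd hn h12; omega)
    rw [he3] at hc
    have hT4 : T ∣ 4 := by simpa using hT
    have hTle : T ≤ 4 := Nat.le_of_dvd (by norm_num) hT4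
    rcases (Nat.dvd_prime Nat.prime_three).1 hc with rfl | rfl
    · interval_cases T <;> (clear * - hT hn' h13; omega)
    · interval_cases T <;> (clear * - hT hn' h13; omega)

theorem deg7 (hΩ : Nat.card Ω = 7) {L L' : Subgroup (Perm Ω)} (hL : TwoTr L) (hL' : TwoTr L') (hle : L' ≤ L)
    {a : Ω} {Q : Subgroup (Perm Ω)} (hne : Q ≠ ⊥) (hQ : Q ≤ Stb L a) (hQn : (Q.subgroupOf (Stb L a)).Normal)
    (hQ2 : IsPGroup 2 Q) : L'.relIndex L = 1 := by
  have hfin : Finite Ω := Nat.finite_of_card_ne_zero (by omega)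
  have : Fact (Nat.Prime 7) := ⟨by norm_num⟩
  obtain ⟨b, hab⟩ : ∃ b : Ω, a ≠ b := by
    have : Nontrivial Ω := Finite.one_lt_card_iff_nontrivial.1 (by omega)
    obtain ⟨b, hb⟩ := exists_ne a
    exact ⟨b, hb.symm⟩
  obtain ⟨k, hk, hT⟩ := two_pow_seven hΩ hL hab hne hQ hQn hQ2
  have h1 := card_twoTr hL hab
  have h2 := card_twoTr hL' hab
  rw [hΩ, hT] at h1
  rw [hΩ] at h2
  have h3 : Nat.card ↥(Stb L' a ⊓ Stb L' b) ∣ 2 ^ k := by
    rw [← hT]
    exact card_dvd_of_le (inf_le_inf (inf_le_inf_right _ hle) (inf_le_inf_right _ hle))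
  set T' := Nat.card ↥(Stb L' a ⊓ Stb L' b) with hT'
  have h4 := card_mul_rel hle
  obtain ⟨P0, hP0⟩ := Sylow.exists_subgroup_card_pow_prime 7 (n := 1) (G := L') (by
    rw [h2, pow_one]
    exact dvd_mul_right _ _)
  set P : Subgroup (Perm Ω) := P0.map L'.subtype with hPdef
  have hP : Nat.card P = 7 := by
    rw [← pow_one 7, ← hP0]
    exact (Nat.card_congr (equivMapOfInjective _ _ L'.subtype_injective).toEquiv).symm
  have hPL' : P ≤ L' := by
    rw [hPdef]
    exact map_subtype_le P0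
  obtain ⟨n, hn, h5⟩ := syl7 hΩ hP (hPL'.trans hle)
  obtain ⟨n', hn', h6⟩ := syl7 hΩ hP hPL'
  have htr := trans_seven hΩ hP
  have h7 : Nat.card ↥(normalizer (P : Set (Perm Ω))) ∣ 42 := by
    have h8 : ∀ a b : Ω, ∃ w ∈ normalizer (P : Set (Perm Ω)), w a = b := by
      intro a b
      obtain ⟨w, hw, h⟩ := htr a b
      exact ⟨w, le_normalizer hw, h⟩
    rw [card_trans h8 a, hΩ, show 42 = 7 * 6 from rfl]
    exact mul_dvd_mul_left 7 (aut_bound (by norm_num) hP htr a)
  have h8 : Nat.card ↥(L ⊓ normalizer (P : Set (Perm Ω))) ∣ 42 := (card_dvd_of_le inf_le_right).trans h7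
  have h9 : Nat.card ↥(L' ⊓ normalizer (P : Set (Perm Ω))) ∣ Nat.card ↥(L ⊓ normalizer (P : Set (Perm Ω))) :=
    card_dvd_of_le (inf_le_inf_right _ hle)
  have h10 : 7 ∣ Nat.card ↥(L' ⊓ normalizer (P : Set (Perm Ω))) := by
    rw [← hP]
    exact card_dvd_of_le (le_inf hPL' le_normalizer)
  set e := Nat.card ↥(L ⊓ normalizer (P : Set (Perm Ω))) with he
  set e' := Nat.card ↥(L' ⊓ normalizer (P : Set (Perm Ω))) with he'
  obtain ⟨c', hc'⟩ := h10
  obtain ⟨d, hd⟩ := h9
  have h11 : c' * d ∣ 6 := by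
    rw [hd, hc', mul_assoc, show 42 = 7 * 6 from rfl] at h8
    exact Nat.dvd_of_mul_dvd_mul_left (by norm_num) h8
  have h12 : 6 * 2 ^ k = c' * d * n := by
    rw [h1, hd, hc'] at h5
    have h13 : 7 * (6 * 2 ^ k) = 7 * (c' * d * n) := by
      rw [show (7 * c' * d * n) = 7 * (c' * d * n) by ring] at h5
      exact h5
    exact Nat.eq_of_mul_eq_mul_left (by norm_num) h13
  have h13 : 6 * T' = c' * n' := by
    rw [h2, hc'] at h6
    have h13 : 7 * (6 * T') = 7 * (c' * n') := by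
      rw [mul_assoc] at h6
      exact h6
    exact Nat.eq_of_mul_eq_mul_left (by norm_num) h13
  have hkey : T' = 2 ^ k := by
    have hk3 : k ≠ 3 := by
      rintro rfl
      exact not_sixteen hΩ hL (by rw [h1]; norm_num) (by rw [h1]; norm_num)
    exact num7 (by omega) h3 h11 h12 h13 hn hn'
  rw [h1, h2, hkey] at h4
  have h14 : 0 < 7 * ((7 - 1) * 2 ^ k) := by positivity
  exact Nat.eq_of_mul_eq_mul_left h14 (by rw [h4, mul_one])

end Cfsg.Agent.H592.E4

private theorem dce_d7af45a77270 : _root_.True := by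
  try have : _root_.True := by simp only [_root_.Cfsg.Agent.H873.Tits.Stb.eq_1]
  exact _root_.True.intro
end

-- part: H115/Tits/StmtsB
section
set_option linter.all false

/-!
# S3414, case (B), `L y` not affine: statements of the pieces (helper115, sub-lead)

`y` is a vertex of the type of case (B), `x ≠ z` are neighbours of `y`, `y'` is opposite `y`;
`t = q (tp y)`, `s = q (! tp y)`, `m = n / 2`.
-/

set_option autoImplicit false

namespace Cfsg.Agent.H115.Tits

open Cfsg.Agent.H873.Tits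

universe u v

/-- the common hypotheses of the non-affine part of case (B) -/
structure CB {G : Type u} [Group G] {V : Type v} [MulAction G V] (P : Pol G V) (x y z y' : V) : Prop where
  F : Facts P
  N : Num P
  B : CaseB P (P.tp y)
  hx : P.adj y x
  hz : P.adj y z
  xz : x ≠ z
  opp : P.Opp y y'
  /-- `K x` is not trivial on the neighbours of `y` -/
  ne : ¬ P.K x ≤ P.K y
  na : ¬ Aff (P.L y)

/-- `L` contains all 3-cycles -/
def AltLe {Ω : Type v} (L : Subgroup (Equiv.Perm Ω)) : Prop := by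
  classical
  exact ∀ a b c : Ω, a ≠ b → b ≠ c → a ≠ c → Equiv.swap a b * Equiv.swap b c ∈ L

/-- KILL-FROBENIUS (helper115): a 2-transitive group with a non-trivial normal subgroup all of whose two point
stabilizers are trivial is affine (Frobenius kernel) -/
def StKF : Prop := ∀ {Ω : Type v} [Finite Ω] (L X : Subgroup (Equiv.Perm Ω)), TwoTr L → 3 ≤ Nat.card Ω →
  X ≤ L → (X.subgroupOf L).Normal → X ≠ ⊥ → (∀ a b : Ω, a ≠ b → ∀ σ ∈ X, σ a = a → σ b = b → σ = 1) → Aff L

/-- PSL-SEMI: a subnormal semiregular subgroup of the point stabilizer in `PSL_d(q)`, `d ≥ 3`, is a `p`-group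
(it meets the group `E` of elations with the given centre (axis) trivially, so its `p'`-elements centralize `E`) -/
def StPslSemi : Prop := ∀ {Ω : Type v} [Finite Ω] (L : Subgroup (Equiv.Perm Ω)) (p d f : ℕ), TwoTr L → PSLType L p d f →
  ∀ (a : Ω) (M : Subgroup (Equiv.Perm Ω)), M ≤ Stb L a → (M.subgroupOf (Stb L a)).IsSubnormal →
  (∀ g ∈ M, ∀ w : Ω, w ≠ a → g w = w → g = 1) → IsPGroup p ↥M

/-- PSL-NUM: there is a prime `r ≠ p`, `r ∣ t`, not dividing the order of the two point stabilizer, except for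
`PSL_3(p)`, `p + 1 = 2 ^ k`, `PSL_3(8)` and `PSL_7(2)` -/
def StPslNum : Prop := ∀ {Ω : Type v} [Finite Ω] (L : Subgroup (Equiv.Perm Ω)) (p d f : ℕ) (a b : Ω), TwoTr L → a ≠ b →
  PSLType L p d f →
  (∃ r : ℕ, r.Prime ∧ r ≠ p ∧ r ∣ Nat.card Ω - 1 ∧ ¬ r ∣ Nat.card ↥(Stb L a ⊓ Stb L b)) ∨
    (d = 3 ∧ f = 1 ∧ ∃ k, p + 1 = 2 ^ k) ∨ (d = 3 ∧ f = 3 ∧ p = 2) ∨ (d = 7 ∧ f = 1 ∧ p = 2)

/-- PSL-SUB: in the exceptional cases of PSL-NUM (more generally for `d = 3`) the 2-transitive subgroups contain the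
socle -/
def StPslSub : Prop := ∀ {Ω : Type v} [Finite Ω] (L L' : Subgroup (Equiv.Perm Ω)) (p d f : ℕ), TwoTr L → TwoTr L' → L' ≤ L →
  PSLType L p d f → (d = 3 ∨ (d = 7 ∧ f = 1 ∧ p = 2)) →
  ∃ X : Subgroup (Equiv.Perm Ω), X ≠ ⊥ ∧ X ≤ L' ∧ (X.subgroupOf L).Normal

end Cfsg.Agent.H115.Tits
end

-- part: H640/Tits/Geo
section
set_option linter.all false
open scoped Cfsg.Agent.FastGrp

/-!
# S3414, G2: geometric facts about strongly transitive generalized polygons, first half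

Paths, projections, fixed paths, and the fields `two_trans`, `two_trans'`, `opp_symm`, `opp_tp`, `exists_opp`, `extend`, `extend3`,
`pair_trans`, `path_trans`, `rigid`, `K_opp`, `K_opp_H`, `fix_unique`, `core`, `proj_exists`, `proj_opp`, `proj_fix` of `Facts`.
-/

set_option autoImplicit false

namespace Cfsg.Agent.H640.Tits

open Cfsg.Agent.H873.Tits

universe u v

/-! ### Paths -/

section path

variable {V : Type v} {adj : V → V → Prop}

theorem pmono {k l : ℕ} {p : ℕ → V} (h : IsPath adj k p) (hl : l ≤ k) : IsPath adj l p :=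
  ⟨fun i hi => h.1 i (by omega), fun i hi => h.2 i (by omega)⟩

theorem pshift {k : ℕ} {p : ℕ → V} (h : IsPath adj k p) (i : ℕ) : IsPath adj (k - i) (fun j => p (i + j)) :=
  ⟨fun j hj => h.1 (i + j) (by omega), fun j hj => h.2 (i + j) (by omega)⟩

theorem prev (hs : ∀ {v w : V}, adj v w → adj w v) {k : ℕ} {p : ℕ → V} (h : IsPath adj k p) :
    IsPath adj k (fun j => p (k - j)) := by
  refine ⟨fun i hi => ?_, fun i hi => ?_⟩
  · have h1 := h.1 (k - (i + 1)) (by omega)
    have e : k - (i + 1) + 1 = k - i := by omega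
    rw [e] at h1
    exact hs h1
  · have h1 := h.2 (k - (i + 2)) (by omega)
    have e : k - (i + 2) + 2 = k - i := by omega
    rw [e] at h1
    exact h1.symm

theorem pappend {k l : ℕ} {p s : ℕ → V} (h : IsPath adj k p) (h' : IsPath adj l s) (he : p k = s 0)
    (hne : 1 ≤ k → 1 ≤ l → s 1 ≠ p (k - 1)) : IsPath adj (k + l) (fun j => if j ≤ k then p j else s (j - k)) := by
  refine ⟨fun i hi => ?_, fun i hi => ?_⟩
  · dsimp only
    by_cases h1 : i + 1 ≤ k
    · rw [if_pos (by omega), if_pos h1]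
      exact h.1 i (by omega)
    · by_cases h2 : i = k
      · subst h2
        rw [if_pos le_rfl, if_neg (by omega), he]
        have e : i + 1 - i = 0 + 1 := by omega
        rw [e]
        exact h'.1 0 (by omega)
      · rw [if_neg (by omega), if_neg (by omega)]
        have e : i + 1 - k = i - k + 1 := by omega
        rw [e]
        exact h'.1 (i - k) (by omega)
  · dsimp only
    by_cases h1 : i + 2 ≤ k
    · rw [if_pos h1, if_pos (by omega)]
      exact h.2 i (by omega)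
    · by_cases h2 : i + 1 = k
      · rw [if_neg (by omega), if_pos (by omega)]
        have e : i + 2 - k = 1 := by omega
        have e2 : i = k - 1 := by omega
        rw [e, e2]
        exact hne (by omega) (by omega)
      · by_cases h3 : i = k
        · subst h3
          rw [if_neg (by omega), if_pos le_rfl, he]
          have e : i + 2 - i = 0 + 2 := by omega
          rw [e]
          exact h'.2 0 (by omega)
        · rw [if_neg (by omega), if_neg (by omega)]
          have e : i + 2 - k = i - k + 2 := by omega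
          rw [e]
          exact h'.2 (i - k) (by omega)

theorem psnoc {k : ℕ} {p : ℕ → V} {w : V} (h : IsPath adj k p) (hw : adj (p k) w) (hne : 1 ≤ k → w ≠ p (k - 1)) :
    IsPath adj (k + 1) (fun j => if j ≤ k then p j else w) := by
  refine ⟨fun i hi => ?_, fun i hi => ?_⟩
  · dsimp only
    by_cases h1 : i + 1 ≤ k
    · rw [if_pos (by omega), if_pos h1]
      exact h.1 i (by omega)
    · have e : i = k := by omega
      subst e
      rw [if_pos le_rfl, if_neg (by omega)]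
      exact hw
  · dsimp only
    by_cases h1 : i + 2 ≤ k
    · rw [if_pos h1, if_pos (by omega)]
      exact h.2 i (by omega)
    · rw [if_neg (by omega), if_pos (by omega)]
      have e2 : i = k - 1 := by omega
      rw [e2]
      exact hne (by omega)

theorem pcons {k : ℕ} {p : ℕ → V} {w : V} (h : IsPath adj k p) (hw : adj w (p 0)) (hne : 1 ≤ k → p 1 ≠ w) :
    IsPath adj (k + 1) (fun j => if j = 0 then w else p (j - 1)) := by
  refine ⟨fun i hi => ?_, fun i hi => ?_⟩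
  · dsimp only
    by_cases h1 : i = 0
    · subst h1
      rw [if_pos rfl, if_neg (by omega)]
      exact hw
    · rw [if_neg h1, if_neg (by omega)]
      have e : i + 1 - 1 = i - 1 + 1 := by omega
      rw [e]
      exact h.1 (i - 1) (by omega)
  · dsimp only
    by_cases h1 : i = 0
    · subst h1
      rw [if_pos rfl, if_neg (by omega)]
      exact hne (by omega)
    · rw [if_neg h1, if_neg (by omega)]
      have e : i + 2 - 1 = i - 1 + 2 := by omega
      rw [e]
      exact h.2 (i - 1) (by omega)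

theorem pzero (v : V) : IsPath adj 0 (fun _ => v) := ⟨fun i hi => by omega, fun i hi => by omega⟩

theorem pone {a b : V} (h : adj a b) : IsPath adj 1 (fun j => if j = 0 then a else b) :=
  ⟨fun i hi => by
    have e : i = 0 := by omega
    subst e
    dsimp only
    rw [if_pos rfl, if_neg (by omega)]
    exact h, fun i hi => by omega⟩

/-- the path `a, b, c` -/
def q2 (a b c : V) : ℕ → V := fun j => if j = 0 then a else if j = 1 then b else c

theorem ptwo {a b c : V} (h : adj a b) (h' : adj b c) (hne : c ≠ a) : IsPath adj 2 (q2 a b c) := by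
  refine ⟨fun i hi => ?_, fun i hi => ?_⟩
  · rcases (by omega : i = 0 ∨ i = 1) with rfl | rfl
    · exact h
    · exact h'
  · have e : i = 0 := by omega
    subst e
    exact hne

/-- the path `a, b, c, d` -/
def q3 (a b c d : V) : ℕ → V := fun j => if j = 0 then a else if j = 1 then b else if j = 2 then c else d

theorem pthree {a b c d : V} (h : adj a b) (h' : adj b c) (h'' : adj c d) (hne : c ≠ a) (hne' : d ≠ b) :
    IsPath adj 3 (q3 a b c d) := by
  refine ⟨fun i hi => ?_, fun i hi => ?_⟩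
  · rcases (by omega : i = 0 ∨ i = 1 ∨ i = 2) with rfl | rfl | rfl
    · exact h
    · exact h'
    · exact h''
  · rcases (by omega : i = 0 ∨ i = 1) with rfl | rfl
    · exact hne
    · exact hne'

/-- the path `a, b, c, d, e` -/
def q4 (a b c d e : V) : ℕ → V :=
  fun j => if j = 0 then a else if j = 1 then b else if j = 2 then c else if j = 3 then d else e

theorem pfour {a b c d e : V} (h : adj a b) (h' : adj b c) (h'' : adj c d) (h''' : adj d e) (hne : c ≠ a) (hne' : d ≠ b)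
    (hne'' : e ≠ c) : IsPath adj 4 (q4 a b c d e) := by
  refine ⟨fun i hi => ?_, fun i hi => ?_⟩
  · rcases (by omega : i = 0 ∨ i = 1 ∨ i = 2 ∨ i = 3) with rfl | rfl | rfl | rfl
    · exact h
    · exact h'
    · exact h''
    · exact h'''
  · rcases (by omega : i = 0 ∨ i = 1 ∨ i = 2) with rfl | rfl | rfl
    · exact hne
    · exact hne'
    · exact hne''

end path

variable {G : Type u} [Group G] {V : Type v} [MulAction G V] (P : Pol G V)

theorem n_even : Even P.n := by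
  rcases P.hn with h | h | h <;> rw [h] <;> decide

theorem four_le : 4 ≤ P.n := by
  rcases P.hn with h | h | h <;> omega

theorem psmul {k : ℕ} {p : ℕ → V} (h : IsPath P.adj k p) (g : G) : IsPath P.adj k (fun i => g • p i) :=
  ⟨fun i hi => P.smul_adj g (h.1 i hi), fun i hi he => h.2 i hi (MulAction.injective g he)⟩

theorem tp_path {k : ℕ} {p : ℕ → V} (h : IsPath P.adj k p) :
    ∀ i, i ≤ k → P.tp (p i) = if Even i then P.tp (p 0) else !P.tp (p 0) := by
  intro i
  induction i with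
  | zero => intro _; rw [if_pos Even.zero]
  | succ i ih =>
    intro hi
    rw [P.tp_adj (h.1 i (by omega)), ih (by omega)]
    by_cases he : Even i
    · rw [if_pos he, if_neg (by rw [Nat.even_add_one]; exact not_not.2 he)]
    · rw [if_neg he, if_pos (Nat.even_add_one.2 he), Bool.not_not]

theorem tp_even {k : ℕ} {p : ℕ → V} (h : IsPath P.adj k p) (hk : Even k) : P.tp (p k) = P.tp (p 0) := by
  rw [tp_path P h k le_rfl, if_pos hk]

theorem even_of_tp {k : ℕ} {p : ℕ → V} (h : IsPath P.adj k p) (he : P.tp (p k) = P.tp (p 0)) : Even k := by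
  by_contra hk
  rw [tp_path P h k le_rfl, if_neg hk] at he
  exact Bool.not_ne_self _ he

theorem odd_of_tp {k : ℕ} {p : ℕ → V} (h : IsPath P.adj k p) (he : P.tp (p k) = !P.tp (p 0)) : ¬ Even k := by
  intro hk
  rw [tp_path P h k le_rfl, if_pos hk] at he
  exact Bool.not_ne_self _ he.symm

/-- a third neighbour -/
theorem third (v a b : V) : ∃ w, P.adj v w ∧ w ≠ a ∧ w ≠ b := by
  classical
  by_contra hcon
  push Not at hcon
  have h1 : Function.Injective (fun w : {w : V // P.adj v w} => decide (w.1 = a)) := by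
    intro w w' h
    apply Subtype.ext
    by_cases hw : w.1 = a
    · by_cases hw' : w'.1 = a
      · rw [hw, hw']
      · simp [hw, hw'] at h
    · by_cases hw' : w'.1 = a
      · simp [hw, hw'] at h
      · rw [hcon w.1 w.2 hw, hcon w'.1 w'.2 hw']
  have h2 := Nat.card_le_card_of_injective _ h1
  rw [P.card_nb, Nat.card_eq_fintype_card, Fintype.card_bool] at h2
  have h3 := P.two_le (P.tp v)
  omega

/-- paths can be extended -/
theorem extend_to {k : ℕ} {p : ℕ → V} (h : IsPath P.adj k p) {m : ℕ} (hm : k ≤ m) :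
    ∃ p' : ℕ → V, IsPath P.adj m p' ∧ ∀ i, i ≤ k → p' i = p i := by
  induction m, hm using Nat.le_induction with
  | base => exact ⟨p, h, fun _ _ => rfl⟩
  | succ m hm ih =>
    obtain ⟨p', h1, h2⟩ := ih
    obtain ⟨w, hw, hw1, -⟩ := third P (p' m) (p' (m - 1)) (p' (m - 1))
    refine ⟨_, psnoc h1 hw fun _ => hw1, fun i hi => ?_⟩
    rw [if_pos (by omega), h2 i hi]

/-- a path of length `< n` is determined by its ends, so fixed if its ends are -/
theorem fix_path {k : ℕ} {p : ℕ → V} (h : IsPath P.adj k p) (hk : k < P.n) {g : G} (h0 : g • p 0 = p 0)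
    (h1 : g • p k = p k) : ∀ i, i ≤ k → g • p i = p i :=
  (P.path_unique (psmul P h g) h h0 h1 (by omega)).2

/-- the same for length `n` if the first step is fixed -/
theorem fix_path' {p : ℕ → V} (h : IsPath P.adj P.n p) {g : G} (h0 : g • p 0 = p 0) (h1 : g • p 1 = p 1)
    (hn : g • p P.n = p P.n) : ∀ i, i ≤ P.n → g • p i = p i := by
  have h4 := four_le P
  intro i hi
  rcases Nat.eq_zero_or_pos i with rfl | hi0
  · exact h0
  · have h2 := fix_path P (pshift h 1) (by omega) (g := g) h1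
      (by rw [show 1 + (P.n - 1) = P.n by omega]; exact hn) (i - 1) (by omega)
    rwa [show 1 + (i - 1) = i by omega] at h2

theorem opp_symm : ∀ {v w : V}, P.Opp v w → P.Opp w v := by
  rintro v w ⟨p, hp, h0, hn⟩
  refine ⟨_, prev P.symm hp, ?_, ?_⟩
  · rw [Nat.sub_zero, hn]
  · rw [Nat.sub_self, h0]

theorem opp_tp : ∀ {v w : V}, P.Opp v w → P.tp w = P.tp v := by
  rintro v w ⟨p, hp, rfl, rfl⟩
  exact tp_even P hp (n_even P)

/-- the projection: a geodesic between opposite vertices with given first step -/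
theorem proj_path {v v' a : V} (ho : P.Opp v v') (ha : P.adj v a) :
    ∃ p : ℕ → V, IsPath P.adj P.n p ∧ p 0 = v ∧ p 1 = a ∧ p P.n = v' := by
  have h4 := four_le P
  have htp := opp_tp P ho
  obtain ⟨r, hr, hr0, hrn⟩ := ho
  obtain ⟨k, hk, s, hs, hs0, hsk⟩ := P.exists_path a v'
  have hodd : ¬ Even k := odd_of_tp P hs (by rw [hsk, hs0, htp, P.tp_adj ha, Bool.not_not])
  have hk0 : k ≠ 0 := by rintro rfl; exact hodd Even.zero
  have hkn : k ≠ P.n := by rintro rfl; exact hodd (n_even P)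
  by_cases h1 : s 1 = v
  · exfalso
    have h2 := (P.path_unique (pshift hs 1) hr (by rw [hr0]; exact h1)
      (by rw [show 1 + (k - 1) = k by omega, hsk, hrn]) (by omega)).1
    omega
  · have h2 := pcons (w := v) hs (by rw [hs0]; exact ha) (fun _ => h1)
    have h3 : k + 1 = P.n := by
      by_contra hne
      have h5 := (P.path_unique h2 hr (by rw [if_pos rfl, hr0])
        (by rw [if_neg (by omega), show k + 1 - 1 = k by omega, hsk, hrn]) (by omega)).1
      exact hne h5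
    rw [h3] at h2
    refine ⟨_, h2, if_pos rfl, ?_, ?_⟩
    · rw [if_neg (by omega), Nat.sub_self, hs0]
    · rw [if_neg (by omega), show P.n - 1 = k by omega, hsk]

/-! ### The fields -/

theorem two_trans : ∀ {v a b a' b' : V}, P.adj v a → P.adj v b → a ≠ b → P.adj v a' → P.adj v b' → a' ≠ b' →
    ∃ g ∈ P.S v, g • a = a' ∧ g • b = b' := by
  intro v a b a' b' ha hb hab ha' hb' hab'
  have h4 := four_le P
  obtain ⟨g, hg⟩ := P.trans (k := 2) (by omega) (ptwo (P.symm ha) hb hab.symm) (ptwo (P.symm ha') hb' hab'.symm)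
    (by show P.tp a = P.tp a'; rw [P.tp_adj ha, P.tp_adj ha'])
  exact ⟨g, hg 1 (by omega), hg 0 (by omega), hg 2 (by omega)⟩

theorem two_trans' : ∀ {v v' a b a' b' : V}, P.Opp v v' → P.adj v a → P.adj v b → a ≠ b → P.adj v a' → P.adj v b' → a' ≠ b' →
    ∃ g ∈ P.S v ⊓ P.S v', g • a = a' ∧ g • b = b' := by
  intro v v' a b a' b' ho ha hb hab ha' hb' hab'
  have h4 := four_le P
  obtain ⟨p, hp, hp0, hp1, hpn⟩ := proj_path P ho ha
  obtain ⟨r, hr, hr0, hr1, hrn⟩ := proj_path P ho ha'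
  have h1 := pcons (w := b) hp (by rw [hp0]; exact P.symm hb) (fun _ => by rw [hp1]; exact hab)
  have h2 := pcons (w := b') hr (by rw [hr0]; exact P.symm hb') (fun _ => by rw [hr1]; exact hab')
  obtain ⟨g, hg⟩ := P.trans le_rfl h1 h2 (by rw [if_pos rfl, if_pos rfl, P.tp_adj hb, P.tp_adj hb'])
  refine ⟨g, ⟨?_, ?_⟩, ?_, ?_⟩
  · have := hg 1 (by omega)
    rw [if_neg (by omega), if_neg (by omega), Nat.sub_self, hp0, hr0] at this
    exact this
  · have := hg (P.n + 1) le_rfl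
    rw [if_neg (by omega), if_neg (by omega), Nat.add_sub_cancel, hpn, hrn] at this
    exact this
  · have := hg 2 (by omega)
    rw [if_neg (by omega), if_neg (by omega), show 2 - 1 = 1 by omega, hp1, hr1] at this
    exact this
  · have := hg 0 (by omega)
    rw [if_pos rfl, if_pos rfl] at this
    exact this

theorem exists_opp : ∀ v : V, ∃ v', P.Opp v v' := by
  intro v
  obtain ⟨p, hp, h0⟩ := extend_to P (pzero v) (Nat.zero_le P.n)
  exact ⟨p P.n, p, hp, h0 0 le_rfl, rfl⟩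

theorem extend : ∀ {k : ℕ} {p : ℕ → V}, k ≤ P.n + 1 → IsPath P.adj k p →
    ∃ p' : ℕ → V, IsPath P.adj (P.n + 1) p' ∧ ∀ i, i ≤ k → p' i = p i :=
  fun hk h => extend_to P h hk

theorem extend3 : ∀ {a b c : V}, P.adj a b → P.adj b c → a ≠ c →
    ∃ p : ℕ → V, IsPath P.adj (P.n + 1) p ∧ p 1 = a ∧ p 2 = b ∧ p 3 = c := by
  intro a b c hab hbc hac
  have h4 := four_le P
  obtain ⟨w, hw, hwb, -⟩ := third P a b b
  obtain ⟨p, hp, h⟩ := extend P (k := 3) (by omega) (pthree (P.symm hw) hab hbc hwb.symm hac.symm)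
  exact ⟨p, hp, h 1 (by omega), h 2 (by omega), h 3 (by omega)⟩

theorem pair_trans : ∀ {w x y z u w' u' : V}, P.adj x y → P.adj z y → x ≠ z → P.adj x w → w ≠ y → P.adj z u → u ≠ y →
    P.adj x w' → w' ≠ y → P.adj z u' → u' ≠ y → ∃ g ∈ P.S x ⊓ P.S y ⊓ P.S z, g • w = w' ∧ g • u = u' := by
  intro w x y z u w' u' hxy hzy hxz hxw hwy hzu huy hxw' hwy' hzu' huy'
  have h4 := four_le P
  obtain ⟨g, hg⟩ := P.trans (k := 4) (by omega)
    (pfour (P.symm hxw) hxy (P.symm hzy) hzu hwy.symm hxz.symm huy)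
    (pfour (P.symm hxw') hxy (P.symm hzy) hzu' hwy'.symm hxz.symm huy')
    (by show P.tp w = P.tp w'; rw [P.tp_adj hxw, P.tp_adj hxw'])
  exact ⟨g, ⟨⟨hg 1 (by omega), hg 2 (by omega)⟩, hg 3 (by omega)⟩, hg 0 (by omega), hg 4 (by omega)⟩

theorem path_trans : ∀ {w x y z w' : V}, P.adj x y → P.adj z y → x ≠ z → P.adj x w → w ≠ y → P.adj x w' → w' ≠ y →
    ∃ g ∈ P.S x ⊓ P.S y ⊓ P.S z, g • w = w' := by
  intro w x y z w' hxy hzy hxz hxw hwy hxw' hwy'
  have h4 := four_le P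
  obtain ⟨g, hg⟩ := P.trans (k := 3) (by omega)
    (pthree (P.symm hxw) hxy (P.symm hzy) hwy.symm hxz.symm)
    (pthree (P.symm hxw') hxy (P.symm hzy) hwy'.symm hxz.symm)
    (by show P.tp w = P.tp w'; rw [P.tp_adj hxw, P.tp_adj hxw'])
  exact ⟨g, ⟨⟨hg 1 (by omega), hg 2 (by omega)⟩, hg 3 (by omega)⟩, hg 0 (by omega)⟩

theorem K_opp_H : ∀ {v v' : V} {p : ℕ → V}, IsPath P.adj P.n p → p 0 = v → p P.n = v' →
    P.K v ⊓ P.S v' ≤ P.PS P.n p := by
  intro v v' p hp h0 hn g hg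
  subst h0 hn
  have h4 := four_le P
  have h1 := fix_path' P hp hg.1.1 (hg.1.2 _ (hp.1 0 (by omega))) hg.2
  rw [Pol.PS, Subgroup.mem_iInf]
  rintro ⟨i, hi⟩
  exact h1 i hi

theorem mem_PS {k : ℕ} {p : ℕ → V} {g : G} : g ∈ P.PS k p ↔ ∀ i, i ≤ k → g • p i = p i := by
  rw [Pol.PS, Subgroup.mem_iInf]
  exact ⟨fun h i hi => h ⟨i, hi⟩, fun h i => h i.1 i.2⟩

theorem mem_H {p : ℕ → V} {g : G} : g ∈ P.H p ↔ ∀ i, i ≤ P.n + 1 → g • p i = p i := mem_PS P

theorem K_opp : ∀ {v v' : V}, P.Opp v v' → P.K v ⊓ P.S v' ≤ P.K v' := by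
  intro v v' ho g hg
  have h4 := four_le P
  refine ⟨hg.2, fun b hb => ?_⟩
  obtain ⟨p, hp, hp0, hp1, hpn⟩ := proj_path P (opp_symm P ho) hb
  -- the neighbour of `v` is fixed
  have h1 : P.adj v (p (P.n - 1)) := by
    have := hp.1 (P.n - 1) (by omega)
    rw [show P.n - 1 + 1 = P.n by omega, hpn] at this
    exact P.symm this
  have h2 := fix_path P (pmono hp (show P.n - 1 ≤ P.n by omega)) (by omega) (g := g) (by rw [hp0]; exact hg.2)
    (hg.1.2 _ h1) 1 (by omega)
  rwa [hp1] at h2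

theorem proj_exists : ∀ {y x y' : V}, P.Opp y y' → P.adj y x → ∃ w, P.Thru y x w y' := by
  intro y x y' ho hx
  obtain ⟨p, hp, h0, h1, hn⟩ := proj_path P ho hx
  exact ⟨p 2, p, hp, h0, h1, rfl, hn⟩

theorem proj_opp : ∀ {y x w : V}, P.adj y x → P.adj x w → w ≠ y → ∃ y', P.Opp y y' ∧ P.Thru y x w y' := by
  intro y x w hyx hxw hwy
  have h4 := four_le P
  obtain ⟨p, hp, h⟩ := extend_to P (ptwo hyx hxw hwy) (show 2 ≤ P.n by omega)
  have h0 : p 0 = y := h 0 (by omega)
  have h1 : p 1 = x := h 1 (by omega)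
  have h2 : p 2 = w := h 2 (by omega)
  exact ⟨p P.n, ⟨p, hp, h0, rfl⟩, p, hp, h0, h1, h2, rfl⟩

theorem proj_fix : ∀ {y x w y' : V} {g : G}, P.Thru y x w y' → g ∈ P.S y → g ∈ P.S x → g ∈ P.S y' → g • w = w := by
  rintro y x w y' g ⟨p, hp, rfl, rfl, rfl, rfl⟩ hy hx hy'
  have h4 := four_le P
  exact fix_path' P hp hy hx hy' 2 (by omega)

theorem fix_unique : ∀ {y : V} {g : G}, g ∈ P.K y → (∀ x w, P.adj x y → P.adj x w → w ≠ y → g • w ≠ w) →
    ∀ v, P.tp v = P.tp y → g • v = v → v = y := by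
  intro y g hg h v hv hgv
  have h4 := four_le P
  obtain ⟨k, hk, p, hp, h0, hpk⟩ := P.exists_path y v
  have he : Even k := even_of_tp P hp (by rw [h0, hpk, hv])
  rcases Nat.eq_zero_or_pos k with rfl | hk0
  · rw [← h0, hpk]
  · exfalso
    have hk2 : 2 ≤ k := by
      obtain ⟨j, hj⟩ := he
      omega
    have hgp0 : g • p 0 = p 0 := by rw [h0]; exact hg.1
    have hadj : P.adj y (p 1) := by rw [← h0]; exact hp.1 0 (by omega)
    have hgp1 : g • p 1 = p 1 := hg.2 _ hadj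
    have hfix : g • p 2 = p 2 := by
      rcases Nat.lt_or_ge k P.n with hkn | hkn
      · exact fix_path P hp hkn hgp0 (by rw [hpk]; exact hgv) 2 (by omega)
      · have e : k = P.n := le_antisymm hk hkn
        subst e
        exact fix_path' P hp hgp0 hgp1 (by rw [hpk]; exact hgv) 2 (by omega)
    refine h (p 1) (p 2) (P.symm hadj) (hp.1 1 (by omega)) ?_ hfix
    have := hp.2 0 (by omega)
    rwa [h0] at this

theorem core : ∀ {x y : V} (X : Subgroup G), P.adj x y → X ≤ P.S x ⊓ P.S y →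
    (∀ g ∈ P.S x, ∀ a ∈ X, g * a * g⁻¹ ∈ X) → (∀ g ∈ P.S y, ∀ a ∈ X, g * a * g⁻¹ ∈ X) → X = ⊥ := by
  intro x y X hxy hX hnx hny
  -- the elements whose inverse conjugates `X` into itself
  have key : ∀ (k : ℕ) (p : ℕ → V), IsPath P.adj k p → p 0 = x → ∃ g : G, (∀ a ∈ X, g⁻¹ * a * g ∈ X) ∧
      (p k = g • x ∨ p k = g • y) := by
    intro k
    induction k with
    | zero => intro p _ h0; exact ⟨1, fun a ha => by simpa using ha, Or.inl (by rw [h0, one_smul])⟩
    | succ k ih =>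
      intro p hp h0
      obtain ⟨g, hg, hgk⟩ := ih p (pmono hp (Nat.le_succ k)) h0
      have hadj := hp.1 k (Nat.lt_succ_self k)
      rcases hgk with hgk | hgk
      · -- `p k = g x`
        rw [hgk] at hadj
        have h1 : P.adj x (g⁻¹ • p (k + 1)) := by
          rw [← P.adj_smul_iff g, smul_inv_smul]; exact hadj
        obtain ⟨h, hh⟩ := P.trans (k := 1) (by omega) (pone hxy) (pone h1) rfl
        have hx : h • x = x := hh 0 (by omega)
        have hy : h • y = g⁻¹ • p (k + 1) := hh 1 (by omega)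
        refine ⟨g * h, fun a ha => ?_, Or.inr ?_⟩
        · have h2 := hnx h⁻¹ (inv_mem (show h ∈ P.S x from hx)) _ (hg a ha)
          have e : (g * h)⁻¹ * a * (g * h) = h⁻¹ * (g⁻¹ * a * g) * h⁻¹⁻¹ := by group
          rw [e]; exact h2
        · rw [mul_smul, hy, smul_inv_smul]
      · rw [hgk] at hadj
        have h1 : P.adj y (g⁻¹ • p (k + 1)) := by
          rw [← P.adj_smul_iff g, smul_inv_smul]; exact hadj
        obtain ⟨h, hh⟩ := P.trans (k := 1) (by omega) (pone (P.symm hxy)) (pone h1) rfl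
        have hy : h • y = y := hh 0 (by omega)
        have hx : h • x = g⁻¹ • p (k + 1) := hh 1 (by omega)
        refine ⟨g * h, fun a ha => ?_, Or.inl ?_⟩
        · have h2 := hny h⁻¹ (inv_mem (show h ∈ P.S y from hy)) _ (hg a ha)
          have e : (g * h)⁻¹ * a * (g * h) = h⁻¹ * (g⁻¹ * a * g) * h⁻¹⁻¹ := by group
          rw [e]; exact h2
        · rw [mul_smul, hx, smul_inv_smul]
  rw [eq_bot_iff]
  intro a ha
  rw [Subgroup.mem_bot]
  apply P.faithful
  intro v
  obtain ⟨k, -, p, hp, h0, hk⟩ := P.exists_path x v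
  obtain ⟨g, hg, hgk⟩ := key k p hp h0
  rw [hk] at hgk
  have h1 := hX (hg a ha)
  rcases hgk with rfl | rfl
  · have h2 : (g⁻¹ * a * g) • x = x := h1.1
    rw [mul_smul, mul_smul, inv_smul_eq_iff] at h2
    exact h2
  · have h2 : (g⁻¹ * a * g) • y = y := h1.2
    rw [mul_smul, mul_smul, inv_smul_eq_iff] at h2
    exact h2

/-! ### Rigidity -/

/-- an element of `K x ⊓ K y` fixing a vertex opposite `y` is in `K z` and fixes a vertex opposite `z`, for all `z ~ y` -/
theorem rigid_step {x y z y' : V} {g : G} (hxy : P.adj x y) (hx : g ∈ P.K x) (hy : g ∈ P.K y) (ho : P.Opp y y')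
    (hy' : g • y' = y') (hz : P.adj y z) : g ∈ P.K z ∧ ∃ z', P.Opp z z' ∧ g • z' = z' := by
  have h4 := four_le P
  obtain ⟨a, ha, hax, haz⟩ := third P y x z
  obtain ⟨p, hp, hp0, hp1, hpn⟩ := proj_path P ho ha
  have hfix : ∀ i, i ≤ P.n → g • p i = p i := by
    have h1 := K_opp_H P hp hp0 hpn ⟨hy, hy'⟩
    exact (mem_PS P).1 h1
  -- the vertex at distance `n - 1`
  have hopp : ∀ {b : V}, P.adj y b → b ≠ a → P.Opp b (p (P.n - 1)) := by
    intro b hb hba
    have h1 := pcons (w := b) (pmono hp (show P.n - 1 ≤ P.n by omega)) (by rw [hp0]; exact P.symm hb)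
      (fun _ => by rw [hp1]; exact hba.symm)
    rw [show P.n - 1 + 1 = P.n by omega] at h1
    exact ⟨_, h1, if_pos rfl, if_neg (by omega)⟩
  have hu := hfix (P.n - 1) (by omega)
  have h1 : g ∈ P.K (p (P.n - 1)) := K_opp P (hopp (P.symm hxy) hax.symm) ⟨hx, hu⟩
  have hoz := hopp hz haz.symm
  exact ⟨K_opp P (opp_symm P hoz) ⟨h1, hy.2 z hz⟩, _, hoz, hu⟩

theorem rigid_opp {x y y' : V} {g : G} (hxy : P.adj x y) (hx : g ∈ P.K x) (hy : g ∈ P.K y) (ho : P.Opp y y')
    (hy' : g • y' = y') : g = 1 := by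
  have key : ∀ (k : ℕ) (p : ℕ → V), IsPath P.adj k p → p 0 = y → g ∈ P.K (p k) ∧ (∃ z', P.Opp (p k) z' ∧ g • z' = z') ∧
      ∃ w, P.adj w (p k) ∧ g ∈ P.K w := by
    intro k
    induction k with
    | zero =>
      intro p _ h0
      rw [h0]
      exact ⟨hy, ⟨y', ho, hy'⟩, x, hxy, hx⟩
    | succ k ih =>
      intro p hp h0
      obtain ⟨h1, ⟨z', h2, h3⟩, w, h4, h5⟩ := ih p (pmono hp (Nat.le_succ k)) h0
      have hadj := hp.1 k (Nat.lt_succ_self k)
      obtain ⟨h6, h7⟩ := rigid_step P h4 h5 h1 h2 h3 hadj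
      exact ⟨h6, h7, p k, hadj, h1⟩
  apply P.faithful
  intro v
  obtain ⟨k, -, p, hp, h0, hk⟩ := P.exists_path y v
  have h1 := (key k p hp h0).1.1
  rwa [hk] at h1

theorem rigid : ∀ {p : ℕ → V} {i : ℕ} {g : G}, IsPath P.adj (P.n + 1) p → i ≤ P.n → g ∈ P.K (p i) → g ∈ P.K (p (i + 1)) →
    g ∈ P.H p → g = 1 := by
  intro p i g hp hi h1 h2 hH
  have h4 := four_le P
  rw [mem_H] at hH
  -- the other half of the apartment
  obtain ⟨s, hs, hs0, hs1, hsn⟩ := proj_path P (v := p P.n) (v' := p 0) (a := p (P.n + 1))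
    (opp_symm P ⟨p, pmono hp (Nat.le_succ _), rfl, rfl⟩) (hp.1 P.n (Nat.lt_succ_self _))
  have hsfix : ∀ j, j ≤ P.n → g • s j = s j := fix_path' P hs (by rw [hs0]; exact hH _ (by omega))
    (by rw [hs1]; exact hH _ le_rfl) (by rw [hsn]; exact hH _ (Nat.zero_le _))
  -- the vertex opposite `p i`
  have h3 := pappend (pmono (pshift hp i) (show P.n - i ≤ P.n + 1 - i by omega)) (pmono hs (show i ≤ P.n from hi))
    (by rw [show i + (P.n - i) = P.n by omega, hs0]) (by
      intro h5 h6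
      rw [hs1, show i + (P.n - i - 1) = P.n - 1 by omega]
      have := hp.2 (P.n - 1) (by omega)
      rwa [show P.n - 1 + 2 = P.n + 1 by omega] at this)
  rw [show P.n - i + i = P.n by omega] at h3
  refine rigid_opp P (P.symm (hp.1 i (by omega))) h2 h1 (y' := s i) ⟨_, h3, ?_, ?_⟩ (hsfix i hi)
  · rw [if_pos (Nat.zero_le _), Nat.add_zero]
  · by_cases hi0 : i = 0
    · subst hi0
      rw [if_pos (by omega), hs0, Nat.zero_add]
    · rw [if_neg (by omega), show P.n - (P.n - i) = i by omega]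

end Cfsg.Agent.H640.Tits

private theorem dce_cbcc4d26233c : _root_.True := by
  try have : _root_.True := by simp only [_root_.Cfsg.Agent.H873.Tits.Pol.PS.eq_1]
  exact _root_.True.intro
end

-- part: H736/Tits/Path
section
set_option linter.all false
open scoped Cfsg.Agent.FastGrp

/-!
# S3414: orders

For a strongly transitive generalized `n`-gon, `m = n / 2`, `Q = q true * q false`:
`card_S`: `|S v| = (q v + 1) Q^m |H p|`;  `card_V`: there are `(1 + q (!a)) (1 + Q + ... + Q^(m-1))` vertices of type `a`;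
`card_G`: `|G| = (1 + q true) (1 + q false) (1 + Q + ... + Q^(m-1)) Q^m |H p|`.
-/

set_option autoImplicit false

namespace Cfsg.Agent.H736.Tits

open Cfsg.Agent.H873.Tits Cfsg.Agent.H640.Tits
open scoped commutatorElement

universe u v

variable {G : Type u} [Group G] {V : Type v} [MulAction G V]

/-- orbit-stabilizer -/
theorem card_orbit {A : Subgroup G} {w : V} {O : Set V} (h1 : ∀ x ∈ O, ∃ g ∈ A, g • w = x)
    (h2 : ∀ g ∈ A, g • w ∈ O) : Nat.card ↥A = Nat.card ↥O * Nat.card ↥(A ⊓ MulAction.stabilizer G w) := by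
  have e1 : MulAction.orbit ↥A w = O := by
    ext x
    constructor
    · rintro ⟨g, rfl⟩; exact h2 _ g.2
    · intro hx
      obtain ⟨g, hg, rfl⟩ := h1 x hx
      exact ⟨⟨g, hg⟩, rfl⟩
  have e2 : (MulAction.stabilizer ↥A w).map A.subtype = A ⊓ MulAction.stabilizer G w := by
    ext x
    constructor
    · rintro ⟨y, hy, rfl⟩; exact ⟨y.2, hy⟩
    · rintro ⟨hx, hx'⟩; exact ⟨⟨x, hx⟩, hx', rfl⟩
  rw [← e2, Nat.card_congr ((MulAction.stabilizer ↥A w).equivMapOfInjective A.subtype A.subtype_injective).symm.toEquiv,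
    ← e1, Nat.card_congr (MulAction.orbitEquivQuotientStabilizer ↥A w)]
  exact Subgroup.card_eq_card_quotient_mul_card_subgroup _

variable (P : Pol G V)

theorem PS_succ (k : ℕ) (p : ℕ → V) : P.PS (k + 1) p = P.PS k p ⊓ MulAction.stabilizer G (p (k + 1)) := by
  ext g
  rw [Subgroup.mem_inf, mem_PS, mem_PS]
  constructor
  · intro h
    exact ⟨fun i hi => h i (by omega), h (k + 1) le_rfl⟩
  · rintro ⟨h1, h2⟩ i hi
    rcases Nat.lt_or_ge i (k + 1) with h | h
    · exact h1 i (by omega)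
    · have : i = k + 1 := le_antisymm hi h
      rw [this]; exact h2

theorem PS_zero (p : ℕ → V) : P.PS 0 p = P.S (p 0) := by
  ext g
  rw [mem_PS]
  constructor
  · intro h; exact h 0 le_rfl
  · intro h i hi
    have : i = 0 := by omega
    rw [this]; exact h

theorem card_nb' (v : V) : Nat.card ↥{w : V | P.adj v w} = P.q (P.tp v) + 1 := P.card_nb v

theorem finite_nb (v : V) : Finite ↥{w : V | P.adj v w} := by
  apply Nat.finite_of_card_ne_zero
  rw [card_nb']; omega

theorem card_nb_ne {v a : V} (ha : P.adj v a) : Nat.card ↥{w : V | P.adj v w ∧ w ≠ a} = P.q (P.tp v) := by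
  have h1 := card_nb' P v
  have hfin : ({w : V | P.adj v w} : Set V).Finite := finite_nb P v
  have e : {w : V | P.adj v w ∧ w ≠ a} = {w : V | P.adj v w} \ {a} := by
    ext w; simp
  rw [Nat.card_coe_set_eq] at h1 ⊢
  rw [e, Set.ncard_sdiff_singleton_of_mem (show a ∈ {w : V | P.adj v w} from ha), h1]
  rfl

/-- the path obtained by replacing the last vertex -/
theorem path_repl {k : ℕ} {p : ℕ → V} (hp : IsPath P.adj (k + 1) p) {w : V} (hw : P.adj (p k) w)
    (hne : 1 ≤ k → w ≠ p (k - 1)) {m : ℕ} (hm : m = k + 1) :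
    IsPath P.adj m (fun j => if j ≤ k then p j else w) := by
  subst hm
  exact psnoc (pmono hp (Nat.le_succ k)) hw hne

theorem card_PS_succ {k : ℕ} {p : ℕ → V} (hk1 : 1 ≤ k) (hk : k ≤ P.n) (hp : IsPath P.adj (k + 1) p) :
    Nat.card ↥(P.PS k p) = P.q (P.tp (p k)) * Nat.card ↥(P.PS (k + 1) p) := by
  have hprev : P.adj (p k) (p (k - 1)) := by
    have := hp.1 (k - 1) (by omega)
    rw [show k - 1 + 1 = k by omega] at this
    exact P.symm this
  rw [PS_succ, ← card_nb_ne P hprev]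
  apply card_orbit
  · rintro x ⟨hx, hx'⟩
    obtain ⟨g, hg⟩ := P.trans (k := k + 1) (by omega) hp (path_repl P hp hx (fun _ => hx') rfl) (by
      rw [if_pos (Nat.zero_le _)])
    refine ⟨g, ?_, ?_⟩
    · rw [mem_PS]
      intro i hi
      have := hg i (by omega)
      rwa [if_pos hi] at this
    · have := hg (k + 1) le_rfl
      rwa [if_neg (by omega)] at this
  · intro g hg
    rw [mem_PS] at hg
    refine ⟨?_, ?_⟩
    · rw [← hg k le_rfl]
      exact P.smul_adj g (hp.1 k (by omega))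
    · intro h
      rw [← hg (k - 1) (by omega)] at h
      have h1 := MulAction.injective g h
      have h2 := hp.2 (k - 1) (by omega)
      rw [show k - 1 + 2 = k + 1 by omega] at h2
      exact h2 h1

theorem card_PS_one {p : ℕ → V} (hp : IsPath P.adj 1 p) :
    Nat.card ↥(P.S (p 0)) = (P.q (P.tp (p 0)) + 1) * Nat.card ↥(P.PS 1 p) := by
  rw [show P.PS 1 p = P.PS 0 p ⊓ MulAction.stabilizer G (p 1) from PS_succ P 0 p, PS_zero, ← card_nb' P (p 0)]
  apply card_orbit
  · intro x hx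
    obtain ⟨g, hg⟩ := P.trans (k := 1) (by omega) hp (pone (show P.adj (p 0) x from hx)) rfl
    exact ⟨g, hg 0 (by omega), hg 1 le_rfl⟩
  · intro g hg
    have hg' : g • p 0 = p 0 := hg
    change P.adj (p 0) (g • p 1)
    conv_lhs => rw [← hg']
    exact P.smul_adj g (hp.1 0 (by omega))

/-- `q true * q false` -/
def Q : ℕ := P.q true * P.q false

theorem Q_eq (b : Bool) : P.q b * P.q (!b) = Q P := by
  cases b
  · exact mul_comm _ _
  · rfl

theorem card_PS_odd {p : ℕ → V} (j : ℕ) (hj : 2 * j ≤ P.n) (hp : IsPath P.adj (2 * j + 1) p) :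
    Nat.card ↥(P.PS 1 p) = Q P ^ j * Nat.card ↥(P.PS (2 * j + 1) p) := by
  induction j with
  | zero => rw [pow_zero, one_mul]
  | succ j ih =>
    have h1 := ih (by omega) (pmono hp (by omega))
    have h2 := card_PS_succ P (k := 2 * j + 1) (by omega) (by omega) (pmono hp (by omega))
    have h3 := card_PS_succ P (k := 2 * j + 2) (by omega) (by omega) (pmono hp (by omega))
    have h4 : P.tp (p (2 * j + 2)) = !P.tp (p (2 * j + 1)) := P.tp_adj (hp.1 (2 * j + 1) (by omega))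
    rw [h1, h2, show 2 * j + 1 + 1 = 2 * j + 2 by ring, h3, h4, pow_succ, ← Q_eq P (P.tp (p (2 * j + 1))),
      show 2 * (j + 1) + 1 = 2 * j + 2 + 1 by ring]
    ring

theorem n_two : 2 * (P.n / 2) = P.n := Nat.mul_div_cancel' (n_even P).two_dvd

/-- **`|S v| = (q v + 1) Q^m |H p|`.** -/
theorem card_S {p : ℕ → V} (hp : IsPath P.adj (P.n + 1) p) :
    Nat.card ↥(P.S (p 0)) = (P.q (P.tp (p 0)) + 1) * Q P ^ (P.n / 2) * Nat.card ↥(P.H p) := by
  have h := n_two P
  rw [card_PS_one P (pmono hp (by omega)), card_PS_odd P (P.n / 2) (by omega) (by rw [h]; exact hp), h]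
  rw [mul_assoc]
  rfl

theorem card_PS_even {p : ℕ → V} {j : ℕ} (hj1 : 1 ≤ j) (hj : 2 * j ≤ P.n) (hp : IsPath P.adj (2 * j) p) :
    Nat.card ↥(P.PS 1 p) = P.q (!P.tp (p 0)) * Q P ^ (j - 1) * Nat.card ↥(P.PS (2 * j) p) := by
  obtain ⟨i, rfl⟩ : ∃ i, j = i + 1 := ⟨j - 1, by omega⟩
  rw [show 2 * (i + 1) = 2 * i + 1 + 1 by ring] at hp ⊢
  rw [card_PS_odd P i (by omega) (pmono hp (by omega)), card_PS_succ P (by omega) (by omega) hp, Nat.add_sub_cancel]
  have h4 : P.tp (p (2 * i + 1)) = !P.tp (p 0) := by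
    rw [tp_path P hp (2 * i + 1) (by omega), if_neg (by simp)]
  rw [h4]; ring

/-- the vertices at distance `k` -/
def D (v : V) (k : ℕ) : Set V := {w | ∃ p : ℕ → V, IsPath P.adj k p ∧ p 0 = v ∧ p k = w}

theorem orbit_D {k : ℕ} (hk : k ≤ P.n) {p : ℕ → V} (hp : IsPath P.adj k p) :
    Nat.card ↥(P.S (p 0)) = Nat.card ↥(D P (p 0) k) * Nat.card ↥(P.S (p 0) ⊓ P.S (p k)) := by
  apply card_orbit
  · rintro x ⟨r, hr, hr0, rfl⟩
    obtain ⟨g, hg⟩ := P.trans (k := k) (by omega) hp hr (by rw [hr0])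
    refine ⟨g, ?_, hg k le_rfl⟩
    have := hg 0 (Nat.zero_le _)
    rw [hr0] at this
    exact this
  · intro g hg
    exact ⟨_, psmul P hp g, hg, rfl⟩

theorem card_D_mid {v : V} {j : ℕ} (hj1 : 1 ≤ j) (hj : 2 * j < P.n) [Finite G] :
    Nat.card ↥(D P v (2 * j)) = (P.q (P.tp v) + 1) * (P.q (!P.tp v) * Q P ^ (j - 1)) := by
  obtain ⟨p, hp, h0⟩ := extend_to P (pzero v) (Nat.zero_le (2 * j))
  have hv : p 0 = v := h0 0 le_rfl
  subst hv
  have h1 := orbit_D P (k := 2 * j) (by omega) hp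
  have h2 : P.S (p 0) ⊓ P.S (p (2 * j)) = P.PS (2 * j) p := by
    ext g
    rw [mem_PS]
    constructor
    · rintro ⟨h3, h4⟩
      exact fix_path P hp hj h3 h4
    · intro h
      exact ⟨h 0 (Nat.zero_le _), h _ le_rfl⟩
  rw [h2, card_PS_one P (pmono hp (by omega)), card_PS_even P hj1 (by omega) hp, ← mul_assoc] at h1
  exact (Nat.eq_of_mul_eq_mul_right Nat.card_pos h1).symm

theorem card_D_opp {v : V} [Finite G] :
    Nat.card ↥(D P v P.n) = P.q (!P.tp v) * Q P ^ (P.n / 2 - 1) := by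
  have h4 := four_le P
  have hn := n_two P
  obtain ⟨p, hp, h0⟩ := extend_to P (pzero v) (Nat.zero_le P.n)
  have hv : p 0 = v := h0 0 le_rfl
  subst hv
  have h1 := orbit_D P (k := P.n) le_rfl hp
  have h2 : Nat.card ↥(P.S (p 0) ⊓ P.S (p P.n)) = (P.q (P.tp (p 0)) + 1) * Nat.card ↥(P.PS P.n p) := by
    have e : P.PS P.n p = P.S (p 0) ⊓ P.S (p P.n) ⊓ MulAction.stabilizer G (p 1) := by
      ext g
      rw [mem_PS]
      constructor
      · intro h
        exact ⟨⟨h 0 (Nat.zero_le _), h _ le_rfl⟩, h 1 (by omega)⟩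
      · rintro ⟨⟨h5, h6⟩, h7⟩
        exact fix_path' P hp h5 h7 h6
    rw [e, ← card_nb' P (p 0)]
    apply card_orbit
    · intro x hx
      have ho : P.Opp (p 0) (p P.n) := ⟨p, hp, rfl, rfl⟩
      have hadj : P.adj (p 0) (p 1) := hp.1 0 (by omega)
      obtain ⟨w, hw, hw1, hw2⟩ := third P (p 0) (p 1) x
      obtain ⟨g, hg, hg1, -⟩ := two_trans' P ho hadj hw hw1.symm hx hw hw2.symm
      exact ⟨g, hg, hg1⟩
    · intro g hg
      have hg' : g • p 0 = p 0 := hg.1
      change P.adj (p 0) (g • p 1)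
      conv_lhs => rw [← hg']
      exact P.smul_adj g (hp.1 0 (by omega))
  have h3 := card_PS_even P (p := p) (j := P.n / 2) (by omega) (by omega) (by rw [hn]; exact hp)
  rw [hn] at h3
  rw [h2, card_PS_one P (pmono hp (by omega)), h3] at h1
  have h5 : (P.q (P.tp (p 0)) + 1) * Nat.card ↥(P.PS P.n p) * (P.q (!P.tp (p 0)) * Q P ^ (P.n / 2 - 1)) =
      (P.q (P.tp (p 0)) + 1) * Nat.card ↥(P.PS P.n p) * Nat.card ↥(D P (p 0) P.n) := by
    calc _ = (P.q (P.tp (p 0)) + 1) * (P.q (!P.tp (p 0)) * Q P ^ (P.n / 2 - 1) * Nat.card ↥(P.PS P.n p)) := by ring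
      _ = _ := by rw [h1]; ring
  exact (Nat.eq_of_mul_eq_mul_left (Nat.mul_pos (Nat.succ_pos _) Nat.card_pos) h5).symm

theorem D_zero (v : V) : D P v 0 = {v} := by
  ext w
  constructor
  · rintro ⟨p, -, rfl, rfl⟩; rfl
  · intro h
    have h' : w = v := h
    subst h'
    exact ⟨fun _ => w, pzero w, rfl, rfl⟩

theorem D_disj {v : V} {k l : ℕ} (hk : k ≤ P.n) (hl : l ≤ P.n) (hne : k ≠ l) : Disjoint (D P v k) (D P v l) := by
  rw [Set.disjoint_left]
  rintro w ⟨p, hp, h0, hpk⟩ ⟨r, hr, hr0, hrl⟩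
  exact hne (P.path_unique hp hr (by rw [h0, hr0]) (by rw [hpk, hrl]) (by omega)).1

theorem V_eq (v : V) : {w : V | P.tp w = P.tp v} = ⋃ j ∈ Finset.range (P.n / 2 + 1), D P v (2 * j) := by
  ext w
  simp only [Set.mem_ofPred_eq, Set.mem_iUnion, Finset.mem_range, exists_prop]
  constructor
  · intro h
    obtain ⟨k, hk, p, hp, h0, hpk⟩ := P.exists_path v w
    obtain ⟨j, hj⟩ := even_of_tp P hp (by rw [h0, hpk, h])
    refine ⟨j, by omega, ?_⟩
    rw [show 2 * j = k by omega]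
    exact ⟨p, hp, h0, hpk⟩
  · rintro ⟨j, -, p, hp, h0, hpk⟩
    rw [← hpk, tp_even P hp (even_two_mul j), h0]

theorem sum_id (a b m : ℕ) (hm : 2 ≤ m) :
    1 + ∑ j ∈ Finset.range (m - 1), (a + 1) * (b * (a * b) ^ j) + b * (a * b) ^ (m - 1) =
      (1 + b) * ∑ j ∈ Finset.range m, (a * b) ^ j := by
  obtain ⟨k, rfl⟩ : ∃ k, m = k + 1 := ⟨m - 1, by omega⟩
  rw [Nat.add_sub_cancel]
  clear hm
  induction k with
  | zero => simp
  | succ k ih =>
    rw [Finset.sum_range_succ, Finset.sum_range_succ _ (k + 1), mul_add, ← ih]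
    ring

/-- the number of vertices of the type of `v`. -/
theorem card_V (v : V) [Finite G] [Finite V] :
    Nat.card ↥{w : V | P.tp w = P.tp v} = (1 + P.q (!P.tp v)) * ∑ j ∈ Finset.range (P.n / 2), Q P ^ j := by
  classical
  have h4 := four_le P
  have hn := n_two P
  have : Fintype V := Fintype.ofFinite V
  have h1 : Nat.card ↥{w : V | P.tp w = P.tp v} = ∑ j ∈ Finset.range (P.n / 2 + 1), Nat.card ↥(D P v (2 * j)) := by
    rw [V_eq]
    simp only [Nat.card_coe_set_eq]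
    have e : ∀ j, (D P v (2 * j)).ncard = (D P v (2 * j)).toFinset.card := fun j => Set.ncard_eq_toFinset_card' _
    rw [Set.ncard_eq_toFinset_card']
    simp only [e]
    rw [← Finset.card_biUnion]
    · congr 1
      ext w
      simp
    · intro i hi j hj hij
      rw [Finset.mem_coe, Finset.mem_range] at hi hj
      rw [Function.onFun, Set.disjoint_toFinset]
      exact D_disj P (by omega) (by omega) (by omega)
  rw [h1, Finset.sum_range_succ, hn, card_D_opp]
  obtain ⟨k, hk⟩ : ∃ k, P.n / 2 = k + 1 := ⟨P.n / 2 - 1, by omega⟩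
  rw [← Q_eq P (P.tp v)]
  have h2 : ∑ j ∈ Finset.range (P.n / 2), Nat.card ↥(D P v (2 * j)) =
      1 + ∑ j ∈ Finset.range (P.n / 2 - 1), (P.q (P.tp v) + 1) * (P.q (!P.tp v) * (P.q (P.tp v) * P.q (!P.tp v)) ^ j) := by
    rw [hk, Finset.sum_range_succ', Nat.add_sub_cancel, add_comm]
    congr 1
    · rw [Nat.mul_zero, D_zero]; simp
    · apply Finset.sum_congr rfl
      intro j hj
      rw [Finset.mem_range] at hj
      rw [card_D_mid P (by omega) (by omega), Nat.add_sub_cancel, ← Q_eq P (P.tp v)]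
  rw [h2, sum_id _ _ _ (by omega)]

theorem card_G_eq (v : V) : Nat.card G = Nat.card ↥{w : V | P.tp w = P.tp v} * Nat.card ↥(P.S v) := by
  have h := card_orbit (A := (⊤ : Subgroup G)) (w := v) (O := {w : V | P.tp w = P.tp v}) (by
    intro x hx
    obtain ⟨g, hg⟩ := P.trans (k := 0) (Nat.zero_le _) (pzero v) (pzero x) (show P.tp v = P.tp x from hx.symm)
    exact ⟨g, Subgroup.mem_top _, hg 0 le_rfl⟩) (fun g _ => P.smul_tp g v)
  rw [top_inf_eq, Subgroup.card_top] at h
  exact h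

/-- **`|G| = (1 + s) (1 + t) (1 + st + ... + (st)^(m-1)) (st)^m |H|`.** -/
theorem card_G [Finite G] [Finite V] {p : ℕ → V} (hp : IsPath P.adj (P.n + 1) p) :
    Nat.card G = (1 + P.q true) * (1 + P.q false) * (∑ j ∈ Finset.range (P.n / 2), Q P ^ j) * Q P ^ (P.n / 2) *
      Nat.card ↥(P.H p) := by
  rw [card_G_eq P (p 0), card_V, card_S P hp]
  cases P.tp (p 0)
  · simp only [Bool.not_false]; ring
  · simp only [Bool.not_true]; ring

theorem ch_eq : ch P.n (P.q true) (P.q false) =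
    (1 + P.q true) * (1 + P.q false) * ∑ j ∈ Finset.range (P.n / 2), Q P ^ j := rfl

theorem ch_eq' (b : Bool) : ch P.n (P.q true) (P.q false) =
    (1 + P.q b) * ((1 + P.q (!b)) * ∑ j ∈ Finset.range (P.n / 2), Q P ^ j) := by
  rw [ch_eq]
  cases b
  · simp only [Bool.not_false]; ring
  · simp only [Bool.not_true]; ring

theorem index_S [Finite G] [Finite V] (v : V) :
    (P.S v).index * (1 + P.q (P.tp v)) = ch P.n (P.q true) (P.q false) := by
  have h1 := card_G_eq P v
  have h2 : (P.S v).index = Nat.card ↥{w : V | P.tp w = P.tp v} := by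
    have h3 := Subgroup.index_mul_card (P.S v)
    rw [h1] at h3
    exact Nat.eq_of_mul_eq_mul_right Nat.card_pos h3
  rw [h2, card_V, ch_eq' P (P.tp v)]
  ring

theorem index_B [Finite G] [Finite V] {x y : V} (h : P.adj x y) :
    (P.S x ⊓ P.S y).index = ch P.n (P.q true) (P.q false) := by
  have h1 := card_PS_one P (pone h)
  have h2 := index_S P x
  have e : P.PS 1 (fun j => if j = 0 then x else y) = P.S x ⊓ P.S y := by
    rw [show P.PS 1 (fun j => if j = 0 then x else y) = P.PS 0 (fun j => if j = 0 then x else y) ⊓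
      MulAction.stabilizer G ((fun j => if j = 0 then x else y) 1) from PS_succ P 0 _, PS_zero]
    rfl
  rw [e] at h1
  change Nat.card ↥(P.S x) = (P.q (P.tp x) + 1) * _ at h1
  have h3 := Subgroup.index_mul_card (P.S x)
  have h4 := Subgroup.index_mul_card (P.S x ⊓ P.S y)
  have h5 : (P.S x ⊓ P.S y).index * Nat.card ↥(P.S x ⊓ P.S y) =
      ch P.n (P.q true) (P.q false) * Nat.card ↥(P.S x ⊓ P.S y) := by
    rw [h4, ← h3, h1, ← h2]; ring
  exact Nat.eq_of_mul_eq_mul_right Nat.card_pos h5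

theorem mem_img {v : V} {X : Subgroup G} {σ : Equiv.Perm {w : V // P.adj v w}} :
    σ ∈ P.img v X ↔ ∃ g : P.S v, (g : G) ∈ X ∧ P.toPerm v g = σ := by
  constructor
  · rintro ⟨g, hg, rfl⟩; exact ⟨g, hg, rfl⟩
  · rintro ⟨g, hg, rfl⟩; exact ⟨g, hg, rfl⟩

theorem card_H [Finite G] [Finite V] (F : Facts P) {p : ℕ → V} (hp : IsPath P.adj (P.n + 1) p) :
    Nat.card ↥(P.H p) ∣ P.T2 (p 1) (p 0) (p 2) * P.T2 (p 2) (p 1) (p 3) := by
  have h4 := four_le P
  have hfix : ∀ g ∈ P.H p, ∀ i, i ≤ P.n + 1 → g • p i = p i := fun g hg => (mem_H P).1 hg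
  let f1 : ↥(P.H p) →* ↥(P.img (p 1) (P.S (p 0) ⊓ P.S (p 2))) :=
    { toFun := fun g => ⟨P.toPerm (p 1) ⟨g, hfix g g.2 1 (by omega)⟩,
        (mem_img P).2 ⟨⟨g, hfix g g.2 1 (by omega)⟩, ⟨hfix g g.2 0 (by omega), hfix g g.2 2 (by omega)⟩, rfl⟩⟩
      map_one' := Subtype.ext (map_one (P.toPerm (p 1)))
      map_mul' := fun a b => Subtype.ext (map_mul (P.toPerm (p 1)) ⟨a, hfix a a.2 1 (by omega)⟩
        ⟨b, hfix b b.2 1 (by omega)⟩) }
  let f2 : ↥(P.H p) →* ↥(P.img (p 2) (P.S (p 1) ⊓ P.S (p 3))) :=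
    { toFun := fun g => ⟨P.toPerm (p 2) ⟨g, hfix g g.2 2 (by omega)⟩,
        (mem_img P).2 ⟨⟨g, hfix g g.2 2 (by omega)⟩, ⟨hfix g g.2 1 (by omega), hfix g g.2 3 (by omega)⟩, rfl⟩⟩
      map_one' := Subtype.ext (map_one (P.toPerm (p 2)))
      map_mul' := fun a b => Subtype.ext (map_mul (P.toPerm (p 2)) ⟨a, hfix a a.2 2 (by omega)⟩
        ⟨b, hfix b b.2 2 (by omega)⟩) }
  have hinj : Function.Injective (f1.prod f2) := by
    rw [injective_iff_map_eq_one]
    intro g hg
    rw [MonoidHom.prod_apply, Prod.mk_eq_one] at hg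
    obtain ⟨hg1, hg2⟩ := hg
    apply Subtype.ext
    refine F.rigid hp (i := 1) (by omega) ⟨hfix g g.2 1 (by omega), fun w hw => ?_⟩
      ⟨hfix g g.2 2 (by omega), fun w hw => ?_⟩ g.2
    · have h5 := congrArg Subtype.val hg1
      have h6 := congrArg (fun σ : Equiv.Perm {w : V // P.adj (p 1) w} => ((σ ⟨w, hw⟩ : {w : V // P.adj (p 1) w}) : V)) h5
      exact h6
    · have h5 := congrArg Subtype.val hg2
      have h6 := congrArg (fun σ : Equiv.Perm {w : V // P.adj (p 2) w} => ((σ ⟨w, hw⟩ : {w : V // P.adj (p 2) w}) : V)) h5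
      exact h6
  have h5 := Subgroup.card_dvd_of_injective _ hinj
  rw [Nat.card_prod] at h5
  exact h5

/-- **`FactsE`** -/
theorem factsE [Finite G] [Finite V] (F : Facts P) : FactsE P where
  card_G := fun hp => card_G P hp
  index_S := fun v => index_S P v
  index_B := fun h => index_B P h
  card_H := fun hp => card_H P F hp

/-! ### `StPath` -/

/-- the iterated commutator subgroups of a subgroup -/
def DS (B : Subgroup G) : ℕ → Subgroup G
  | 0 => B
  | n + 1 => ⁅DS B n, DS B n⁆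

theorem DS_le (B : Subgroup G) (n : ℕ) : DS B n ≤ B := by
  induction n with
  | zero => exact le_rfl
  | succ n ih => exact (Subgroup.commutator_mono ih ih).trans (Subgroup.commutator_le_self B)

theorem DS_le_derived (B : Subgroup G) (n : ℕ) : DS B n ≤ derivedSeries G n := by
  induction n with
  | zero => exact le_top
  | succ n ih => exact Subgroup.commutator_mono ih ih

/-- `D^n(B) ≤ T` for some `n` if `G / T` is solvable. -/
theorem exists_DS_le (T : Subgroup G) [T.Normal] (h : Group.IsSolvable (G ⧸ T)) : ∃ n, ∀ B : Subgroup G, DS B n ≤ T := by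
  obtain ⟨n, hn⟩ := h
  refine ⟨n, fun B => (DS_le_derived B n).trans ?_⟩
  have h1 := map_derivedSeries_le_derivedSeries (QuotientGroup.mk' T) n
  rw [hn, le_bot_iff] at h1
  have h2 := (Subgroup.map_eq_bot_iff _).1 h1
  rwa [QuotientGroup.ker_mk'] at h2

theorem img_comm {v : V} {X : Subgroup G} : ⁅P.img v X, P.img v X⁆ ≤ P.img v ⁅X, X⁆ := by
  rw [Subgroup.commutator_le]
  intro σ hσ τ hτ
  rw [mem_img] at hσ hτ ⊢
  obtain ⟨g, hg, rfl⟩ := hσ
  obtain ⟨k, hk, rfl⟩ := hτ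
  refine ⟨⁅g, k⁆, Subgroup.commutator_mem_commutator hg hk, map_commutatorElement _ _ _⟩

theorem perfect_le_img {v : V} {X : Subgroup (Equiv.Perm {w : V // P.adj v w})} (hX : ⁅X, X⁆ = X) {B : Subgroup G}
    (h : X ≤ P.img v B) (n : ℕ) : X ≤ P.img v (DS B n) := by
  induction n with
  | zero => exact h
  | succ n ih =>
    calc X = ⁅X, X⁆ := hX.symm
      _ ≤ ⁅P.img v (DS B n), P.img v (DS B n)⁆ := Subgroup.commutator_mono ih ih
      _ ≤ _ := img_comm P

/-- a non-abelian simple subgroup is perfect -/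
theorem perfect_of_simple {K : Type*} [Group K] {X : Subgroup K} (hs : IsSimpleGroup ↥X) (hc : ¬ IsMulCommutative ↥X) :
    ⁅X, X⁆ = X := by
  have h1 : (commutator ↥X) = ⊤ := by
    rcases hs.eq_bot_or_eq_top_of_normal (commutator ↥X) inferInstance with h | h
    · exfalso
      apply hc
      refine ⟨⟨fun a b => ?_⟩⟩
      have h2 : ⁅a, b⁆ ∈ commutator ↥X := Subgroup.commutator_mem_commutator (Subgroup.mem_top _) (Subgroup.mem_top _)
      rw [h, Subgroup.mem_bot, commutatorElement_eq_one_iff_mul_comm] at h2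
      exact h2
    · exact h
  have h2 := congrArg (Subgroup.map X.subtype) h1
  rw [commutator_def, Subgroup.map_commutator, ← MonoidHom.range_eq_map, Subgroup.range_subtype] at h2
  exact h2

/-- `T` is locally 2-transitive -/
theorem T_two {T : Subgroup G} [T.Normal] (h : Group.IsSolvable (G ⧸ T)) {v v' : V} (hS : SimpTwo (P.L' v v'))
    {a b a' b' : V} (ha : P.adj v a) (hb : P.adj v b) (hab : a ≠ b) (ha' : P.adj v a') (hb' : P.adj v b') (hab' : a' ≠ b') :
    ∃ g ∈ T ⊓ (P.S v ⊓ P.S v'), g • a = a' ∧ g • b = b' := by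
  obtain ⟨n, hn⟩ := exists_DS_le T h
  obtain ⟨X, hXL, -, hs, hc, h2⟩ := hS
  have h3 := perfect_le_img P (perfect_of_simple hs hc) hXL n
  obtain ⟨σ, hσ, h4, h5⟩ := h2 ⟨a, ha⟩ ⟨b, hb⟩ ⟨a', ha'⟩ ⟨b', hb'⟩ (fun e => hab (congrArg Subtype.val e))
    (fun e => hab' (congrArg Subtype.val e))
  obtain ⟨g, hg, rfl⟩ := (mem_img P).1 (h3 hσ)
  exact ⟨g, ⟨hn _ hg, DS_le _ _ hg⟩, congrArg Subtype.val h4, congrArg Subtype.val h5⟩

/-- `T ⊓ PS k p` is transitive on the extensions -/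
theorem T_PS_succ {T : Subgroup G} [T.Normal] (h : Group.IsSolvable (G ⧸ T))
    (hS : ∀ v v' : V, P.Opp v v' → SimpTwo (P.L' v v')) {k : ℕ} {p : ℕ → V} (hk1 : 1 ≤ k) (hk : k ≤ P.n)
    (hp : IsPath P.adj (k + 1) p) :
    Nat.card ↥(T ⊓ P.PS k p) = P.q (P.tp (p k)) * Nat.card ↥(T ⊓ P.PS (k + 1) p) := by
  have h4 := four_le P
  have hprev : P.adj (p k) (p (k - 1)) := by
    have := hp.1 (k - 1) (by omega)
    rw [show k - 1 + 1 = k by omega] at this
    exact P.symm this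
  rw [PS_succ, ← inf_assoc, ← card_nb_ne P hprev]
  apply card_orbit
  · rintro x ⟨hx, hx'⟩
    -- the reversed path, extended
    obtain ⟨r, hr, hri⟩ := extend_to P (prev P.symm (pmono hp (Nat.le_succ k))) hk
    have hr0 : r 0 = p k := hri 0 (Nat.zero_le _)
    have hr1 : r 1 = p (k - 1) := hri 1 hk1
    have ho : P.Opp (p k) (r P.n) := ⟨r, hr, hr0, rfl⟩
    have hne : p (k + 1) ≠ p (k - 1) := by
      have h2 := hp.2 (k - 1) (by omega)
      rwa [show k - 1 + 2 = k + 1 by omega] at h2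
    obtain ⟨g, hg, hg1, hg2⟩ := T_two P h (hS _ _ ho) hprev (hp.1 k (by omega)) hne.symm hprev hx (Ne.symm hx')
    refine ⟨g, ⟨hg.1, ?_⟩, hg2⟩
    have h5 := fix_path' P hr (g := g) (by rw [hr0]; exact hg.2.1) (by rw [hr1]; exact hg1) hg.2.2
    refine (mem_PS P).2 ?_
    intro i hi
    have h6 := h5 (k - i) (by omega)
    rw [hri (k - i) (by omega), show k - (k - i) = i by omega] at h6
    exact h6
  · intro g hg
    have hg' := (mem_PS P).1 hg.2
    refine ⟨?_, ?_⟩
    · rw [← hg' k le_rfl]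
      exact P.smul_adj g (hp.1 k (by omega))
    · intro h
      rw [← hg' (k - 1) (by omega)] at h
      have h1 := MulAction.injective g h
      have h2 := hp.2 (k - 1) (by omega)
      rw [show k - 1 + 2 = k + 1 by omega] at h2
      exact h2 h1

theorem T_PS_odd {T : Subgroup G} [T.Normal] (h : Group.IsSolvable (G ⧸ T))
    (hS : ∀ v v' : V, P.Opp v v' → SimpTwo (P.L' v v')) {p : ℕ → V} (j : ℕ) (hj : 2 * j ≤ P.n)
    (hp : IsPath P.adj (2 * j + 1) p) :
    Nat.card ↥(T ⊓ P.PS 1 p) = Q P ^ j * Nat.card ↥(T ⊓ P.PS (2 * j + 1) p) := by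
  induction j with
  | zero => rw [pow_zero, one_mul]
  | succ j ih =>
    have h1 := ih (by omega) (pmono hp (by omega))
    have h2 := T_PS_succ P h hS (k := 2 * j + 1) (by omega) (by omega) (pmono hp (by omega))
    have h3 := T_PS_succ P h hS (k := 2 * j + 2) (by omega) (by omega) (pmono hp (by omega))
    have h4 : P.tp (p (2 * j + 2)) = !P.tp (p (2 * j + 1)) := P.tp_adj (hp.1 (2 * j + 1) (by omega))
    rw [h1, h2, show 2 * j + 1 + 1 = 2 * j + 2 by ring, h3, h4, pow_succ, ← Q_eq P (P.tp (p (2 * j + 1))),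
      show 2 * (j + 1) + 1 = 2 * j + 2 + 1 by ring]
    ring

/-- a supplement of a normal subgroup -/
theorem card_of_sup [Finite G] {B T : Subgroup G} [T.Normal] (h : B ⊔ T = ⊤) :
    Nat.card ↥T = B.index * Nat.card ↥(T ⊓ B) := by
  have h1 : T.index = T.relIndex B := by
    rw [← Subgroup.relIndex_top_right T, ← h, Subgroup.relIndex_sup_right]
  have h2 := Subgroup.index_mul_card T
  have h3 := Subgroup.index_mul_card B
  have h4 : T.index * Nat.card ↥(T ⊓ B) = Nat.card ↥B := by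
    have h5 := Subgroup.index_mul_card (T.subgroupOf B)
    rw [Nat.card_congr ((T.subgroupOf B).equivMapOfInjective B.subtype B.subtype_injective).toEquiv,
      Subgroup.subgroupOf_map_subtype] at h5
    rw [h1]; exact h5
  have h5 : T.index * Nat.card ↥T = T.index * (B.index * Nat.card ↥(T ⊓ B)) := by
    rw [h2, ← h3, ← h4]; ring
  exact Nat.eq_of_mul_eq_mul_left (Nat.pos_of_ne_zero Subgroup.index_ne_zero_of_finite) h5

/-- **`StPath`** -/
theorem st_path : StPath.{u, v} := by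
  intro G _ _ V _ _ P F FE T _ hsol hS p hp hB
  have hn := n_two P
  have h1 := T_PS_odd P hsol hS (P.n / 2) (by omega) (by rw [hn]; exact hp)
  rw [hn] at h1
  have h2 : P.PS 1 p = P.S (p 0) ⊓ P.S (p 1) := by
    rw [show P.PS 1 p = P.PS 0 p ⊓ MulAction.stabilizer G (p 1) from PS_succ P 0 p, PS_zero]
  rw [card_of_sup hB, ← h2, h1, h2, FE.index_B (hp.1 0 (by omega)), mul_assoc]
  rfl

end Cfsg.Agent.H736.Tits
end

-- part: H63/Tits/NumE
section
set_option linter.all false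
open scoped Cfsg.Agent.FastGrp

/-!
# S3414, E-NUM: the numerical part of the end step (helper63)

`st_numE : StNumE`.
-/

set_option autoImplicit false

namespace Cfsg.Agent.H63.NumE

open Cfsg.Agent.H873.Tits

/-! ### the reduction -/

/-- `ch` written out -/
def chN (n s t : ℕ) : ℕ :=
  (1 + s) * (1 + t) *
    (if n = 4 then 1 + s * t else if n = 6 then 1 + s * t + (s * t) ^ 2 else 1 + s * t + (s * t) ^ 2 + (s * t) ^ 3)

theorem ch_eq {n : ℕ} (hn : n = 4 ∨ n = 6 ∨ n = 8) (s t : ℕ) : ch n s t = chN n s t := by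
  rcases hn with rfl | rfl | rfl <;> simp only [ch, chN, Finset.sum_range_succ, _root_.Nat.reduceDiv, _root_.Finset.range_one, _root_.Finset.sum_singleton, _root_.pow_zero, _root_.pow_one, ↓ _root_.reduceIte, _root_.Nat.reduceEqDiff]

theorem chN_pos (n s t : ℕ) : 0 < chN n s t := by
  unfold chN
  split_ifs <;> (clear * -; positivity)

/-- `ch ≤ 4 (st)^(n/2)` -/
theorem chN_le {n s t : ℕ} (hn : n = 4 ∨ n = 6 ∨ n = 8) (hs : 2 ≤ s) (ht : 2 ≤ t) :
    chN n s t ≤ 4 * (s * t) ^ (n / 2) := by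
  have h1 : 2 * (1 + s) ≤ 3 * s := by omega
  have h2 : 2 * (1 + t) ≤ 3 * t := by omega
  have h3 : 4 ≤ s * t := by nlinarith only [hs, ht]
  have h4 : 4 * ((1 + s) * (1 + t)) ≤ 9 * (s * t) := by
    calc 4 * ((1 + s) * (1 + t)) = (2 * (1 + s)) * (2 * (1 + t)) := by ring
      _ ≤ (3 * s) * (3 * t) := Nat.mul_le_mul h1 h2
      _ = 9 * (s * t) := by ring
  unfold chN
  generalize (1 + s) * (1 + t) = y at h4 ⊢
  generalize s * t = x at h3 h4 ⊢
  rcases hn with rfl | rfl | rfl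
  · have h5 : 4 * (1 + x) ≤ 5 * x := by omega
    have h6 := Nat.mul_le_mul h4 h5
    simp only [if_true]
    show y * (1 + x) ≤ 4 * x ^ 2
    linarith only [h6, _root_.sq_nonneg (↑x : ℤ)]
  · have h5 : 16 * (1 + x + x ^ 2) ≤ 21 * x ^ 2 := by nlinarith only [h3]
    have h6 := Nat.mul_le_mul h4 h5
    simp only [show (6 : ℕ) ≠ 4 by norm_num, if_false, if_true]
    show y * (1 + x + x ^ 2) ≤ 4 * x ^ 3
    have h7 : x ^ 3 = x * x ^ 2 := by ring
    linarith only [h6, Nat.zero_le (x ^ 3)]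
  · have h5 : 64 * (1 + x + x ^ 2 + x ^ 3) ≤ 85 * x ^ 3 := by
      have h8 : 16 + 16 * x ≤ 5 * x ^ 2 := by nlinarith only [h3]
      have h9 : 4 * (x ^ 2) ≤ x ^ 3 := by
        have : x ^ 3 = x * x ^ 2 := by ring
        rw [this]
        exact Nat.mul_le_mul_right _ h3
      omega
    have h6 := Nat.mul_le_mul h4 h5
    simp only [show (8 : ℕ) ≠ 4 by norm_num, show (8 : ℕ) ≠ 6 by norm_num, if_false]
    show y * (1 + x + x ^ 2 + x ^ 3) ≤ 4 * x ^ 4
    have h7 : 9 * x * (85 * x ^ 3) = 765 * x ^ 4 := by ring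
    have h10 : 4 * y * (64 * (1 + x + x ^ 2 + x ^ 3)) = 256 * (y * (1 + x + x ^ 2 + x ^ 3)) := by ring
    rw [h7, h10] at h6
    omega

theorem red {n p a b h M u : ℕ} (hp : p.Prime) (hn : n = 4 ∨ n = 6 ∨ n = 8) (hh : h ≠ 0) (hM : M ≠ 0)
    (hdvd : M ∣ ch n (p ^ a) (p ^ b) * (p ^ a * p ^ b) ^ (n / 2) * h)
    (hu : u * p ^ M.factorization p = (p ^ a * p ^ b) ^ (n / 2) * p ^ h.factorization p)
    (key : chN n (p ^ a) (p ^ b) * (h / p ^ h.factorization p) * u ^ 2 < (p ^ a * p ^ b) ^ n) :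
    M < p ^ (3 * M.factorization p) := by
  rw [ch_eq hn] at hdvd
  set C := chN n (p ^ a) (p ^ b) with hC
  have hC0 : C ≠ 0 := (chN_pos _ _ _).ne'
  have h1 : M / p ^ M.factorization p ∣
      (C * (p ^ a * p ^ b) ^ (n / 2) * h) / p ^ (C * (p ^ a * p ^ b) ^ (n / 2) * h).factorization p :=
    Nat.ordCompl_dvd_ordCompl_of_dvd hdvd p
  rw [Nat.ordCompl_mul, Nat.ordCompl_mul] at h1
  have h2 : (p ^ a * p ^ b) ^ (n / 2) / p ^ ((p ^ a * p ^ b) ^ (n / 2)).factorization p = 1 := by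
    rw [← pow_add, ← pow_mul]
    exact Nat.ordCompl_self_pow hp
  rw [h2, mul_one] at h1
  have hP0 : 0 < p ^ M.factorization p := pow_pos hp.pos _
  have h3 : M / p ^ M.factorization p ≤ C * (h / p ^ h.factorization p) := by
    refine (Nat.le_of_dvd ?_ h1).trans (Nat.mul_le_mul_right _ (Nat.div_le_self _ _))
    exact Nat.mul_pos (Nat.ordCompl_pos p hC0) (Nat.ordCompl_pos p hh)
  have h4 : p ^ M.factorization p * (M / p ^ M.factorization p) = M := Nat.ordProj_mul_ordCompl_eq_self M p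
  set P := p ^ M.factorization p with hP
  set h' := h / p ^ h.factorization p with hh'
  have hu0 : 0 < u := by
    rcases Nat.eq_zero_or_pos u with h0 | h0
    · exfalso
      rw [h0, zero_mul] at hu
      have : 0 < (p ^ a * p ^ b) ^ (n / 2) * p ^ h.factorization p := by
        have := hp.pos
        (clear * - this; positivity)
      omega
    · exact h0
  have h5 : (p ^ a * p ^ b) ^ n ≤ u ^ 2 * P ^ 2 := by
    have hn2 : n / 2 * 2 = n := by rcases hn with rfl | rfl | rfl <;> rfl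
    calc (p ^ a * p ^ b) ^ n = ((p ^ a * p ^ b) ^ (n / 2)) ^ 2 := by rw [← pow_mul, hn2]
      _ ≤ ((p ^ a * p ^ b) ^ (n / 2)) ^ 2 * (p ^ h.factorization p) ^ 2 :=
        Nat.le_mul_of_pos_right _ (pow_pos (pow_pos hp.pos _) _)
      _ = u ^ 2 * P ^ 2 := by rw [← mul_pow, ← hu, mul_pow]
  have h6 : C * h' < P ^ 2 := by
    have h7 : (C * h') * u ^ 2 < P ^ 2 * u ^ 2 := by
      rw [mul_comm (P ^ 2)]
      exact lt_of_lt_of_le key h5
    exact lt_of_mul_lt_mul_right h7 (Nat.zero_le _)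
  rw [mul_comm 3, pow_mul, ← hP]
  calc M = P * (M / P) := h4.symm
    _ ≤ P * (C * h') := Nat.mul_le_mul_left _ h3
    _ < P * P ^ 2 := Nat.mul_lt_mul_of_pos_left h6 hP0
    _ = P ^ 3 := by ring

/-- `u` is a power of `p` -/
theorem u_pow {n p a b h M u : ℕ} (hp : p.Prime)
    (hu : u * p ^ M.factorization p = (p ^ a * p ^ b) ^ (n / 2) * p ^ h.factorization p) : ∃ c, u = p ^ c := by
  have h1 : u ∣ p ^ ((a + b) * (n / 2) + h.factorization p) := by
    refine ⟨p ^ M.factorization p, ?_⟩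
    rw [hu, ← pow_add, ← pow_mul, ← pow_add]
  obtain ⟨c, -, hc⟩ := (Nat.dvd_prime_pow hp).1 h1
  exact ⟨c, hc⟩

/-! ### the types -/

theorem tbd_of_spec {p k T : ℕ} (h : Spec p k T) : TBd p k T := by
  rcases h with ⟨rfl, -, rfl⟩ | ⟨rfl, rfl, h⟩ | ⟨rfl, -, h⟩ | ⟨rfl, rfl, h⟩
  · exact Or.inl (one_dvd _)
  · exact Or.inr ⟨1, rfl, h⟩
  · left
    rwa [pow_one, mul_one]
  · left
    exact h.trans (by decide)

/-- the bounds of `TBd` as a list -/
def yl (p b : ℕ) : List ℕ :=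
  (p ^ b - 1) * b :: (if b % 3 = 0 then [(p ^ (2 * (b / 3)) - 1) * (2 * (b / 3))] else [])

theorem tbd_list {p b T : ℕ} (h : TBd p b T) : ∃ Y ∈ yl p b, T ∣ Y := by
  rcases h with h | ⟨f, rfl, h⟩
  · exact ⟨_, List.mem_cons_self, h⟩
  · refine ⟨(p ^ (2 * f) - 1) * (2 * f), ?_, h⟩
    unfold yl
    rw [if_pos (by omega), show 3 * f / 3 = f by omega]
    exact List.mem_cons_of_mem _ (List.mem_singleton.2 rfl)

theorem yl_pos {p b Y : ℕ} (hp : 2 ≤ p) (hb : 1 ≤ b) (hY : Y ∈ yl p b) : 0 < Y := by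
  unfold yl at hY
  rw [List.mem_cons] at hY
  rcases hY with rfl | hY
  · have : 1 < p ^ b := Nat.one_lt_pow (by omega) (by omega)
    exact Nat.mul_pos (by omega) hb
  · split_ifs at hY with h3
    · rw [List.mem_singleton] at hY
      rw [hY]
      have h4 : 1 ≤ b / 3 := by omega
      have : 1 < p ^ (2 * (b / 3)) := Nat.one_lt_pow (by omega) (by omega)
      exact Nat.mul_pos (by omega) (by omega)
    · exact absurd hY (List.not_mem_nil)

theorem yl_le {p b Y : ℕ} (hp : 1 ≤ p) (hY : Y ∈ yl p b) : Y ≤ b * p ^ b := by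
  unfold yl at hY
  rw [List.mem_cons] at hY
  rcases hY with rfl | hY
  · rw [mul_comm]
    exact Nat.mul_le_mul_left _ (Nat.sub_le _ _)
  · split_ifs at hY with h3
    · rw [List.mem_singleton] at hY
      rw [hY, mul_comm]
      exact Nat.mul_le_mul (by omega) ((Nat.sub_le _ _).trans (Nat.pow_le_pow_right hp (by omega)))
    · exact absurd hY (List.not_mem_nil)

/-! ### the finite check -/

/-- the `p'`-part with fuel -/
def oc (p : ℕ) : ℕ → ℕ → ℕ
  | 0, m => m
  | k + 1, m => if m % p = 0 then oc p k (m / p) else m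

theorem dvd_oc {p d : ℕ} (hd : Nat.Coprime d p) : ∀ k m : ℕ, d ∣ m → d ∣ oc p k m
  | 0, _, h => h
  | k + 1, m, h => by
    unfold oc
    split_ifs with h1
    · have h2 : p * (m / p) = m := Nat.mul_div_cancel' (Nat.dvd_of_mod_eq_zero h1)
      exact dvd_oc hd k _ (hd.dvd_of_dvd_mul_left (h2.symm ▸ h))
    · exact h

theorem oc_pos {p : ℕ} (hp : 0 < p) : ∀ k m : ℕ, 0 < m → 0 < oc p k m
  | 0, _, h => h
  | k + 1, m, h => by
    unfold oc
    split_ifs with h1
    · exact oc_pos hp k _ (Nat.div_pos (Nat.le_of_dvd h (Nat.dvd_of_mod_eq_zero h1)) hp)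
    · exact h

/-- membership in the list of exceptions -/
def inS (n p a b H : ℕ) : Bool :=
  smallList.any fun x => x.1 == n && x.2.2.2.1 == p && x.2.2.2.2 % H == 0 &&
    ((x.2.1 == p ^ a && x.2.2.1 == p ^ b) || (x.2.1 == p ^ b && x.2.2.1 == p ^ a))

def good (n p a b H c : ℕ) : Bool :=
  inS n p a b H || decide (chN n (p ^ a) (p ^ b) ^ 3 < 2 ^ (p ^ c) * (1 + p ^ max a b) ^ 3) ||
    decide (chN n (p ^ a) (p ^ b) * oc p 30 H * (p ^ c) ^ 2 < (p ^ a * p ^ b) ^ n)

def conds (n p a b : ℕ) : Bool :=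
  (n == 6 || (decide (p ^ a ≤ (p ^ b) ^ 2) && decide (p ^ b ≤ (p ^ a) ^ 2))) &&
  (!(n == 4) || (2 * p ^ a * p ^ b * (1 + p ^ a) * (1 + p ^ b)) % (p ^ a + p ^ b) == 0) &&
  (!(n == 6) || (a + b) % 2 == 0) && (!(n == 8) || (p == 2 && (a + b) % 2 == 1))

def chk (p : ℕ) (L : List (ℕ × ℕ)) : Bool :=
  L.all fun x => (List.range (3 * x.1 + 1)).all fun b => [4, 6, 8].all fun n => b == 0 || !conds n p x.1 b ||
    (yl p b).all fun Y => (List.range 10).all fun c => good n p x.1 b (x.2 * Y) c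

theorem chk_two : chk 2 [(1, 1), (2, 1), (3, 6), (4, 1), (8, 1)] = true := by decide +kernel

theorem chk_three : chk 3 [(1, 2), (3, 2)] = true := by decide +kernel

/-- the conclusion of `StNumE` -/
def Concl (n p a b h M : ℕ) : Prop :=
  M < p ^ (3 * M.factorization p) ∨
    ∃ x ∈ smallList, x.1 = n ∧ x.2.2.2.1 = p ∧ h ∣ x.2.2.2.2 ∧
      ((x.2.1 = p ^ a ∧ x.2.2.1 = p ^ b) ∨ (x.2.1 = p ^ b ∧ x.2.2.1 = p ^ a))

theorem concl_of_inS {n p a b H h M : ℕ} (hS : inS n p a b H = true) (hh : h ∣ H) : Concl n p a b h M := by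
  unfold inS at hS
  rw [List.any_eq_true] at hS
  obtain ⟨x, hx, h1⟩ := hS
  simp only [Bool.and_eq_true, Bool.or_eq_true, beq_iff_eq] at h1
  obtain ⟨⟨⟨h2, h3⟩, h4⟩, h5⟩ := h1
  exact Or.inr ⟨x, hx, h2, h3, hh.trans (Nat.dvd_of_mod_eq_zero h4), h5⟩

/-- the bound for `u` -/
theorem u_le {n p a b u : ℕ} (hp2 : 2 ≤ p) (hp4 : p ≤ 4) (hn : n = 4 ∨ n = 6 ∨ n = 8) (ha : 1 ≤ a) (hb : 1 ≤ b)
    (h1 : 2 ^ u * (1 + p ^ a) ^ 3 ≤ ch n (p ^ a) (p ^ b) ^ 3) : u ≤ 6 + 6 * ((a + b) * (n / 2)) := by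
  rw [ch_eq hn] at h1
  have hpa : 2 ≤ p ^ a := hp2.trans (Nat.le_self_pow (by omega) p)
  have hpb : 2 ≤ p ^ b := hp2.trans (Nat.le_self_pow (by omega) p)
  have h2 : chN n (p ^ a) (p ^ b) ≤ 2 ^ (2 + 2 * ((a + b) * (n / 2))) := by
    refine (chN_le hn hpa hpb).trans ?_
    rw [← pow_add, ← pow_mul, pow_add 2 2, pow_mul 2 2]
    exact Nat.mul_le_mul (by norm_num) (Nat.pow_le_pow_left hp4 _)
  have h3 : 2 ^ u ≤ 2 ^ (6 + 6 * ((a + b) * (n / 2))) := by
    calc 2 ^ u ≤ 2 ^ u * (1 + p ^ a) ^ 3 := Nat.le_mul_of_pos_right _ (by positivity)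
      _ ≤ _ := h1
      _ ≤ (2 ^ (2 + 2 * ((a + b) * (n / 2)))) ^ 3 := Nat.pow_le_pow_left h2 3
      _ = 2 ^ (6 + 6 * ((a + b) * (n / 2))) := by rw [← pow_mul]; congr 1; ring
  exact (Nat.pow_le_pow_iff_right (by norm_num)).1 h3

theorem fin_case {n p a b h Tx Ty X M u : ℕ} {L : List (ℕ × ℕ)} (hp : p.Prime) (hp4 : p ≤ 4) (hL : chk p L = true)
    (haX : (a, X) ∈ L) (hX0 : 0 < X) (ha8 : a ≤ 8) (hn : n = 4 ∨ n = 6 ∨ n = 8) (ha : 1 ≤ a) (hb : 1 ≤ b)
    (h48 : (n = 4 ∨ n = 8) → p ^ a ≤ (p ^ b) ^ 2 ∧ p ^ b ≤ (p ^ a) ^ 2)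
    (h6 : n = 6 → p ^ a ≤ (p ^ b) ^ 3 ∧ p ^ b ≤ (p ^ a) ^ 3)
    (h4 : n = 4 → (p ^ a + p ^ b) ∣ 2 * p ^ a * p ^ b * (1 + p ^ a) * (1 + p ^ b))
    (h6e : n = 6 → (a + b) % 2 = 0) (h8e : n = 8 → p = 2 ∧ (a + b) % 2 = 1)
    (hTx : Tx ∣ X) (hTy : TBd p b Ty) (hh : h ∣ Tx * Ty) (hTx0 : 0 < Tx) (hTy0 : 0 < Ty) (hM0 : 0 < M)
    (hu1 : 2 ^ u * (1 + p ^ a) ^ 3 ≤ ch n (p ^ a) (p ^ b) ^ 3) (hu2 : 2 ^ u * (1 + p ^ b) ^ 3 ≤ ch n (p ^ a) (p ^ b) ^ 3)
    (hdvd : M ∣ ch n (p ^ a) (p ^ b) * (p ^ a * p ^ b) ^ (n / 2) * h)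
    (hu : u * p ^ M.factorization p = (p ^ a * p ^ b) ^ (n / 2) * p ^ h.factorization p) :
    Concl n p a b h M := by
  have hp2 := hp.two_le
  obtain ⟨Y, hY, hTY⟩ := tbd_list hTy
  have hY0 := yl_pos hp2 hb hY
  have hh0 : 0 < h := Nat.pos_of_dvd_of_pos hh (Nat.mul_pos hTx0 hTy0)
  have hhXY : h ∣ X * Y := hh.trans (Nat.mul_dvd_mul hTx hTY)
  have hb3 : b ≤ 3 * a := by
    rcases hn with rfl | rfl | rfl
    · have := (h48 (Or.inl rfl)).2
      rw [← pow_mul] at this
      have := (Nat.pow_le_pow_iff_right hp.one_lt).1 this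
      omega
    · have := (h6 rfl).2
      rw [← pow_mul] at this
      have := (Nat.pow_le_pow_iff_right hp.one_lt).1 this
      omega
    · have := (h48 (Or.inr rfl)).2
      rw [← pow_mul] at this
      have := (Nat.pow_le_pow_iff_right hp.one_lt).1 this
      omega
  obtain ⟨c, rfl⟩ := u_pow hp hu
  have hc : c < 10 := by
    have h1 := u_le hp2 hp4 hn ha hb hu1
    by_contra hc
    have h2 : 2 ^ 10 ≤ p ^ c := (Nat.pow_le_pow_left hp2 10).trans (Nat.pow_le_pow_right hp.pos (by omega))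
    have h3 : (a + b) * (n / 2) ≤ 32 * 4 := Nat.mul_le_mul (by omega) (by rcases hn with rfl | rfl | rfl <;> norm_num)
    norm_num at h2
    omega
  have hcond : conds n p a b = true := by
    unfold conds
    simp only [Bool.and_eq_true, Bool.or_eq_true, beq_iff_eq, decide_eq_true_eq, Bool.not_eq_true', beq_eq_false_iff_ne]
    refine ⟨⟨⟨?_, ?_⟩, ?_⟩, ?_⟩
    · rcases hn with rfl | rfl | rfl
      · exact Or.inr (h48 (Or.inl rfl))
      · exact Or.inl rfl
      · exact Or.inr (h48 (Or.inr rfl))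
    · by_cases h : n = 4
      · exact Or.inr (Nat.mod_eq_zero_of_dvd (h4 h))
      · exact Or.inl h
    · by_cases h : n = 6
      · exact Or.inr (h6e h)
      · exact Or.inl h
    · by_cases h : n = 8
      · exact Or.inr (h8e h)
      · exact Or.inl h
  -- the check
  unfold chk at hL
  rw [List.all_eq_true] at hL
  have h1 := hL _ haX
  rw [List.all_eq_true] at h1
  have h2 := h1 b (List.mem_range.2 (by show b < 3 * a + 1; omega))
  rw [List.all_eq_true] at h2
  have h3 := h2 n (by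
    rcases hn with rfl | rfl | rfl <;> simp)
  simp only [Bool.or_eq_true, beq_iff_eq, Bool.not_eq_true'] at h3
  rcases h3 with (h3 | h3) | h3
  · omega
  · rw [hcond] at h3
    exact absurd h3 (by decide)
  · rw [List.all_eq_true] at h3
    have h5 := h3 Y hY
    rw [List.all_eq_true] at h5
    have h7 := h5 c (List.mem_range.2 hc)
    unfold good at h7
    simp only [Bool.or_eq_true, decide_eq_true_eq] at h7
    rcases h7 with (h7 | h7) | h7
    · exact concl_of_inS h7 hhXY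
    · exfalso
      rw [ch_eq hn] at hu1 hu2
      rcases le_total a b with hab | hab
      · rw [max_eq_right hab] at h7
        omega
      · rw [max_eq_left hab] at h7
        omega
    · left
      refine red hp hn hh0.ne' hM0.ne' hdvd hu (lt_of_le_of_lt ?_ h7)
      refine Nat.mul_le_mul_right _ (Nat.mul_le_mul_left _ ?_)
      refine Nat.le_of_dvd (oc_pos hp.pos _ _ (Nat.mul_pos hX0 hY0)) (dvd_oc ?_ _ _ ?_)
      · exact (Nat.coprime_ordCompl hp hh0.ne').symm
      · exact (Nat.ordCompl_dvd h p).trans hhXY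

end Cfsg.Agent.H63.NumE

private theorem dce_af186f8064b5 : _root_.True := by
  try have : _root_.True := by simp only [_root_.Cfsg.Agent.H873.Tits.ch.eq_1]
  try have : _root_.True := by simp only [_root_.Cfsg.Agent.H63.NumE.chN.eq_1]
  try have : _root_.True := by simp only [_root_.Cfsg.Agent.H63.NumE.oc.eq_def]
  exact _root_.True.intro
end

-- part: H63/Tits/NumEMain
section
prune_inst 0x2570446075e2120400000512922020247c00059000000001fa620d42090ff2228040294043801c001a2eb28118000000041018f4600000000a0034000007042180ead204b3180e0c0c001f813083180c00000000000000000000000000041004200000000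
set_option linter.all false
open scoped Cfsg.Agent.FastGrp

/-!
# S3414, E-NUM: the infinite families and the statement (helper63)
-/

set_option autoImplicit false

namespace Cfsg.Agent.H63.NumE

open Cfsg.Agent.H873.Tits

/-! ### `p = 2`, large `a` -/

theorem cube_le (b : ℕ) (hb : 1 ≤ b) : b * (b + 1) ^ 2 ≤ 7 * 2 ^ b := by
  induction b, hb using Nat.le_induction with
  | base => norm_num
  | succ b hb ih =>
    rcases Nat.lt_or_ge b 4 with h4 | h4
    · interval_cases b <;> norm_num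
    · have h1 : (b + 1) * (b + 2) ^ 2 ≤ 2 * (b * (b + 1) ^ 2) := by nlinarith only [h4]
      calc (b + 1) * (b + 1 + 1) ^ 2 = (b + 1) * (b + 2) ^ 2 := by ring
        _ ≤ 2 * (b * (b + 1) ^ 2) := h1
        _ ≤ 2 * (7 * 2 ^ b) := Nat.mul_le_mul_left _ ih
        _ = 7 * 2 ^ (b + 1) := by ring

theorem sq_lt (a : ℕ) (ha : 9 ≤ a) : 1008 * (a + 1) ^ 2 < 4 ^ a := by
  induction a, ha using Nat.le_induction with
  | base => norm_num
  | succ a ha ih =>
    have h1 : (a + 2) ^ 2 ≤ 4 * (a + 1) ^ 2 := by nlinarith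
    calc 1008 * (a + 1 + 1) ^ 2 = 1008 * (a + 2) ^ 2 := by ring
      _ ≤ 1008 * (4 * (a + 1) ^ 2) := Nat.mul_le_mul_left _ h1
      _ = 4 * (1008 * (a + 1) ^ 2) := by ring
      _ < 4 * 4 ^ a := Nat.mul_lt_mul_of_pos_left ih (by norm_num)
      _ = 4 ^ (a + 1) := by ring

theorem base_ineq {a b : ℕ} (ha : 9 ≤ a) (hb : 1 ≤ b) : 144 * b * (a + b + 1) ^ 2 < 2 ^ (2 * a + b) := by
  have h1 : a + b + 1 ≤ (a + 1) * (b + 1) := by nlinarith only []
  have h2 : (a + b + 1) ^ 2 ≤ ((a + 1) * (b + 1)) ^ 2 := Nat.pow_le_pow_left h1 2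
  calc 144 * b * (a + b + 1) ^ 2 ≤ 144 * b * ((a + 1) * (b + 1)) ^ 2 := Nat.mul_le_mul_left _ h2
    _ = 144 * (a + 1) ^ 2 * (b * (b + 1) ^ 2) := by ring
    _ ≤ 144 * (a + 1) ^ 2 * (7 * 2 ^ b) := Nat.mul_le_mul_left _ (cube_le b hb)
    _ = (1008 * (a + 1) ^ 2) * 2 ^ b := by ring
    _ < 4 ^ a * 2 ^ b := Nat.mul_lt_mul_of_pos_right (sq_lt a ha) (by positivity)
    _ = 2 ^ (2 * a + b) := by rw [pow_add, pow_mul]; norm_num

/-- `36 b 2^b (E + 2)^2 < 2^E`, `E = (a + b) n / 2` -/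
theorem large_ineq {n a b : ℕ} (hn : n = 4 ∨ n = 6 ∨ n = 8) (ha : 9 ≤ a) (hb : 1 ≤ b) :
    36 * (b * 2 ^ b) * ((a + b) * (n / 2) + 2) ^ 2 < 2 ^ ((a + b) * (n / 2)) := by
  have h0 := base_ineq ha hb
  have hb0 : 0 < 2 ^ b := by positivity
  have h1 : 2 ^ b * (144 * b * (a + b + 1) ^ 2) < 2 ^ (2 * (a + b)) := by
    calc 2 ^ b * (144 * b * (a + b + 1) ^ 2) < 2 ^ b * 2 ^ (2 * a + b) := Nat.mul_lt_mul_of_pos_left h0 hb0
      _ = 2 ^ (2 * (a + b)) := by rw [← pow_add]; congr 1; ring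
  have h4 : 4 ≤ 2 ^ (a + b) := by
    calc 4 = 2 ^ 2 := rfl
      _ ≤ 2 ^ (a + b) := Nat.pow_le_pow_right (by norm_num) (by omega)
  rcases hn with rfl | rfl | rfl
  · have e : (a + b) * (4 / 2) = 2 * (a + b) := by norm_num; ring
    rw [e]
    calc 36 * (b * 2 ^ b) * (2 * (a + b) + 2) ^ 2 = 2 ^ b * (144 * b * (a + b + 1) ^ 2) := by ring
      _ < 2 ^ (2 * (a + b)) := h1
  · have e : (a + b) * (6 / 2) = 3 * (a + b) := by norm_num; ring
    rw [e]
    have h2 : (3 * (a + b) + 2) ^ 2 ≤ 16 * (a + b + 1) ^ 2 := by linarith only [ha, hb, _root_.sq_nonneg (3 * (↑a + ↑b) + 2 : ℤ)]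
    calc 36 * (b * 2 ^ b) * (3 * (a + b) + 2) ^ 2 ≤ 36 * (b * 2 ^ b) * (16 * (a + b + 1) ^ 2) :=
        Nat.mul_le_mul_left _ h2
      _ = 4 * (2 ^ b * (144 * b * (a + b + 1) ^ 2)) := by ring
      _ < 4 * 2 ^ (2 * (a + b)) := Nat.mul_lt_mul_of_pos_left h1 (by norm_num)
      _ ≤ 2 ^ (a + b) * 2 ^ (2 * (a + b)) := Nat.mul_le_mul_right _ h4
      _ = 2 ^ (3 * (a + b)) := by rw [← pow_add]; congr 1; ring
  · have e : (a + b) * (8 / 2) = 4 * (a + b) := by norm_num; ring
    rw [e]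
    have h2 : (4 * (a + b) + 2) ^ 2 ≤ 16 * (a + b + 1) ^ 2 := by linarith only [ha, hb]
    calc 36 * (b * 2 ^ b) * (4 * (a + b) + 2) ^ 2 ≤ 36 * (b * 2 ^ b) * (16 * (a + b + 1) ^ 2) :=
        Nat.mul_le_mul_left _ h2
      _ = 4 * (2 ^ b * (144 * b * (a + b + 1) ^ 2)) := by ring
      _ < 4 * 2 ^ (2 * (a + b)) := Nat.mul_lt_mul_of_pos_left h1 (by norm_num)
      _ ≤ 2 ^ (a + b) * 2 ^ (2 * (a + b)) := Nat.mul_le_mul_right _ h4
      _ = 2 ^ (3 * (a + b)) := by rw [← pow_add]; congr 1; ring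
      _ ≤ 2 ^ (4 * (a + b)) := Nat.pow_le_pow_right (by norm_num) (by omega)

theorem large_case {n a b h Ty M u : ℕ} (hn : n = 4 ∨ n = 6 ∨ n = 8) (ha : 9 ≤ a) (hb : 1 ≤ b)
    (hTy : TBd 2 b Ty) (hh : h ∣ Ty) (hTy0 : 0 < Ty) (hM0 : 0 < M)
    (hu1 : 2 ^ u * (1 + 2 ^ a) ^ 3 ≤ ch n (2 ^ a) (2 ^ b) ^ 3)
    (hdvd : M ∣ ch n (2 ^ a) (2 ^ b) * (2 ^ a * 2 ^ b) ^ (n / 2) * h)
    (hu : u * 2 ^ M.factorization 2 = (2 ^ a * 2 ^ b) ^ (n / 2) * 2 ^ h.factorization 2) :
    M < 2 ^ (3 * M.factorization 2) := by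
  have hh0 : 0 < h := Nat.pos_of_dvd_of_pos hh hTy0
  obtain ⟨Y, hY, hTY⟩ := tbd_list hTy
  have hY0 := yl_pos le_rfl hb hY
  have hhb : h ≤ b * 2 ^ b := (Nat.le_of_dvd hY0 (hh.trans hTY)).trans (yl_le (by norm_num) hY)
  refine red Nat.prime_two hn hh0.ne' hM0.ne' hdvd hu ?_
  rw [ch_eq hn] at hu1
  set E := (a + b) * (n / 2) with hE
  have hpa : 2 ≤ 2 ^ a := Nat.le_self_pow (by omega) 2
  have hpb : 2 ≤ 2 ^ b := Nat.le_self_pow (by omega) 2
  have h2 : chN n (2 ^ a) (2 ^ b) ≤ 4 * 2 ^ E := by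
    refine (chN_le hn hpa hpb).trans ?_
    rw [← pow_add, ← pow_mul]
  have h3 : 2 ^ u ≤ 2 ^ (3 * (E + 2)) := by
    calc 2 ^ u ≤ 2 ^ u * (1 + 2 ^ a) ^ 3 := Nat.le_mul_of_pos_right _ (by positivity)
      _ ≤ _ := hu1
      _ ≤ (4 * 2 ^ E) ^ 3 := Nat.pow_le_pow_left h2 3
      _ = 2 ^ (3 * (E + 2)) := by
        rw [show (4 : ℕ) = 2 ^ 2 from rfl, ← pow_add, ← pow_mul]; congr 1; ring
  have h4 : u ≤ 3 * (E + 2) := (Nat.pow_le_pow_iff_right (by norm_num)).1 h3
  have hn2 : n / 2 * 2 = n := by rcases hn with rfl | rfl | rfl <;> rfl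
  have h5 := large_ineq hn ha hb
  rw [← hE] at h5
  calc chN n (2 ^ a) (2 ^ b) * (h / 2 ^ h.factorization 2) * u ^ 2
      ≤ (4 * 2 ^ E) * (b * 2 ^ b) * (3 * (E + 2)) ^ 2 :=
        Nat.mul_le_mul (Nat.mul_le_mul h2 ((Nat.div_le_self _ _).trans hhb)) (Nat.pow_le_pow_left h4 2)
    _ = 2 ^ E * (36 * (b * 2 ^ b) * (E + 2) ^ 2) := by ring
    _ < 2 ^ E * 2 ^ E := Nat.mul_lt_mul_of_pos_left h5 (by positivity)
    _ = (2 ^ a * 2 ^ b) ^ n := by
      rw [← pow_add, ← pow_add, ← pow_mul, hE]; congr 1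
      conv_rhs => rw [← hn2]
      ring

/-! ### `a = 1`, `p ≥ 7` -/

theorem sq_le_two_pow (p : ℕ) (hp : 4 ≤ p) : p ^ 2 ≤ 2 ^ p := by
  induction p, hp using Nat.le_induction with
  | base => norm_num
  | succ p hp ih =>
    have h1 : (p + 1) ^ 2 ≤ 2 * p ^ 2 := by nlinarith
    calc (p + 1) ^ 2 ≤ 2 * p ^ 2 := h1
      _ ≤ 2 * 2 ^ p := Nat.mul_le_mul_left _ ih
      _ = 2 ^ (p + 1) := by ring

theorem exp_one {p : ℕ} (hp : 7 ≤ p) : 64 * p ^ 12 < 2 ^ (p ^ 2) := by
  calc 64 * p ^ 12 = 64 * (p ^ 2) ^ 6 := by ring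
    _ ≤ 64 * (2 ^ p) ^ 6 := Nat.mul_le_mul_left _ (Nat.pow_le_pow_left (sq_le_two_pow p (by omega)) 6)
    _ = 2 ^ (6 + p * 6) := by rw [pow_add, pow_mul]; norm_num
    _ < 2 ^ (p ^ 2) := Nat.pow_lt_pow_right (by norm_num) (by nlinarith)

theorem exp_two {p : ℕ} (hp : 7 ≤ p) : 1728 * p ^ 36 < 2 ^ (p ^ 3) := by
  calc 1728 * p ^ 36 = 1728 * (p ^ 2) ^ 18 := by ring
    _ ≤ 1728 * (2 ^ p) ^ 18 := Nat.mul_le_mul_left _ (Nat.pow_le_pow_left (sq_le_two_pow p (by omega)) 18)
    _ ≤ 2 ^ 11 * (2 ^ p) ^ 18 := Nat.mul_le_mul_right _ (by norm_num)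
    _ = 2 ^ (11 + p * 18) := by rw [pow_add, pow_mul]
    _ < 2 ^ (p ^ 3) := Nat.pow_lt_pow_right (by norm_num) (by
      have : 49 * p ≤ p ^ 3 := by
        have h1 : 49 ≤ p ^ 2 := by nlinarith
        calc 49 * p ≤ p ^ 2 * p := Nat.mul_le_mul_right _ h1
          _ = p ^ 3 := by ring
      omega)

theorem poly_le {y b Y : ℕ} (hb : b = 1 ∨ b = 2 ∨ b = 3) (hY : Y ∈ yl (y + 1) b) :
    (b = 1 → Y ≤ y) ∧ (b = 2 → Y ≤ 2 * (y ^ 2 + 2 * y)) ∧ (b = 3 → Y ≤ 3 * (y + 1) ^ 3) := by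
  refine ⟨?_, ?_, ?_⟩
  · rintro rfl
    have : Y = (y + 1) ^ 1 - 1 := by simpa only [yl, _root_.pow_one, _root_.add_tsub_cancel_right, _root_.mul_one, _root_.Nat.one_mod, _root_.one_ne_zero, ↓ _root_.reduceIte, _root_.List.mem_cons, _root_.List.not_mem_nil, _root_.or_false] using hY
    rw [this, pow_one]; omega
  · rintro rfl
    have : Y = ((y + 1) ^ 2 - 1) * 2 := by simpa only [yl, _root_.Nat.mod_succ, _root_.OfNat.ofNat_ne_zero, ↓ _root_.reduceIte, _root_.List.mem_cons, _root_.List.not_mem_nil, _root_.or_false] using hY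
    rw [this]
    have e : (y + 1) ^ 2 = y ^ 2 + 2 * y + 1 := by ring
    rw [e]
    omega
  · rintro rfl
    exact yl_le (by omega) hY

theorem mers_key {n y b u h : ℕ} (hy : 6 ≤ y) (hn : n = 4 ∨ n = 6) (hb : b = 1 ∨ b = 2 ∨ (n = 6 ∧ b = 3))
    {Y : ℕ} (hY : Y ∈ yl (y + 1) b) (hh : h ≤ y * Y) (hu4 : n = 4 → u ≤ y + 1) (hu6 : n = 6 → u ≤ (y + 1) ^ 2) :
    chN n ((y + 1) ^ 1) ((y + 1) ^ b) * h * u ^ 2 < ((y + 1) ^ 1 * (y + 1) ^ b) ^ n := by
  obtain ⟨z, rfl⟩ : ∃ z, y = z + 6 := ⟨y - 6, by omega⟩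
  have h0 := poly_le (by (clear * - hb; omega) : b = 1 ∨ b = 2 ∨ b = 3) hY
  rcases hn with rfl | rfl
  · have hu' : u ^ 2 ≤ (z + 6 + 1) ^ 2 := Nat.pow_le_pow_left (hu4 rfl) 2
    rcases hb with rfl | rfl | ⟨h1, -⟩
    · have hY' := h0.1 rfl
      have hh' : h ≤ (z + 6) * (z + 6) := hh.trans (Nat.mul_le_mul_left _ hY')
      refine lt_of_le_of_lt (Nat.mul_le_mul (Nat.mul_le_mul_left _ hh') hu') ?_
      simp only [chN, if_true]
      zify
      rw [← sub_pos]
      ring_nf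
      (clear * -; positivity)
    · have hY' := h0.2.1 rfl
      have hh' : h ≤ (z + 6) * (2 * ((z + 6) ^ 2 + 2 * (z + 6))) := hh.trans (Nat.mul_le_mul_left _ hY')
      refine lt_of_le_of_lt (Nat.mul_le_mul (Nat.mul_le_mul_left _ hh') hu') ?_
      simp only [chN, if_true]
      zify
      rw [← sub_pos]
      ring_nf
      (clear * -; positivity)
    · exact absurd h1 (by norm_num)
  · have hu' : u ^ 2 ≤ ((z + 6 + 1) ^ 2) ^ 2 := Nat.pow_le_pow_left (hu6 rfl) 2
    rcases hb with rfl | rfl | ⟨-, rfl⟩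
    · have hY' := h0.1 rfl
      have hh' : h ≤ (z + 6) * (z + 6) := hh.trans (Nat.mul_le_mul_left _ hY')
      refine lt_of_le_of_lt (Nat.mul_le_mul (Nat.mul_le_mul_left _ hh') hu') ?_
      simp only [chN, show (6 : ℕ) ≠ 4 by norm_num, if_false, if_true]
      zify
      rw [← sub_pos]
      ring_nf
      (clear * -; positivity)
    · have hY' := h0.2.1 rfl
      have hh' : h ≤ (z + 6) * (2 * ((z + 6) ^ 2 + 2 * (z + 6))) := hh.trans (Nat.mul_le_mul_left _ hY')
      refine lt_of_le_of_lt (Nat.mul_le_mul (Nat.mul_le_mul_left _ hh') hu') ?_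
      simp only [chN, show (6 : ℕ) ≠ 4 by norm_num, if_false, if_true]
      zify
      rw [← sub_pos]
      ring_nf
      (clear * -; positivity)
    · have hY' := h0.2.2 rfl
      have hh' : h ≤ (z + 6) * (3 * (z + 6 + 1) ^ 3) := hh.trans (Nat.mul_le_mul_left _ hY')
      refine lt_of_le_of_lt (Nat.mul_le_mul (Nat.mul_le_mul_left _ hh') hu') ?_
      simp only [chN, show (6 : ℕ) ≠ 4 by norm_num, if_false, if_true]
      zify
      rw [← sub_pos]
      ring_nf
      (clear * -; positivity)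

theorem mers_case {n p b h Tx Ty M u : ℕ} (hp : p.Prime) (hp7 : 7 ≤ p) (hn : n = 4 ∨ n = 6) (hb : 1 ≤ b)
    (h4 : n = 4 → p ^ b ≤ (p ^ 1) ^ 2) (h6 : n = 6 → p ^ b ≤ (p ^ 1) ^ 3)
    (hTx : Tx ∣ p - 1) (hTy : TBd p b Ty) (hh : h ∣ Tx * Ty) (hTx0 : 0 < Tx) (hTy0 : 0 < Ty) (hM0 : 0 < M)
    (hu2 : 2 ^ u * (1 + p ^ b) ^ 3 ≤ ch n (p ^ 1) (p ^ b) ^ 3)
    (hdvd : M ∣ ch n (p ^ 1) (p ^ b) * (p ^ 1 * p ^ b) ^ (n / 2) * h)
    (hu : u * p ^ M.factorization p = (p ^ 1 * p ^ b) ^ (n / 2) * p ^ h.factorization p) :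
    M < p ^ (3 * M.factorization p) := by
  obtain ⟨y, rfl⟩ : ∃ y, p = y + 1 := ⟨p - 1, by omega⟩
  rw [Nat.add_sub_cancel] at hTx
  have hy0 : 0 < y := by omega
  have hn' : n = 4 ∨ n = 6 ∨ n = 8 := by (clear * - hn; omega)
  obtain ⟨Y, hY, hTY⟩ := tbd_list hTy
  have hY0 := yl_pos hp.two_le hb hY
  have hh0 : 0 < h := Nat.pos_of_dvd_of_pos hh (Nat.mul_pos hTx0 hTy0)
  have hhY : h ≤ y * Y := Nat.le_of_dvd (Nat.mul_pos hy0 hY0) (hh.trans (Nat.mul_dvd_mul hTx hTY))
  have hb3 : b = 1 ∨ b = 2 ∨ (n = 6 ∧ b = 3) := by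
    rcases hn with rfl | rfl
    · have := h4 rfl
      rw [← pow_mul] at this
      have := (Nat.pow_le_pow_iff_right hp.one_lt).1 this
      omega
    · have := h6 rfl
      rw [← pow_mul] at this
      have := (Nat.pow_le_pow_iff_right hp.one_lt).1 this
      omega
  obtain ⟨c, rfl⟩ := u_pow hp hu
  refine red hp hn' hh0.ne' hM0.ne' hdvd hu ?_
  rw [ch_eq hn'] at hu2
  refine mers_key (by omega) hn hb3 hY ((Nat.div_le_self _ _).trans hhY) ?_ ?_
  · rintro rfl
    by_contra hc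
    have hc2 : 2 ≤ c := by
      by_contra h1
      apply hc
      calc (y + 1) ^ c ≤ (y + 1) ^ 1 := Nat.pow_le_pow_right (by omega) (by omega)
        _ = y + 1 := pow_one _
    have h1 : 2 ^ ((y + 1) ^ 2) ≤ 2 ^ ((y + 1) ^ c) :=
      Nat.pow_le_pow_right (by norm_num) (Nat.pow_le_pow_right (by omega) hc2)
    have h2 : 2 ^ ((y + 1) ^ c) ≤ ((1 + (y + 1)) * (1 + (y + 1) ^ (b + 1))) ^ 3 := by
      have h3 : chN 4 ((y + 1) ^ 1) ((y + 1) ^ b) ^ 3 =
          ((1 + (y + 1)) * (1 + (y + 1) ^ (b + 1))) ^ 3 * (1 + (y + 1) ^ b) ^ 3 := by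
        simp only [chN, if_true]
        ring
      rw [h3] at hu2
      exact le_of_mul_le_mul_right hu2 (by positivity)
    have h4' : (1 + (y + 1)) * (1 + (y + 1) ^ (b + 1)) ≤ 4 * (y + 1) ^ 4 := by
      have e1 : 1 + (y + 1) ≤ 2 * (y + 1) := by omega
      have e2 : 1 + (y + 1) ^ (b + 1) ≤ 2 * (y + 1) ^ 3 := by
        have : (y + 1) ^ (b + 1) ≤ (y + 1) ^ 3 := Nat.pow_le_pow_right (by omega) (by omega)
        have : 1 ≤ (y + 1) ^ 3 := Nat.one_le_pow _ _ (by omega)
        omega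
      calc _ ≤ (2 * (y + 1)) * (2 * (y + 1) ^ 3) := Nat.mul_le_mul e1 e2
        _ = 4 * (y + 1) ^ 4 := by ring
    have h5 : ((1 + (y + 1)) * (1 + (y + 1) ^ (b + 1))) ^ 3 ≤ 64 * (y + 1) ^ 12 := by
      calc _ ≤ (4 * (y + 1) ^ 4) ^ 3 := Nat.pow_le_pow_left h4' 3
        _ = 64 * (y + 1) ^ 12 := by ring
    have h6' := exp_one hp7
    omega
  · rintro rfl
    by_contra hc
    have hc3 : 3 ≤ c := by
      by_contra h1
      apply hc
      exact Nat.pow_le_pow_right (by omega) (by omega)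
    have h1 : 2 ^ ((y + 1) ^ 3) ≤ 2 ^ ((y + 1) ^ c) :=
      Nat.pow_le_pow_right (by norm_num) (Nat.pow_le_pow_right (by omega) hc3)
    have h2 : 2 ^ ((y + 1) ^ c) ≤ chN 6 ((y + 1) ^ 1) ((y + 1) ^ b) ^ 3 :=
      (Nat.le_mul_of_pos_right _ (by positivity)).trans hu2
    have h3 : chN 6 ((y + 1) ^ 1) ((y + 1) ^ b) ≤ 4 * (y + 1) ^ 12 := by
      refine (chN_le (Or.inr (Or.inl rfl)) ?_ ?_).trans ?_
      · rw [pow_one]; omega
      · exact (show 2 ≤ y + 1 by omega).trans (Nat.le_self_pow (by omega) _)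
      · rw [← pow_add, ← pow_mul]
        exact Nat.mul_le_mul_left _ (Nat.pow_le_pow_right (by omega) (by
          show (1 + b) * 3 ≤ 12
          omega))
    have h5 : chN 6 ((y + 1) ^ 1) ((y + 1) ^ b) ^ 3 ≤ 1728 * (y + 1) ^ 36 := by
      calc _ ≤ (4 * (y + 1) ^ 12) ^ 3 := Nat.pow_le_pow_left h3 3
        _ = 64 * (y + 1) ^ 36 := by ring
        _ ≤ 1728 * (y + 1) ^ 36 := Nat.mul_le_mul_right _ (by norm_num)
    have h6' := exp_two hp7
    omega

/-! ### parity -/

theorem even_of_sq {p m g : ℕ} (hp : p.Prime) (h : p ^ m = g ^ 2) : m % 2 = 0 := by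
  have h1 := congrArg (fun x : ℕ => x.factorization p) h
  simp only [Nat.factorization_pow, Finsupp.smul_apply, smul_eq_mul, hp.factorization_self, mul_one] at h1
  omega

theorem two_of_sq {p m g : ℕ} (hp : p.Prime) (h : 2 * p ^ m = g ^ 2) : p = 2 ∧ m % 2 = 1 := by
  by_cases hp2 : p = 2
  · subst hp2
    refine ⟨rfl, ?_⟩
    rw [← pow_succ'] at h
    have := even_of_sq hp h
    omega
  · exfalso
    have h1 : (2 * p ^ m).factorization 2 = (g ^ 2).factorization 2 := by rw [h]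
    have h2 : (p ^ m).factorization 2 = 0 := by
      refine Nat.factorization_eq_zero_of_not_dvd fun h3 => ?_
      have := (Nat.prime_dvd_prime_iff_eq Nat.prime_two hp).1 (Nat.prime_two.dvd_of_dvd_pow h3)
      exact hp2 this.symm
    rw [Nat.factorization_mul (by norm_num : (2 : ℕ) ≠ 0) (pow_ne_zero m hp.ne_zero), Finsupp.add_apply,
      h2, Nat.factorization_pow, Finsupp.smul_apply, smul_eq_mul, Nat.prime_two.factorization_self] at h1
    omega

theorem three_ne (d : ℕ) : 2 + 1 ≠ 2 ^ d := by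
  rcases d with _ | _ | d
  · norm_num
  · norm_num
  · rw [pow_succ]
    omega

/-- **E-NUM** -/
theorem st_numE : StNumE := by
  intro n p a b h Tx Ty M u hn hp ha hb h48 h6 h4 h6g h8g hSx hSy hh hTx0 hTy0 hM0 hu1 hu2 hdvd hu
  have hTy : TBd p b Ty := by
    rcases hSy with h | h
    · exact tbd_of_spec h
    · exact h.2
  have h6e : n = 6 → (a + b) % 2 = 0 := by
    intro h
    obtain ⟨g, hg⟩ := h6g h
    rw [← pow_add] at hg
    exact even_of_sq hp hg
  have h8e : n = 8 → p = 2 ∧ (a + b) % 2 = 1 := by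
    intro h
    obtain ⟨g, hg⟩ := h8g h
    rw [mul_assoc, ← pow_add] at hg
    exact two_of_sq hp hg
  rcases hSx with ⟨rfl, hpr, rfl⟩ | ⟨rfl, rfl, hTx⟩ | ⟨rfl, ⟨d, hd⟩, hTx⟩ | ⟨rfl, rfl, hTx⟩
  · rcases Nat.lt_or_ge a 9 with ha9 | ha9
    · have hfin : ∀ {a' : ℕ}, a' = a → (a', 1) ∈ [(1, 1), (2, 1), (3, 6), (4, 1), (8, 1)] →
          Concl n 2 a b h M := by
        rintro a' rfl hmem
        exact fin_case hp (by norm_num) chk_two hmem one_pos (by omega) hn ha hb h48 h6 h4 h6e h8e dvd_rfl hTy hh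
          hTx0 hTy0 hM0 hu1 hu2 hdvd hu
      interval_cases a
      · exact hfin rfl (by decide)
      · exact hfin rfl (by decide)
      · exact absurd hpr (by norm_num)
      · exact hfin rfl (by decide)
      · exact absurd hpr (by norm_num)
      · exact absurd hpr (by norm_num)
      · exact absurd hpr (by norm_num)
      · exact hfin rfl (by decide)
    · left
      rw [one_mul] at hh
      exact large_case hn ha9 hb hTy hh hTy0 hM0 hu1 hdvd hu
  · exact fin_case hp (by norm_num) chk_two (X := 6) (by decide) (by norm_num) (by norm_num) hn ha hb h48 h6 h4 h6e h8e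
      hTx hTy hh hTx0 hTy0 hM0 hu1 hu2 hdvd hu
  · have hp2 : p ≠ 2 := by
      rintro rfl
      exact three_ne d hd
    by_cases hp3 : p = 3
    · subst hp3
      exact fin_case hp (by norm_num) chk_three (X := 2) (by decide) (by norm_num) (by norm_num) hn ha hb h48 h6 h4
        h6e h8e hTx hTy hh hTx0 hTy0 hM0 hu1 hu2 hdvd hu
    · have hp7 : 7 ≤ p := by
        have h2 := hp.two_le
        by_contra hlt
        have h5 : p = 4 ∨ p = 5 ∨ p = 6 := by (clear * - hp2 hp3 h2 hlt; omega)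
        rcases h5 with rfl | rfl | rfl
        · exact absurd hp (by norm_num)
        · have : (2 : ℕ) ^ d = 6 := hd.symm
          rcases d with _ | _ | _ | d
          · norm_num at this
          · norm_num at this
          · norm_num at this
          · rw [pow_succ, pow_succ, pow_succ] at this
            omega
        · exact absurd hp (by norm_num)
      have hn46 : n = 4 ∨ n = 6 := by
        rcases hn with h | h | h
        · exact Or.inl h
        · exact Or.inr h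
        · exact absurd (h8e h).1 hp2
      left
      exact mers_case hp hp7 hn46 hb (fun h => (h48 (Or.inl h)).2) (fun h => (h6 h).2) hTx hTy hh hTx0 hTy0 hM0
        hu2 hdvd hu
  · exact fin_case hp (by norm_num) chk_three (X := 2) (by decide) (by norm_num) (by norm_num) hn ha hb h48 h6 h4
      h6e h8e hTx hTy hh hTx0 hTy0 hM0 hu1 hu2 hdvd hu

end Cfsg.Agent.H63.NumE

private theorem dce_398c59053b6c : _root_.True := by
  try have : _root_.True := by simp only [_root_.Cfsg.Agent.H63.NumE.yl.eq_1]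
  exact _root_.True.intro
end

-- part: H372/Tits/Path
section
set_option linter.all false
open scoped Cfsg.Agent.FastGrp

/-!
# S3414, task G3: paths, shifting paths in an apartment, orders of the path stabilizers (helper372)
-/

set_option autoImplicit false

namespace Cfsg.Agent.H372.Tits

open Cfsg.Agent.H873.Tits MulAction

universe u v

variable {G : Type u} [Group G] {V : Type v} [MulAction G V] (P : Pol G V)

theorem mem_PS {k : ℕ} {p : ℕ → V} {g : G} : g ∈ P.PS k p ↔ ∀ i, i ≤ k → g • p i = p i := by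
  unfold Pol.PS
  rw [Subgroup.mem_iInf]
  constructor
  · intro h i hi
    exact h ⟨i, hi⟩
  · rintro h ⟨i, hi⟩
    exact h i hi

theorem PS_succ (k : ℕ) (p : ℕ → V) : P.PS (k + 1) p = P.PS k p ⊓ stabilizer G (p (k + 1)) := by
  ext g
  rw [Subgroup.mem_inf, mem_PS, mem_PS, mem_stabilizer_iff]
  constructor
  · intro h
    exact ⟨fun i hi => h i (by omega), h _ le_rfl⟩
  · rintro ⟨h1, h2⟩ i hi
    rcases Nat.lt_or_ge i (k + 1) with h | h
    · exact h1 i (by omega)
    · obtain rfl : i = k + 1 := by omega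
      exact h2

theorem PS_zero (p : ℕ → V) : P.PS 0 p = P.S (p 0) := by
  ext g
  rw [mem_PS]
  constructor
  · intro h
    exact h 0 le_rfl
  · intro h i hi
    obtain rfl : i = 0 := by omega
    exact h

theorem PS_anti {k l : ℕ} (h : k ≤ l) (p : ℕ → V) : P.PS l p ≤ P.PS k p := fun g hg =>
  (mem_PS P).2 fun i hi => (mem_PS P).1 hg i (by omega)

theorem H_le_S {p : ℕ → V} {i : ℕ} (hi : i ≤ P.n + 1) : P.H p ≤ P.S (p i) := fun _ hg => (mem_PS P).1 hg i hi

theorem n_pos : 4 ≤ P.n := by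
  rcases P.hn with h | h | h <;> omega

theorem n_even : P.n = 2 * (P.n / 2) := by
  rcases P.hn with h | h | h <;> omega

/-! ### paths -/

theorem IsPath.mono {adj : V → V → Prop} {k l : ℕ} {p : ℕ → V} (h : IsPath adj l p) (hk : k ≤ l) : IsPath adj k p :=
  ⟨fun i hi => h.1 i (by omega), fun i hi => h.2 i (by omega)⟩

theorem IsPath.shift {adj : V → V → Prop} {k j : ℕ} {p : ℕ → V} (h : IsPath adj (k + j) p) :
    IsPath adj k (fun i => p (i + j)) :=
  ⟨fun i hi => by
      have := h.1 (i + j) (by omega)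
      rwa [show i + j + 1 = i + 1 + j by ring] at this,
    fun i hi => by
      have := h.2 (i + j) (by omega)
      rwa [show i + j + 2 = i + 2 + j by ring] at this⟩

variable {P} in
theorem isPath_rev {k : ℕ} {p : ℕ → V} (h : IsPath P.adj k p) : IsPath P.adj k (fun i => p (k - i)) :=
  ⟨fun i hi => by
      have := h.1 (k - (i + 1)) (by omega)
      rw [show k - (i + 1) + 1 = k - i by omega] at this
      exact P.symm this,
    fun i hi => by
      have := h.2 (k - (i + 2)) (by omega)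
      rw [show k - (i + 2) + 2 = k - i by omega] at this
      exact this.symm⟩

variable {P} in
theorem isPath_smul {k : ℕ} {p : ℕ → V} (h : IsPath P.adj k p) (g : G) : IsPath P.adj k (fun i => g • p i) :=
  ⟨fun i hi => P.smul_adj g (h.1 i hi), fun i hi he => h.2 i hi (smul_left_cancel g he)⟩

/-- prolong a path by one vertex -/
def app (p : ℕ → V) (k : ℕ) (w : V) : ℕ → V := fun i => if i ≤ k then p i else w

theorem app_le {p : ℕ → V} {k : ℕ} {w : V} {i : ℕ} (h : i ≤ k) : app p k w i = p i := if_pos h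

theorem app_succ (p : ℕ → V) (k : ℕ) (w : V) : app p k w (k + 1) = w := if_neg (by omega)

theorem isPath_app {adj : V → V → Prop} {p : ℕ → V} {k : ℕ} {w : V} (h : IsPath adj (k + 1) p) (h1 : adj (p (k + 1)) w)
    (h2 : w ≠ p k) : IsPath adj (k + 2) (app p (k + 1) w) := by
  constructor
  · intro i hi
    rcases Nat.lt_or_ge i (k + 1) with h3 | h3
    · rw [app_le (by omega), app_le (by omega)]
      exact h.1 i h3
    · obtain rfl : i = k + 1 := by omega
      rw [app_le le_rfl, app_succ]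
      exact h1
  · intro i hi
    rcases Nat.lt_or_ge (i + 1) (k + 1) with h3 | h3
    · rw [app_le (by omega), app_le (by omega)]
      exact h.2 i h3
    · obtain rfl : i = k := by omega
      rw [app_succ, app_le (by omega)]
      exact h2

variable {P} in
/-- a path of length `1 + l` from a vertex and a path -/
theorem isPath_cons {l : ℕ} {c : ℕ → V} {a : V} (h : IsPath P.adj (l + 1) c) (h1 : P.adj a (c 0)) (h2 : a ≠ c 1) :
    IsPath P.adj (l + 2) (fun i => if i = 0 then a else c (i - 1)) := by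
  constructor
  · intro i hi
    rcases Nat.eq_zero_or_pos i with rfl | h3
    · simpa using h1
    · simp only [if_neg (show i ≠ 0 by omega), if_neg (show i + 1 ≠ 0 by omega)]
      have := h.1 (i - 1) (by omega)
      rwa [show i - 1 + 1 = i + 1 - 1 by omega] at this
  · intro i hi
    rcases Nat.eq_zero_or_pos i with rfl | h3
    · simpa using h2.symm
    · simp only [if_neg (show i ≠ 0 by omega), if_neg (show i + 2 ≠ 0 by omega)]
      have := h.2 (i - 1) (by omega)
      rwa [show i - 1 + 2 = i + 2 - 1 by omega] at this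

/-- types along a path -/
theorem tp_path {k : ℕ} {p : ℕ → V} (h : IsPath P.adj k p) : ∀ i, i ≤ k → P.tp (p i) = (if Even i then P.tp (p 0) else !P.tp (p 0)) := by
  intro i
  induction i with
  | zero => intro _; simp
  | succ i ih =>
    intro hi
    rw [P.tp_adj (h.1 i (by omega)), ih (by omega)]
    by_cases he : Even i
    · have : ¬ Even (i + 1) := by rw [Nat.even_add_one]; exact not_not.2 he
      rw [if_pos he, if_neg this]
    · have : Even (i + 1) := by rw [Nat.even_add_one]; exact he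
      rw [if_neg he, if_pos this, Bool.not_not]

/-- paths with the same end vertices of length at most `n - 1` resp. with total length less than `2 n` -/
theorem fix_path {k : ℕ} {p : ℕ → V} (h : IsPath P.adj k p) (hk : k < P.n) {g : G} (h0 : g • p 0 = p 0)
    (h1 : g • p k = p k) : ∀ i, i ≤ k → g • p i = p i := by
  intro i hi
  exact (P.path_unique (isPath_smul h g) h h0 h1 (by omega)).2 i hi

/-! ### shifting -/

/-- the other half of the apartment -/
theorem exists_back {p : ℕ → V} (h : IsPath P.adj (P.n + 1) p) : ∃ c : ℕ → V, IsPath P.adj (P.n - 1) c ∧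
    c 0 = p (P.n + 1) ∧ c (P.n - 1) = p 0 := by
  have hn := n_pos P
  have he := n_even P
  obtain ⟨k, hk, c, hc, h0, h1⟩ := P.exists_path (p (P.n + 1)) (p 0)
  have h2 : k = P.n - 1 := by
    -- parity
    have h3 := tp_path P h (P.n + 1) le_rfl
    have h4 := tp_path P hc k le_rfl
    rw [h0, h1] at h4
    have h5 : ¬ Even (P.n + 1) := by
      rw [Nat.even_add_one, not_not]
      exact ⟨P.n / 2, by omega⟩
    rw [if_neg h5] at h3
    have h6 : ¬ Even k := by
      intro h7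
      rw [if_pos h7, h3] at h4
      cases h8 : P.tp (p 0) <;> rw [h8] at h4 <;> exact absurd h4 (by decide)
    have h7 : k ≠ P.n := by
      rintro rfl
      exact h6 ⟨P.n / 2, by omega⟩
    by_contra hne
    have hlt : k + (P.n + 1) < 2 * P.n := by
      have : k ≠ P.n - 2 := by
        rintro rfl
        exact h6 ⟨P.n / 2 - 1, by omega⟩
      omega
    have h8 := (P.path_unique hc (isPath_rev h) (by simpa using h0) (by simpa using h1) hlt).1
    omega
  subst h2
  exact ⟨c, hc, h0, h1⟩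

/-- **shifting a path of length `n + 1` in its apartment** -/
theorem exists_shift {p : ℕ → V} (h : IsPath P.adj (P.n + 1) p) : ∃ p' : ℕ → V, IsPath P.adj (P.n + 1) p' ∧
    (∀ j, j ≤ P.n → p' j = p (j + 1)) ∧ P.H p' = P.H p := by
  have hn := n_pos P
  obtain ⟨c, hc, h0, h1⟩ := exists_back P h
  obtain ⟨N, hN⟩ : ∃ N, P.n = N + 3 := ⟨P.n - 3, by omega⟩
  have e1 : P.n - 1 = N + 2 := by omega
  rw [e1] at hc h1
  -- `c 1 ≠ p n`
  have hc1 : c 1 ≠ p P.n := by
    intro he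
    have h2 : IsPath P.adj (N + 1) (fun i => c (i + 1)) := IsPath.shift hc
    have h3 := (P.path_unique h2 (isPath_rev (IsPath.mono h (by omega : P.n ≤ P.n + 1))) (by simpa using he) (by simpa using h1) (by omega)).1
    omega
  have hcN : c (N + 1) ≠ p 1 := by
    intro he
    have h2 : IsPath P.adj (N + 1) c := ⟨fun i hi => hc.1 i (by omega), fun i hi => hc.2 i (by omega)⟩
    have h3 : IsPath P.adj P.n (fun i => p (i + 1)) := IsPath.shift h
    have h4 := (P.path_unique h2 (isPath_rev h3) (by simpa using h0) (by simpa using he) (by omega)).1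
    omega
  have hs : IsPath P.adj P.n (fun i => p (i + 1)) := IsPath.shift h
  have hp' : IsPath P.adj (P.n + 1) (app (fun i => p (i + 1)) P.n (c 1)) := by
    obtain ⟨k, hk⟩ : ∃ k, P.n = k + 1 := ⟨P.n - 1, by omega⟩
    rw [hk] at hs ⊢
    refine isPath_app hs ?_ ?_
    · have := hc.1 0 (by omega)
      rw [h0, hk] at this
      exact this
    · rw [← hk]
      simpa [hk] using hc1
  refine ⟨_, hp', fun j hj => app_le hj, le_antisymm ?_ ?_⟩
  · intro g hg
    have hg' := (mem_PS P).1 hg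
    have hf : ∀ j, j ≤ P.n → g • p (j + 1) = p (j + 1) := by
      intro j hj
      have := hg' j (by omega)
      rwa [app_le hj] at this
    have hf1 : g • c 1 = c 1 := by
      have := hg' (P.n + 1) le_rfl
      rwa [app_succ] at this
    have hd : IsPath P.adj (N + 1) (fun i => c (N + 2 - i)) := IsPath.mono (isPath_rev hc) (by omega)
    have hd2 := isPath_cons (a := p 1) hd (by simpa [h1] using P.symm (h.1 0 (by omega))) (by simpa using hcN.symm)
    have h5 := fix_path P hd2 (by omega) (g := g) (by simpa using hf 0 (by omega)) (by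
      simp only [if_neg (show N + 2 ≠ 0 by omega)]
      rw [show N + 2 - (N + 2 - 1) = 1 by omega]
      exact hf1) 1 (by omega)
    have h6 : g • p 0 = p 0 := by
      simpa [h1] using h5
    refine (mem_PS P).2 fun i hi => ?_
    rcases Nat.eq_zero_or_pos i with rfl | h7
    · exact h6
    · have := hf (i - 1) (by omega)
      rwa [show i - 1 + 1 = i by omega] at this
  · intro g hg
    have hg' := (mem_PS P).1 hg
    have h5 := fix_path P hc (by omega) (g := g) (by rw [h0]; exact hg' _ le_rfl) (by rw [h1]; exact hg' _ (by omega)) 1 (by omega)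
    refine (mem_PS P).2 fun i hi => ?_
    rcases Nat.lt_or_ge i (P.n + 1) with h7 | h7
    · rw [app_le (by omega)]
      exact hg' _ (by omega)
    · obtain rfl : i = P.n + 1 := by omega
      rw [app_succ]
      exact h5

end Cfsg.Agent.H372.Tits
end

-- part: H372/Tits/Grp
section
set_option linter.all false
open scoped Cfsg.Agent.FastGrp

/-!
# S3414, task G3: orbit counting, `r`-parts of intersections with conjugates (helper372)
-/

set_option autoImplicit false

namespace Cfsg.Agent.H372.Tits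

open MulAction

universe u v

variable {G : Type u} [Group G] {V : Type v} [MulAction G V]

theorem card_subgroupOf' {H K : Subgroup G} : Nat.card ↥(H.subgroupOf K) = Nat.card ↥(H ⊓ K) := by
  rw [← Subgroup.inf_subgroupOf_right]
  exact Nat.card_congr (Subgroup.subgroupOfEquivOfLe inf_le_right).toEquiv

/-- orbit counting for subgroups -/
theorem orb_card (X : Subgroup G) (a : V) :
    Nat.card ↥X = {b : V | ∃ g ∈ X, g • a = b}.ncard * Nat.card ↥(X ⊓ stabilizer G a) := by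
  have h1 := (stabilizer ↥X a).card_mul_index
  rw [index_stabilizer] at h1
  have h2 : stabilizer ↥X a = (stabilizer G a).subgroupOf X := by
    ext g
    rfl
  have h3 : orbit ↥X a = {b : V | ∃ g ∈ X, g • a = b} := by
    ext b
    constructor
    · rintro ⟨g, hg⟩
      exact ⟨g, g.2, hg⟩
    · rintro ⟨g, hg, h⟩
      exact ⟨⟨g, hg⟩, h⟩
  rw [h2, card_subgroupOf', h3, inf_comm] at h1
  rw [← h1, mul_comm]

/-- `[N : N ∩ Y]` divides `[G : Y]` for a normal subgroup `N` -/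
theorem relIndex_dvd_index' [Finite G] (N Y : Subgroup G) [N.Normal] : Y.relIndex N ∣ Y.index := by
  obtain ⟨c, hc⟩ := Subgroup.relIndex_dvd_index_of_normal N Y
  have h1 : Nat.card ↥(Y ⊓ N) * Y.relIndex N = Nat.card ↥N := by
    have := (Y.subgroupOf N).card_mul_index
    rwa [card_subgroupOf'] at this
  have h2 : Nat.card ↥(Y ⊓ N) * N.relIndex Y = Nat.card ↥Y := by
    have := (N.subgroupOf Y).card_mul_index
    rwa [card_subgroupOf', inf_comm] at this
  have h3 := N.card_mul_index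
  have h4 := Y.card_mul_index
  refine ⟨c, ?_⟩
  have h5 : 0 < Nat.card ↥Y := Nat.card_pos
  apply Nat.eq_of_mul_eq_mul_left h5
  rw [h4, ← h3, hc, ← h1, ← h2]
  ring

/-- relative version -/
theorem relIndex_dvd_relIndex [Finite G] {N X Y : Subgroup G} (hN : N ≤ X) (hn : (N.subgroupOf X).Normal) :
    Y.relIndex N ∣ Y.relIndex X := by
  have h := relIndex_dvd_index' (N.subgroupOf X) (Y.subgroupOf X)
  rwa [Subgroup.relIndex_subgroupOf hN] at h

/-- the `r`-part of `|E|` is at most the `r`-part of the index of `H` times that of `|E ∩ H ^ g|`, for some `g` -/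
theorem exists_conj [Finite G] {r : ℕ} (hr : r.Prime) (E H : Subgroup G) : ∃ g : G,
    (Nat.card ↥E).factorization r ≤ H.index.factorization r +
      (Nat.card ↥(E ⊓ H.map (MulAut.conj g).toMonoidHom)).factorization r := by
  have : Fact r.Prime := ⟨hr⟩
  obtain ⟨R0⟩ : Nonempty (Sylow r ↥E) := inferInstance
  obtain ⟨Q0⟩ : Nonempty (Sylow r ↥H) := inferInstance
  set R : Subgroup G := (R0 : Subgroup ↥E).map E.subtype with hR
  set Q : Subgroup G := (Q0 : Subgroup ↥H).map H.subtype with hQ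
  have hRg : IsPGroup r ↥R := R0.2.map _
  have hQg : IsPGroup r ↥Q := Q0.2.map _
  have hRc : Nat.card ↥R = r ^ (Nat.card ↥E).factorization r := by
    rw [hR, Nat.card_congr ((R0 : Subgroup ↥E).equivMapOfInjective _ E.subtype_injective).toEquiv.symm]
    exact R0.card_eq_multiplicity
  have hQc : Nat.card ↥Q = r ^ (Nat.card ↥H).factorization r := by
    rw [hQ, Nat.card_congr ((Q0 : Subgroup ↥H).equivMapOfInjective _ H.subtype_injective).toEquiv.symm]
    exact Q0.card_eq_multiplicity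
  obtain ⟨P1, hP1⟩ := hRg.exists_le_sylow
  obtain ⟨P2, hP2⟩ := hQg.exists_le_sylow
  obtain ⟨g, hg⟩ := MulAction.exists_smul_eq G P2 P1
  refine ⟨g, ?_⟩
  have hQ' : Q.map (MulAut.conj g).toMonoidHom ≤ (P1 : Subgroup G) := by
    rw [← hg]
    rintro _ ⟨x, hx, rfl⟩
    rw [Sylow.coe_subgroup_smul]
    exact Subgroup.smul_mem_pointwise_smul x (MulAut.conj g) _ (hP2 hx)
  set Qg := Q.map (MulAut.conj g).toMonoidHom with hQgd
  have hQgc : Nat.card ↥Qg = r ^ (Nat.card ↥H).factorization r := by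
    rw [hQgd, ← hQc]
    exact Nat.card_congr (Q.equivMapOfInjective _ (MulAut.conj g).injective).toEquiv.symm
  have hPc : Nat.card ↥(P1 : Subgroup G) = r ^ (Nat.card G).factorization r := P1.card_eq_multiplicity
  -- the product bound
  have h1 : (R ⊓ Qg).relIndex (P1 : Subgroup G) ≤ R.relIndex (P1 : Subgroup G) * Qg.relIndex (P1 : Subgroup G) :=
    Subgroup.relIndex_inf_le
  have h2 : Nat.card ↥(R ⊓ Qg) * (R ⊓ Qg).relIndex (P1 : Subgroup G) = Nat.card ↥(P1 : Subgroup G) := by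
    have := ((R ⊓ Qg).subgroupOf (P1 : Subgroup G)).card_mul_index
    rwa [card_subgroupOf', inf_eq_left.2 (inf_le_left.trans hP1)] at this
  have h3 : Nat.card ↥R * R.relIndex (P1 : Subgroup G) = Nat.card ↥(P1 : Subgroup G) := by
    have := (R.subgroupOf (P1 : Subgroup G)).card_mul_index
    rwa [card_subgroupOf', inf_eq_left.2 hP1] at this
  have h4 : Nat.card ↥Qg * Qg.relIndex (P1 : Subgroup G) = Nat.card ↥(P1 : Subgroup G) := by
    have := (Qg.subgroupOf (P1 : Subgroup G)).card_mul_index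
    rwa [card_subgroupOf', inf_eq_left.2 hQ'] at this
  have h5 : Nat.card ↥R * Nat.card ↥Qg ≤ Nat.card ↥(P1 : Subgroup G) * Nat.card ↥(R ⊓ Qg) := by
    have hp : 0 < (R ⊓ Qg).relIndex (P1 : Subgroup G) := Nat.pos_of_ne_zero (Subgroup.index_ne_zero_of_finite)
    by_contra hlt
    push Not at hlt
    have h6 : Nat.card ↥(P1 : Subgroup G) * Nat.card ↥(R ⊓ Qg) * (R.relIndex (P1 : Subgroup G) * Qg.relIndex (P1 : Subgroup G)) <
        Nat.card ↥R * Nat.card ↥Qg * (R.relIndex (P1 : Subgroup G) * Qg.relIndex (P1 : Subgroup G)) := by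
      apply Nat.mul_lt_mul_of_pos_right hlt
      exact lt_of_lt_of_le hp h1
    have h7 : Nat.card ↥R * Nat.card ↥Qg * (R.relIndex (P1 : Subgroup G) * Qg.relIndex (P1 : Subgroup G)) =
        Nat.card ↥(P1 : Subgroup G) * Nat.card ↥(P1 : Subgroup G) := by
      calc _ = (Nat.card ↥R * R.relIndex (P1 : Subgroup G)) * (Nat.card ↥Qg * Qg.relIndex (P1 : Subgroup G)) := by ring
        _ = _ := by rw [h3, h4]
    have h8 : Nat.card ↥(P1 : Subgroup G) * Nat.card ↥(R ⊓ Qg) * (R ⊓ Qg).relIndex (P1 : Subgroup G) =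
        Nat.card ↥(P1 : Subgroup G) * Nat.card ↥(P1 : Subgroup G) := by rw [mul_assoc, h2]
    have h9 : Nat.card ↥(P1 : Subgroup G) * Nat.card ↥(R ⊓ Qg) * (R ⊓ Qg).relIndex (P1 : Subgroup G) ≤
        Nat.card ↥(P1 : Subgroup G) * Nat.card ↥(R ⊓ Qg) * (R.relIndex (P1 : Subgroup G) * Qg.relIndex (P1 : Subgroup G)) :=
      Nat.mul_le_mul_left _ h1
    omega
  -- powers of `r`
  obtain ⟨d, hd⟩ := (IsPGroup.iff_card).1 (hRg.to_le (inf_le_left : R ⊓ Qg ≤ R))
  rw [hRc, hQgc, hPc, hd, ← pow_add, ← pow_add] at h5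
  have h6 := (Nat.pow_le_pow_iff_right hr.one_lt).1 h5
  have h7 : (Nat.card G).factorization r = (Nat.card ↥H).factorization r + H.index.factorization r := by
    rw [← H.card_mul_index, Nat.factorization_mul Nat.card_pos.ne' Subgroup.index_ne_zero_of_finite, Finsupp.add_apply]
  have h8 : d ≤ (Nat.card ↥(E ⊓ H.map (MulAut.conj g).toMonoidHom)).factorization r := by
    have hle : R ⊓ Qg ≤ E ⊓ H.map (MulAut.conj g).toMonoidHom := by
      refine inf_le_inf ?_ ?_
      · rw [hR]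
        rintro _ ⟨x, _, rfl⟩
        exact x.2
      · rw [hQgd]
        apply Subgroup.map_mono
        rw [hQ]
        rintro _ ⟨x, _, rfl⟩
        exact x.2
    have h9 := Subgroup.card_dvd_of_le hle
    rw [hd] at h9
    exact (hr.pow_dvd_iff_le_factorization Nat.card_pos.ne').1 h9
  omega

/-- if all intersections of `E` with conjugates of `H` are trivial then `|E|` divides the index of `H` -/
theorem card_dvd_of_conj [Finite G] (E H : Subgroup G) (h : ∀ g : G, E ⊓ H.map (MulAut.conj g).toMonoidHom = ⊥) :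
    Nat.card ↥E ∣ H.index := by
  rw [← Nat.factorization_prime_le_iff_dvd Nat.card_pos.ne' Subgroup.index_ne_zero_of_finite]
  intro r hr
  obtain ⟨g, hg⟩ := exists_conj hr E H
  rw [h g, Subgroup.card_bot, Nat.factorization_one] at hg
  simpa using hg

end Cfsg.Agent.H372.Tits
end

-- part: H372/Tits/Cnt
section
set_option linter.all false
open scoped Cfsg.Agent.FastGrp

/-!
# S3414, task G3: orders of the path stabilizers (helper372)
-/

set_option autoImplicit false

namespace Cfsg.Agent.H372.Tits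

open Cfsg.Agent.H873.Tits MulAction

universe u v

variable {G : Type u} [Group G] {V : Type v} [MulAction G V] (P : Pol G V)

/-! ### shifting to any place -/

theorem exists_shift_add {p : ℕ → V} (h : IsPath P.adj (P.n + 1) p) (k : ℕ) : ∃ p' : ℕ → V, IsPath P.adj (P.n + 1) p' ∧
    (∀ j, j + k ≤ P.n + 1 → p' j = p (j + k)) ∧ P.H p' = P.H p := by
  induction k with
  | zero => exact ⟨p, h, fun j _ => rfl, rfl⟩
  | succ k ih =>
    obtain ⟨p1, h1, h2, h3⟩ := ih
    obtain ⟨p2, h4, h5, h6⟩ := exists_shift P h1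
    refine ⟨p2, h4, fun j hj => ?_, h6.trans h3⟩
    rw [h5 j (by omega), h2 (j + 1) (by omega)]
    congr 1
    omega

theorem H_rev (p : ℕ → V) : P.H (fun i => p (P.n + 1 - i)) = P.H p := by
  ext g
  constructor
  · intro h
    refine (mem_PS P).2 fun i hi => ?_
    have := (mem_PS P).1 h (P.n + 1 - i) (by omega)
    simp only [show P.n + 1 - (P.n + 1 - i) = i by omega] at this
    exact this
  · intro h
    exact (mem_PS P).2 fun i hi => (mem_PS P).1 h _ (by omega)

theorem exists_shift_back {p : ℕ → V} (h : IsPath P.adj (P.n + 1) p) : ∃ p' : ℕ → V, IsPath P.adj (P.n + 1) p' ∧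
    (∀ j, j ≤ P.n → p' (j + 1) = p j) ∧ P.H p' = P.H p := by
  obtain ⟨r, h1, h2, h3⟩ := exists_shift P (isPath_rev h)
  refine ⟨_, isPath_rev h1, fun j hj => ?_, ?_⟩
  · simp only [show P.n + 1 - (j + 1) = P.n - j by omega]
    rw [h2 _ (by omega)]
    simp only [show P.n + 1 - (P.n - j + 1) = j by omega]
  · rw [H_rev, h3, H_rev]

/-- the vertices at the places `i, i + 1, i + 2` can be moved to the places `1, 2, 3` -/
theorem exists_shift3 {p : ℕ → V} {i : ℕ} (h : IsPath P.adj (P.n + 1) p) (hi : i + 2 ≤ P.n + 1) :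
    ∃ p' : ℕ → V, IsPath P.adj (P.n + 1) p' ∧ p' 1 = p i ∧ p' 2 = p (i + 1) ∧ p' 3 = p (i + 2) ∧ P.H p' = P.H p := by
  have hn := n_pos P
  obtain ⟨p1, h1, h2, h3⟩ := exists_shift_add P h i
  obtain ⟨p2, h4, h5, h6⟩ := exists_shift_back P h1
  refine ⟨p2, h4, ?_, ?_, ?_, h6.trans h3⟩
  · rw [h5 0 (by omega), h2 0 (by omega), zero_add]
  · rw [h5 1 (by omega), h2 1 (by omega), add_comm 1 i]
  · rw [h5 2 (by omega), h2 2 (by omega), add_comm 2 i]

/-! ### extending paths -/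

theorem card_nb' (v : V) : {w : V | P.adj v w}.ncard = P.q (P.tp v) + 1 := P.card_nb v

theorem exists_nb_ne (v a : V) : ∃ w, P.adj v w ∧ w ≠ a := by
  by_contra h
  push Not at h
  have h1 : {w : V | P.adj v w} ⊆ {a} := fun w hw => h w hw
  have h2 := Set.ncard_le_ncard h1 (Set.finite_singleton a)
  rw [card_nb', Set.ncard_singleton] at h2
  have := P.two_le (P.tp v)
  omega

theorem exists_ext {k : ℕ} {p : ℕ → V} (h : IsPath P.adj k p) (l : ℕ) : k ≤ l →
    ∃ p' : ℕ → V, IsPath P.adj l p' ∧ ∀ i, i ≤ k → p' i = p i := by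
  induction l with
  | zero =>
    intro hk
    obtain rfl : k = 0 := by omega
    exact ⟨p, h, fun _ _ => rfl⟩
  | succ l ih =>
    intro hk
    rcases Nat.lt_or_ge l k with h1 | h1
    · obtain rfl : k = l + 1 := by omega
      exact ⟨p, h, fun _ _ => rfl⟩
    · obtain ⟨p1, h2, h3⟩ := ih h1
      rcases Nat.eq_zero_or_pos l with rfl | hl
      · obtain ⟨w, hw, -⟩ := exists_nb_ne P (p1 0) (p1 0)
        refine ⟨app p1 0 w, ⟨fun i hi => ?_, fun i hi => by omega⟩, fun i hi => ?_⟩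
        · obtain rfl : i = 0 := by omega
          rw [app_le le_rfl, app_succ]
          exact hw
        · rw [app_le (by omega), h3 i hi]
      · obtain ⟨m, rfl⟩ : ∃ m, l = m + 1 := ⟨l - 1, by omega⟩
        obtain ⟨w, hw, hw'⟩ := exists_nb_ne P (p1 (m + 1)) (p1 m)
        refine ⟨_, isPath_app h2 hw hw', fun i hi => ?_⟩
        rw [app_le (by omega), h3 i hi]

/-! ### orbits -/

/-- one step -/
theorem card_step {k : ℕ} {p : ℕ → V} (hk : k + 2 ≤ P.n + 1) (h : IsPath P.adj (k + 2) p) :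
    Nat.card ↥(P.PS (k + 1) p) = P.q (P.tp (p (k + 1))) * Nat.card ↥(P.PS (k + 2) p) := by
  rw [orb_card (P.PS (k + 1) p) (p (k + 2)), ← PS_succ]
  congr 1
  have h1 : {b : V | ∃ g ∈ P.PS (k + 1) p, g • p (k + 2) = b} = {w : V | P.adj (p (k + 1)) w} \ {p k} := by
    ext b
    constructor
    · rintro ⟨g, hg, rfl⟩
      have h2 := (mem_PS P).1 hg (k + 1) le_rfl
      have h3 := (mem_PS P).1 hg k (by omega)
      refine ⟨?_, ?_⟩
      · have := P.smul_adj g (h.1 (k + 1) (by omega))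
        rwa [h2] at this
      · intro h4
        rw [Set.mem_singleton_iff] at h4
        apply h.2 k (by omega)
        apply smul_left_cancel g
        rw [h4, h3]
    · rintro ⟨h2, h3⟩
      have h4 : IsPath P.adj (k + 2) (app p (k + 1) b) := isPath_app (IsPath.mono h (by omega)) h2 h3
      obtain ⟨g, hg⟩ := P.trans (by omega) h h4 (by rw [app_le (by omega)])
      refine ⟨g, (mem_PS P).2 fun i hi => ?_, ?_⟩
      · rw [hg i (by omega), app_le hi]
      · rw [hg (k + 2) le_rfl, app_succ]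
  rw [h1, Set.ncard_sdiff_singleton_of_mem (show p k ∈ {w : V | P.adj (p (k + 1)) w} from P.symm (h.1 k (by omega))), card_nb']
  rfl

/-- the first step -/
theorem card_step0 {p : ℕ → V} (h : IsPath P.adj 1 p) :
    Nat.card ↥(P.S (p 0)) = (P.q (P.tp (p 0)) + 1) * Nat.card ↥(P.PS 1 p) := by
  have hn := n_pos P
  rw [← PS_zero P p, orb_card (P.PS 0 p) (p 1), ← PS_succ]
  congr 1
  have h1 : {b : V | ∃ g ∈ P.PS 0 p, g • p 1 = b} = {w : V | P.adj (p 0) w} := by
    ext b
    constructor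
    · rintro ⟨g, hg, rfl⟩
      have h2 := (mem_PS P).1 hg 0 le_rfl
      have := P.smul_adj g (h.1 0 (by omega))
      rwa [h2] at this
    · intro h2
      have h4 : IsPath P.adj 1 (app p 0 b) := ⟨fun i hi => by
        obtain rfl : i = 0 := by omega
        rw [app_le le_rfl, app_succ]
        exact h2, fun i hi => by omega⟩
      obtain ⟨g, hg⟩ := P.trans (by omega) h h4 (by rw [app_le (by omega)])
      refine ⟨g, (mem_PS P).2 fun i hi => ?_, ?_⟩
      · rw [hg i (by omega), app_le hi]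
      · rw [hg 1 le_rfl, app_succ]
  rw [h1, card_nb']

/-- several steps -/
theorem card_steps {k : ℕ} {p : ℕ → V} (h : IsPath P.adj (P.n + 1) p) (j : ℕ) : k + 1 + 2 * j ≤ P.n + 1 →
    Nat.card ↥(P.PS (k + 1) p) = (P.q (P.tp (p (k + 1))) * P.q (!P.tp (p (k + 1)))) ^ j * Nat.card ↥(P.PS (k + 1 + 2 * j) p) := by
  induction j with
  | zero =>
    intro _
    simp
  | succ j ih =>
    intro hj
    have h1 := card_step P (k := k + 2 * j) (p := p) (by omega) (IsPath.mono h (by omega))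
    have h2 := card_step P (k := k + 2 * j + 1) (p := p) (by omega) (IsPath.mono h (by omega))
    have e1 : k + 2 * j + 1 = k + 1 + 2 * j := by ring
    have h3 : P.tp (p (k + 2 * j + 1)) = P.tp (p (k + 1)) := by
      have a1 := tp_path P h (k + 2 * j + 1) (by omega)
      have a2 := tp_path P h (k + 1) (by omega)
      rw [a1, a2]
      have : Even (k + 2 * j + 1) ↔ Even (k + 1) := by
        constructor <;> rintro ⟨x, hx⟩
        · exact ⟨x - j, by omega⟩
        · exact ⟨x + j, by omega⟩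
      by_cases he : Even (k + 1)
      · rw [if_pos he, if_pos (this.2 he)]
      · rw [if_neg he, if_neg (fun h => he (this.1 h))]
    have h4 : P.tp (p (k + 2 * j + 1 + 1)) = !P.tp (p (k + 1)) := by
      rw [P.tp_adj (h.1 (k + 2 * j + 1) (by omega)), h3]
    rw [ih (by omega), ← e1, h1, h3]
    rw [show k + 2 * j + 2 = k + 2 * j + 1 + 1 by ring, h2, h4, pow_succ]
    rw [show k + 2 * j + 1 + 2 = k + 1 + 2 * (j + 1) by ring]
    ring

end Cfsg.Agent.H372.Tits
end

-- part: H372/Tits/Cnt2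
section
set_option linter.all false
open scoped Cfsg.Agent.FastGrp

/-!
# S3414, task G3: opposite vertices, the counts 1 and 2 (helper372)
-/

set_option autoImplicit false

namespace Cfsg.Agent.H372.Tits

open Cfsg.Agent.H873.Tits MulAction

universe u v

variable {G : Type u} [Group G] {V : Type v} [MulAction G V] (P : Pol G V)

theorem tp_even {k : ℕ} {p : ℕ → V} (h : IsPath P.adj k p) {i j : ℕ} (hi : i + 2 * j ≤ k) : P.tp (p (i + 2 * j)) = P.tp (p i) := by
  rw [tp_path P h _ hi, tp_path P h i (by omega)]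
  have : Even (i + 2 * j) ↔ Even i := by
    constructor <;> rintro ⟨x, hx⟩
    · exact ⟨x - j, by omega⟩
    · exact ⟨x + j, by omega⟩
  by_cases he : Even i
  · rw [if_pos he, if_pos (this.2 he)]
  · rw [if_neg he, if_neg (fun h => he (this.1 h))]

/-- the order of `PS 1` -/
theorem card_PS1 {p : ℕ → V} (h : IsPath P.adj (P.n + 1) p) : Nat.card ↥(P.PS 1 p) =
    P.q (P.tp (p 0)) ^ (P.n / 2 - 1) * P.q (!P.tp (p 0)) ^ (P.n / 2) * Nat.card ↥(P.PS P.n p) := by
  have hn := n_pos P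
  obtain ⟨m, hm⟩ : ∃ m, P.n = 2 * m + 4 := ⟨P.n / 2 - 2, by have := n_even P; omega⟩
  have e1 : P.n / 2 = m + 2 := by omega
  have h1 := card_steps P (k := 0) h (m + 1) (by omega)
  have h2 := card_step P (k := 2 * m + 2) (p := p) (by omega) (IsPath.mono h (by omega))
  have h3 : P.tp (p (0 + 1)) = !P.tp (p 0) := P.tp_adj (h.1 0 (by omega))
  have h4 : P.tp (p (2 * m + 2 + 1)) = !P.tp (p 0) := by
    rw [← h3, ← tp_even P h (i := 0 + 1) (j := m + 1) (by omega)]
    congr 2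
    ring
  rw [zero_add] at h1
  rw [h1, show 1 + 2 * (m + 1) = 2 * m + 2 + 1 by ring, h2, h4, e1, show P.n = 2 * m + 2 + 2 by omega]
  rw [zero_add] at h3
  rw [h3, Bool.not_not, show m + 2 - 1 = m + 1 by omega]
  ring

theorem card_PSn {p : ℕ → V} (h : IsPath P.adj (P.n + 1) p) : Nat.card ↥(P.PS P.n p) =
    P.q (P.tp (p 0)) * Nat.card ↥(P.H p) := by
  have hn := n_pos P
  obtain ⟨m, hm⟩ : ∃ m, P.n = 2 * m + 4 := ⟨P.n / 2 - 2, by have := n_even P; omega⟩
  have h2 := card_step P (k := 2 * m + 3) (p := p) (by omega) (IsPath.mono h (by omega))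
  have h4 : P.tp (p (2 * m + 3 + 1)) = P.tp (p 0) := by
    rw [← tp_even P h (i := 0) (j := m + 2) (by omega)]
    congr 2
    ring
  rw [Pol.H, hm, show 2 * m + 4 = 2 * m + 3 + 1 by ring, h2, h4]

theorem card_PS2 {p : ℕ → V} (h : IsPath P.adj (P.n + 1) p) : Nat.card ↥(P.PS 2 p) =
    P.q (P.tp (p 1)) ^ (P.n / 2 - 1) * P.q (!P.tp (p 1)) ^ (P.n / 2) * Nat.card ↥(P.H p) := by
  have hn := n_pos P
  have h0 := card_PSn P h
  obtain ⟨m, hm⟩ : ∃ m, P.n = 2 * m + 4 := ⟨P.n / 2 - 2, by have := n_even P; omega⟩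
  have e1 : P.n / 2 = m + 2 := by omega
  have h1 := card_steps P (k := 1) h (m + 1) (by omega)
  have h3 : P.tp (p 1) = !P.tp (p 0) := P.tp_adj (h.1 0 (by omega))
  have h4 : P.tp (p (1 + 1)) = P.tp (p 0) := tp_even P h (i := 0) (j := 1) (by omega)
  rw [show 1 + 1 + 2 * (m + 1) = P.n by omega, h0, h4] at h1
  rw [show 1 + 1 = 2 by rfl] at h1
  rw [h1, h3, Bool.not_not, e1, show m + 2 - 1 = m + 1 by omega]
  ring

theorem card_PS4 {p : ℕ → V} (h : IsPath P.adj (P.n + 1) p) : Nat.card ↥(P.PS 4 p) =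
    P.q (P.tp (p 2)) ^ (P.n / 2 - 1) * P.q (!P.tp (p 2)) ^ (P.n / 2 - 2) * Nat.card ↥(P.H p) := by
  have hn := n_pos P
  have h0 := card_PSn P h
  obtain ⟨m, hm⟩ : ∃ m, P.n = 2 * m + 4 := ⟨P.n / 2 - 2, by have := n_even P; omega⟩
  have e1 : P.n / 2 = m + 2 := by omega
  have h1 := card_steps P (k := 3) h m (by omega)
  have h4 : P.tp (p (3 + 1)) = P.tp (p 0) := tp_even P h (i := 0) (j := 2) (by omega)
  have h5 : P.tp (p 2) = P.tp (p 0) := tp_even P h (i := 0) (j := 1) (by omega)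
  rw [show 3 + 1 + 2 * m = P.n by omega, h0, h4] at h1
  rw [show 3 + 1 = 4 by rfl] at h1
  rw [h1, h5, e1, show m + 2 - 1 = m + 1 by omega, show m + 2 - 2 = m by omega]
  ring

/-! ### opposite vertices -/

theorem exists_opp_path {v v' w : V} (h : P.Opp v v') (hw : P.adj v w) :
    ∃ p : ℕ → V, IsPath P.adj P.n p ∧ p 0 = v ∧ p 1 = w ∧ p P.n = v' := by
  have hn := n_pos P
  have he := n_even P
  obtain ⟨d, hd, d0, d1⟩ := h
  obtain ⟨k, hk, c, hc, c0, c1⟩ := P.exists_path w v'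
  have ht : P.tp v' = P.tp v := by
    have := tp_even P hd (i := 0) (j := P.n / 2) (by omega)
    rwa [zero_add, ← he, d1, d0] at this
  have hk' : k ≠ P.n := by
    rintro rfl
    have := tp_even P hc (i := 0) (j := P.n / 2) (by omega)
    rw [zero_add, ← he, c1, c0, P.tp_adj hw, ht] at this
    cases hb : P.tp v <;> rw [hb] at this <;> exact absurd this (by decide)
  rcases Nat.eq_zero_or_pos k with rfl | hk0
  · -- `w = v'` : impossible
    exfalso
    have h1 : IsPath P.adj 1 (app (fun _ => v) 0 w) := ⟨fun i hi => by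
        obtain rfl : i = 0 := by omega
        rw [app_le le_rfl, app_succ]
        exact hw, fun i hi => by omega⟩
    have h2 := (P.path_unique h1 hd (by rw [app_le le_rfl, d0]) (by rw [app_succ, d1, ← c1, c0]) (by omega)).1
    omega
  obtain ⟨l, rfl⟩ : ∃ l, k = l + 1 := ⟨k - 1, by omega⟩
  by_cases h1 : c 1 = v
  · exfalso
    have h2 : IsPath P.adj l (fun i => c (i + 1)) := IsPath.shift hc
    have h3 := (P.path_unique h2 hd (by simpa [d0] using h1) (by simpa [d1] using c1) (by omega)).1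
    omega
  · have h2 := isPath_cons (a := v) hc (by rwa [c0]) (Ne.symm h1)
    have h3 : l + 2 = P.n := by
      by_contra hne
      have := (P.path_unique h2 hd (by simp [d0]) (by simpa [d1] using c1) (by omega)).1
      omega
    rw [h3] at h2
    refine ⟨_, h2, by simp, by simpa using c0, ?_⟩
    simp only [if_neg (show P.n ≠ 0 by omega)]
    rw [← h3]
    simpa using c1

theorem fix_opp {p : ℕ → V} (h : IsPath P.adj P.n p) {g : G} (h0 : g • p 0 = p 0) (h1 : g • p 1 = p 1)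
    (h2 : g • p P.n = p P.n) : g ∈ P.PS P.n p := by
  have hn := n_pos P
  refine (mem_PS P).2 fun i hi => ?_
  rcases Nat.eq_zero_or_pos i with rfl | hi0
  · exact h0
  obtain ⟨m, hm⟩ : ∃ m, P.n = m + 1 := ⟨P.n - 1, by omega⟩
  have h3 : IsPath P.adj m (fun i => p (i + 1)) := by
    rw [hm] at h
    exact IsPath.shift h
  have h4 := fix_path P h3 (by omega) (g := g) (by simpa using h1) (by simpa [← hm] using h2) (i - 1) (by omega)
  simpa [show i - 1 + 1 = i by omega] using h4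

theorem opp_symm {v v' : V} (h : P.Opp v v') : P.Opp v' v := by
  obtain ⟨d, hd, d0, d1⟩ := h
  exact ⟨_, isPath_rev hd, by simpa using d1, by simpa using d0⟩

theorem opp_tp {v v' : V} (h : P.Opp v v') : P.tp v' = P.tp v := by
  obtain ⟨d, hd, d0, d1⟩ := h
  have he := n_even P
  have := tp_even P hd (i := 0) (j := P.n / 2) (by omega)
  rwa [zero_add, ← he, d1, d0] at this

theorem K_opp {v v' : V} (h : P.Opp v v') : P.K v ⊓ P.S v' ≤ P.K v' := by
  rintro g ⟨hg, hg'⟩
  have hn := n_pos P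
  refine ⟨hg', fun w hw => ?_⟩
  obtain ⟨p, hp, p0, p1, p2⟩ := exists_opp_path P (opp_symm P h) hw
  have h1 : g • p 0 = p 0 := by rw [p0]; exact hg'
  have h2 : g • p (P.n - 1) = p (P.n - 1) := by
    apply hg.2
    rw [← p2]
    have := hp.1 (P.n - 1) (by omega)
    rw [show P.n - 1 + 1 = P.n by omega] at this
    exact P.symm this
  rw [← p1]
  exact fix_path P (IsPath.mono hp (by omega : P.n - 1 ≤ P.n)) (by omega) h1 h2 1 (by omega)

theorem K_opp_H {v v' : V} {p : ℕ → V} (h : IsPath P.adj P.n p) (h0 : p 0 = v) (h1 : p P.n = v') :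
    P.K v ⊓ P.S v' ≤ P.PS P.n p := by
  have hn := n_pos P
  rintro g ⟨hg, hg'⟩
  refine fix_opp P h (by rw [h0]; exact hg.1) (hg.2 _ ?_) (by rw [h1]; exact hg')
  rw [← h0]
  exact h.1 0 (by omega)

/-- `K v ⊓ S v'` lies in `H p`, for `v = p 0` and `v' = p n` -/
theorem K_opp_le_H {p : ℕ → V} (h : IsPath P.adj (P.n + 1) p) : P.K (p 0) ⊓ P.S (p P.n) = P.K (p 0) ⊓ P.H p := by
  have hn := n_pos P
  apply le_antisymm
  · intro g hg
    refine ⟨hg.1, (mem_PS P).2 fun i hi => ?_⟩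
    rcases Nat.lt_or_ge i (P.n + 1) with h1 | h1
    · exact (mem_PS P).1 (K_opp_H P (IsPath.mono h (by omega : P.n ≤ P.n + 1)) rfl rfl hg) i (by omega)
    · obtain rfl : i = P.n + 1 := by omega
      exact (K_opp P ⟨p, IsPath.mono h (by omega), rfl, rfl⟩ hg).2 _ (h.1 P.n (by omega))
  · exact inf_le_inf le_rfl (H_le_S P (by omega))

theorem smul_K (g : G) (v : V) : (P.K v).map (MulAut.conj g).toMonoidHom = P.K (g • v) := by
  ext a
  constructor
  · rintro ⟨b, hb, rfl⟩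
    refine ⟨?_, fun w hw => ?_⟩
    · change (g * b * g⁻¹) • g • v = g • v
      rw [mul_smul, inv_smul_smul, mul_smul, hb.1]
    · change (g * b * g⁻¹) • w = w
      have h1 : P.adj v (g⁻¹ • w) := by
        rw [← P.adj_smul_iff g, smul_inv_smul]
        exact hw
      rw [mul_smul, mul_smul, hb.2 _ h1, smul_inv_smul]
  · rintro ⟨h1, h2⟩
    refine ⟨g⁻¹ * a * g, ⟨?_, fun w hw => ?_⟩, ?_⟩
    · rw [mul_smul, mul_smul, h1, inv_smul_smul]
    · rw [mul_smul, mul_smul, h2 _ (P.smul_adj g hw), inv_smul_smul]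
    · change g * (g⁻¹ * a * g) * g⁻¹ = a
      group

theorem smul_S (g : G) (v : V) : (P.S v).map (MulAut.conj g).toMonoidHom = P.S (g • v) := by
  ext a
  constructor
  · rintro ⟨b, hb, rfl⟩
    change (g * b * g⁻¹) • g • v = g • v
    rw [mul_smul, inv_smul_smul, mul_smul, show b • v = v from hb]
  · intro h1
    refine ⟨g⁻¹ * a * g, ?_, ?_⟩
    · change (g⁻¹ * a * g) • v = v
      rw [mul_smul, mul_smul, show a • g • v = g • v from h1, inv_smul_smul]
    · change g * (g⁻¹ * a * g) * g⁻¹ = a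
      group

theorem card_k {v v' : V} {p : ℕ → V} {i : ℕ} (ho : P.Opp v v') (h : IsPath P.adj (P.n + 1) p) (hi : i ≤ P.n + 1) (hv : p i = v) :
    Nat.card ↥(P.K v ⊓ P.S v') = Nat.card ↥(P.K v ⊓ P.H p) := by
  have hn := n_pos P
  obtain ⟨p1, h1, h2, h3⟩ := exists_shift_add P h i
  have h4 := h2 0 (by omega)
  rw [zero_add, hv] at h4
  rw [← h3, ← h4, ← K_opp_le_H P h1]
  obtain ⟨d, hd, d0, d1⟩ := ho
  obtain ⟨g, hg⟩ := P.trans (by omega : P.n ≤ P.n + 1) hd (IsPath.mono h1 (by omega)) (by rw [d0, h4])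
  have e0 := hg 0 (by omega)
  have e1 := hg P.n le_rfl
  rw [d0] at e0
  rw [d1] at e1
  have h5 : (P.K v ⊓ P.S v').map (MulAut.conj g).toMonoidHom = P.K (p1 0) ⊓ P.S (p1 P.n) := by
    rw [Subgroup.map_inf_eq _ _ _ (MulAut.conj g).injective, smul_K, smul_S, e0, e1]
  rw [← h5, h4]
  exact Nat.card_congr (Subgroup.equivMapOfInjective _ _ (MulAut.conj g).injective).toEquiv

/-! ### counting -/

theorem card_img (v : V) (X : Subgroup G) :
    Nat.card ↥(P.img v X) * Nat.card ↥(P.K v ⊓ X) = Nat.card ↥(X ⊓ P.S v) := by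
  have h1 : (P.toPerm v).ker = (P.K v).subgroupOf (P.S v) := by
    ext g
    rw [MonoidHom.mem_ker, Subgroup.mem_subgroupOf]
    constructor
    · intro h
      refine ⟨g.2, fun w hw => ?_⟩
      have := congrArg (fun f : Equiv.Perm {w : V // P.adj v w} => ((f ⟨w, hw⟩ : {w : V // P.adj v w}) : V)) h
      simpa using this
    · intro h
      ext w
      exact h.2 w.1 w.2
  have h2 : Nat.card ↥(P.img v X) = (P.toPerm v).ker.relIndex (X.subgroupOf (P.S v)) := (Subgroup.relIndex_ker _ _).symm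
  have h3 := ((P.toPerm v).ker.subgroupOf (X.subgroupOf (P.S v))).card_mul_index
  have h4 : (P.K v).subgroupOf (P.S v) ⊓ X.subgroupOf (P.S v) = (P.K v ⊓ X).subgroupOf (P.S v) := rfl
  have h5 : P.K v ⊓ X ⊓ P.S v = P.K v ⊓ X := inf_eq_left.2 (inf_le_left.trans (P.K_le_S v))
  rw [card_subgroupOf', h1, h4, card_subgroupOf', h5, card_subgroupOf'] at h3
  rw [h2, ← h3, h1, mul_comm]
  rfl

/-- `S v ⊓ S v'` is transitive on the neighbours of `v` -/
theorem card_S_inf {p : ℕ → V} (h : IsPath P.adj P.n p) :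
    Nat.card ↥(P.S (p 0) ⊓ P.S (p P.n)) = (P.q (P.tp (p 0)) + 1) * Nat.card ↥(P.PS P.n p) := by
  have hn := n_pos P
  rw [orb_card (P.S (p 0) ⊓ P.S (p P.n)) (p 1)]
  have h1 : {b : V | ∃ g ∈ P.S (p 0) ⊓ P.S (p P.n), g • p 1 = b} = {w : V | P.adj (p 0) w} := by
    ext b
    constructor
    · rintro ⟨g, hg, rfl⟩
      have := P.smul_adj g (h.1 0 (by omega))
      rwa [show g • p 0 = p 0 from hg.1] at this
    · intro hb
      obtain ⟨p', h2, h3, h4, h5⟩ := exists_opp_path P ⟨p, h, rfl, rfl⟩ hb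
      obtain ⟨g, hg⟩ := P.trans (by omega : P.n ≤ P.n + 1) h h2 (by rw [h3])
      refine ⟨g, ⟨?_, ?_⟩, ?_⟩
      · exact (hg 0 (by omega)).trans h3
      · exact (hg P.n le_rfl).trans h5
      · exact (hg 1 (by omega)).trans h4
  have h2 : P.S (p 0) ⊓ P.S (p P.n) ⊓ stabilizer G (p 1) = P.PS P.n p := by
    apply le_antisymm
    · rintro g ⟨⟨h3, h4⟩, h5⟩
      exact fix_opp P h h3 h5 h4
    · intro g hg
      exact ⟨⟨(mem_PS P).1 hg 0 (by omega), (mem_PS P).1 hg _ le_rfl⟩, (mem_PS P).1 hg 1 (by omega)⟩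
  rw [h1, h2, card_nb']

theorem card_S {v v' : V} (ho : P.Opp v v') : Nat.card ↥(P.S v) =
    P.q (P.tp v) ^ (P.n / 2 - 1) * P.q (!P.tp v) ^ (P.n / 2) * Nat.card ↥(P.S v ⊓ P.S v') := by
  have hn := n_pos P
  obtain ⟨d, hd, rfl, rfl⟩ := ho
  obtain ⟨p, hp, hpd⟩ := exists_ext P hd (P.n + 1) (by omega)
  have h1 := card_S_inf P (IsPath.mono hp (by omega : P.n ≤ P.n + 1))
  rw [← hpd 0 (by omega), ← hpd P.n le_rfl, h1, card_step0 P (IsPath.mono hp (by omega)), card_PS1 P hp]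
  ring

theorem idx_mul {v v' : V} : P.idx v v' * (Nat.card ↥(P.L' v v') * Nat.card ↥(P.K v)) = Nat.card ↥(P.S v) := by
  have h1 := card_img P v (P.S v)
  rw [inf_eq_left.2 (P.K_le_S v), inf_idem] at h1
  have h2 : P.L' v v' ≤ P.L v := by
    apply Subgroup.map_mono
    intro g hg
    exact (Subgroup.mem_subgroupOf.1 hg).1
  have h3 : Nat.card ↥(P.L' v v') * P.idx v v' = Nat.card ↥(P.L v) := by
    have := ((P.L' v v').subgroupOf (P.L v)).card_mul_index
    rwa [card_subgroupOf', inf_eq_left.2 h2] at this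
  rw [← h1]
  change _ = Nat.card ↥(P.L v) * _
  rw [← h3]
  ring

variable [Finite G]

theorem count_opp {v v' : V} (ho : P.Opp v v') : P.idx v v' * Nat.card ↥(P.K v) =
    P.q (P.tp v) ^ (P.n / 2 - 1) * P.q (!P.tp v) ^ (P.n / 2) * Nat.card ↥(P.K v ⊓ P.S v') := by
  have h1 := idx_mul P (v := v) (v' := v')
  have h2 := card_img P v (P.S v ⊓ P.S v')
  have h3 : P.K v ⊓ (P.S v ⊓ P.S v') = P.K v ⊓ P.S v' := by
    rw [← inf_assoc, inf_eq_left.2 (P.K_le_S v)]
  have h4 : P.S v ⊓ P.S v' ⊓ P.S v = P.S v ⊓ P.S v' := inf_eq_left.2 inf_le_left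
  rw [h3, h4] at h2
  rw [card_S P ho, ← h2] at h1
  have h5 : 0 < Nat.card ↥(P.img v (P.S v ⊓ P.S v')) := by
    have := Nat.card_pos (α := ↥(P.S v ⊓ P.S v'))
    rw [← h2] at this
    exact Nat.pos_of_mul_pos_right this
  apply Nat.eq_of_mul_eq_mul_left h5
  change P.idx v v' * (Nat.card ↥(P.img v (P.S v ⊓ P.S v')) * Nat.card ↥(P.K v)) = _ at h1
  calc _ = P.idx v v' * (Nat.card ↥(P.img v (P.S v ⊓ P.S v')) * Nat.card ↥(P.K v)) := by ring
    _ = _ := by rw [h1]; ring

theorem count_T2 {v v' : V} {p : ℕ → V} {i : ℕ} (ho : P.Opp v v') (h : IsPath P.adj (P.n + 1) p) (hi : i + 2 ≤ P.n + 1)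
    (hv : p (i + 1) = v) : P.T2 v (p i) (p (i + 2)) * Nat.card ↥(P.K v ⊓ P.H p) = P.idx v v' * Nat.card ↥(P.H p) := by
  have hn := n_pos P
  obtain ⟨p1, h1, h2, h3⟩ := exists_shift_add P h i
  have e0 : p1 0 = p i := by rw [h2 0 (by omega), zero_add]
  have e1 : p1 1 = v := by rw [h2 1 (by omega), add_comm, hv]
  have e2 : p1 2 = p (i + 2) := by rw [h2 2 (by omega), add_comm]
  have h4 := card_PS2 P h1
  rw [e1, h3] at h4
  have h5 := card_img P v (P.S (p i) ⊓ P.S (p (i + 2)))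
  have h6 : P.K v ⊓ (P.S (p i) ⊓ P.S (p (i + 2))) = P.K v := by
    rw [inf_eq_left]
    intro g hg
    refine ⟨hg.2 _ ?_, hg.2 _ ?_⟩
    · rw [← hv]
      exact P.symm (h.1 i (by omega))
    · rw [← hv]
      exact h.1 (i + 1) (by omega)
  have h7 : P.S (p i) ⊓ P.S (p (i + 2)) ⊓ P.S v = P.PS 2 p1 := by
    ext g
    rw [mem_PS]
    constructor
    · rintro ⟨⟨a1, a2⟩, a3⟩ j hj
      obtain rfl | rfl | rfl : j = 0 ∨ j = 1 ∨ j = 2 := by omega
      · rw [e0]; exact a1
      · rw [e1]; exact a3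
      · rw [e2]; exact a2
    · intro hg
      have a0 := hg 0 (by omega)
      have a1 := hg 1 (by omega)
      have a2 := hg 2 (by omega)
      rw [e0] at a0
      rw [e1] at a1
      rw [e2] at a2
      exact ⟨⟨a0, a2⟩, a1⟩
  rw [h6, h7, h4] at h5
  have h8 := count_opp P ho
  rw [card_k P ho h (by omega) hv] at h8
  have h9 : 0 < Nat.card ↥(P.K v) := Nat.card_pos
  apply Nat.eq_of_mul_eq_mul_left h9
  change P.T2 v (p i) (p (i + 2)) * Nat.card ↥(P.K v) = _ at h5
  calc _ = (P.T2 v (p i) (p (i + 2)) * Nat.card ↥(P.K v)) * Nat.card ↥(P.K v ⊓ P.H p) := by ring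
    _ = (P.idx v v' * Nat.card ↥(P.K v)) * Nat.card ↥(P.H p) := by rw [h5, h8]; ring
    _ = _ := by ring

end Cfsg.Agent.H372.Tits

private theorem dce_132bd269db99 : _root_.True := by
  try have : _root_.True := by simp only [_root_.Cfsg.Agent.H873.Tits.Pol.H.eq_1]
  exact _root_.True.intro
end

-- part: H372/Tits/Cnt3
section
set_option linter.all false
open scoped Cfsg.Agent.FastGrp

/-!
# S3414, task G3: the counts 3, 4 and case (B) (helper372)
-/

set_option autoImplicit false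

namespace Cfsg.Agent.H372.Tits

open Cfsg.Agent.H873.Tits MulAction

universe u v

variable {G : Type u} [Group G] {V : Type v} [MulAction G V] (P : Pol G V)

theorem conj_K {g : G} {v : V} (hg : g ∈ P.S v) {a : G} (ha : a ∈ P.K v) : g * a * g⁻¹ ∈ P.K v := by
  have h : g * a * g⁻¹ ∈ (P.K v).map (MulAut.conj g).toMonoidHom := ⟨a, ha, rfl⟩
  rwa [smul_K, show g • v = v from hg] at h

/-- the path `x, y, w` -/
def path2 (x y w : V) : ℕ → V := fun i => if i = 0 then x else if i = 1 then y else w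

theorem isPath2 {x y w : V} (h1 : P.adj x y) (h2 : P.adj y w) (h3 : w ≠ x) : IsPath P.adj 2 (path2 x y w) := by
  constructor
  · intro i hi
    obtain rfl | rfl : i = 0 ∨ i = 1 := by omega
    · exact h1
    · exact h2
  · intro i hi
    obtain rfl : i = 0 := by omega
    exact h3

variable [Finite G]

theorem relIndex_dvd {x y w : V} (hxy : P.adj x y) (hwy : P.adj w y) (hxw : x ≠ w) :
    (P.K x ⊓ P.S w).relIndex (P.K x) ∣ P.q (P.tp y) := by
  have hn := n_pos P
  have hp := isPath2 P hxy (P.symm hwy) hxw.symm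
  have h1 := card_step P (k := 0) (p := path2 x y w) (by omega) hp
  rw [zero_add, PS_succ P 1] at h1
  have hN : P.K x ≤ P.PS 1 (path2 x y w) := by
    intro g hg
    refine (mem_PS P).2 fun i hi => ?_
    obtain rfl | rfl : i = 0 ∨ i = 1 := by omega
    · exact hg.1
    · exact hg.2 _ hxy
  have hnn : ((P.K x).subgroupOf (P.PS 1 (path2 x y w))).Normal := by
    refine ⟨fun a ha g => ?_⟩
    rw [Subgroup.mem_subgroupOf] at ha ⊢
    exact conj_K P ((mem_PS P).1 g.2 0 (by omega)) ha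
  have h2 := relIndex_dvd_relIndex (Y := P.S w) hN hnn
  have h3 : (P.S w).relIndex (P.PS 1 (path2 x y w)) = P.q (P.tp y) := by
    have h4 := ((P.S w).subgroupOf (P.PS 1 (path2 x y w))).card_mul_index
    rw [card_subgroupOf', inf_comm] at h4
    have h5 : 0 < Nat.card ↥(P.PS 1 (path2 x y w) ⊓ P.S w) := Nat.card_pos
    apply Nat.eq_of_mul_eq_mul_left h5
    change Nat.card ↥(P.PS 1 (path2 x y w) ⊓ P.S w) * (P.S w).relIndex (P.PS 1 (path2 x y w)) = _ at h4
    rw [h4, h1, mul_comm]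
    rfl
  rw [h3] at h2
  rwa [Subgroup.inf_relIndex_left]

/-- the main estimate: `X` a subgroup, `H ≤ X`, `E ≤ X` with `E` normalized by `X` -/
theorem exists_conj_rel {r : ℕ} (hr : r.Prime) {E H X : Subgroup G} (hE : E ≤ X) (hH : H ≤ X) : ∃ g ∈ X,
    (Nat.card ↥E).factorization r ≤ (H.relIndex X).factorization r +
      (Nat.card ↥(E ⊓ H.map (MulAut.conj g).toMonoidHom)).factorization r := by
  obtain ⟨g, hg⟩ := exists_conj hr (E.subgroupOf X) (H.subgroupOf X)
  refine ⟨g, g.2, ?_⟩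
  rw [card_subgroupOf', inf_eq_left.2 hE] at hg
  refine hg.trans ?_
  change (H.relIndex X).factorization r + _ ≤ _
  have h1 : E.subgroupOf X ⊓ (H.subgroupOf X).map (MulAut.conj g).toMonoidHom =
      (E ⊓ H.map (MulAut.conj (g : G)).toMonoidHom).subgroupOf X := by
    ext a
    rw [Subgroup.mem_inf, Subgroup.mem_subgroupOf, Subgroup.mem_subgroupOf, Subgroup.mem_inf]
    refine and_congr_right fun _ => ?_
    constructor
    · rintro ⟨b, hb, rfl⟩
      exact ⟨b, hb, rfl⟩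
    · rintro ⟨b, hb, hb'⟩
      refine ⟨⟨b, hH hb⟩, hb, Subtype.ext hb'⟩
  rw [h1, card_subgroupOf', inf_eq_left.2 (inf_le_left.trans hE)]

theorem relIndex_H_PS4 {p : ℕ → V} (h : IsPath P.adj (P.n + 1) p) : (P.H p).relIndex (P.PS 4 p) =
    P.q (P.tp (p 2)) ^ (P.n / 2 - 1) * P.q (!P.tp (p 2)) ^ (P.n / 2 - 2) := by
  have hn := n_pos P
  have h1 := card_PS4 P h
  have h2 := ((P.H p).subgroupOf (P.PS 4 p)).card_mul_index
  have h4 : P.H p ≤ P.PS 4 p := PS_anti P (by omega) p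
  rw [card_subgroupOf', inf_eq_left.2 h4] at h2
  have h3 : 0 < Nat.card ↥(P.H p) := Nat.card_pos
  apply Nat.eq_of_mul_eq_mul_left h3
  change Nat.card ↥(P.H p) * (P.H p).relIndex (P.PS 4 p) = _ at h2
  rw [h2, h1, mul_comm]

theorem count_KK {r : ℕ} {p : ℕ → V} {i : ℕ} (hr : r.Prime) (h : IsPath P.adj (P.n + 1) p) (hi : i + 2 ≤ P.n + 1) :
    (Nat.card ↥(P.K (p i) ⊓ P.K (p (i + 2)))).factorization r ≤
      (P.q (P.tp (p (i + 1))) ^ (P.n / 2 - 1) * P.q (P.tp (p i)) ^ (P.n / 2 - 2)).factorization r +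
      (Nat.card ↥(P.K (p i) ⊓ P.K (p (i + 2)) ⊓ P.H p)).factorization r := by
  have hn := n_pos P
  obtain ⟨p1, h1, e1, e2, e3, h2⟩ := exists_shift3 P h hi
  rw [← e1, ← e2, ← e3, ← h2]
  have hE : P.K (p1 1) ⊓ P.K (p1 3) ≤ P.PS 4 p1 := by
    rintro g ⟨hg, hg'⟩
    refine (mem_PS P).2 fun j hj => ?_
    obtain rfl | rfl | rfl | rfl | rfl : j = 0 ∨ j = 1 ∨ j = 2 ∨ j = 3 ∨ j = 4 := by omega
    · exact hg.2 _ (P.symm (h1.1 0 (by omega)))
    · exact hg.1
    · exact hg.2 _ (h1.1 1 (by omega))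
    · exact hg'.1
    · exact hg'.2 _ (h1.1 3 (by omega))
  obtain ⟨g, hg, h3⟩ := exists_conj_rel hr hE (PS_anti P (show 4 ≤ P.n + 1 by omega) p1)
  change _ ≤ ((P.H p1).relIndex (P.PS 4 p1)).factorization r + _ at h3
  rw [relIndex_H_PS4 P h1] at h3
  have e4 : P.tp (p1 1) = !P.tp (p1 2) := by
    rw [P.tp_adj (h1.1 1 (by omega)), Bool.not_not]
  rw [← e4] at h3
  refine h3.trans ?_
  have h4 : P.K (p1 1) ⊓ P.K (p1 3) ⊓ (P.PS (P.n + 1) p1).map (MulAut.conj g).toMonoidHom =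
      (P.K (p1 1) ⊓ P.K (p1 3) ⊓ P.H p1).map (MulAut.conj g).toMonoidHom := by
    have h5 := (mem_PS P).1 hg 1 (by omega)
    have h6 := (mem_PS P).1 hg 3 (by omega)
    rw [Subgroup.map_inf_eq _ _ _ (MulAut.conj g).injective, Subgroup.map_inf_eq _ _ _ (MulAut.conj g).injective,
      smul_K, smul_K, h5, h6]
    rfl
  rw [h4, Nat.card_congr (Subgroup.equivMapOfInjective _ _ (MulAut.conj g).injective).toEquiv.symm]

theorem count_main {r : ℕ} {p : ℕ → V} {i : ℕ} {x' : V} (hr : r.Prime) (h : IsPath P.adj (P.n + 1) p) (hi : i + 2 ≤ P.n + 1)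
    (ho : P.Opp (p i) x') :
    (P.q (P.tp (p i))).factorization r + (Nat.card ↥(P.K (p i) ⊓ P.H p)).factorization r +
      (Nat.card ↥(P.K (p i) ⊓ P.K (p (i + 2)))).factorization r ≤
    (Nat.card ↥(P.K (p i) ⊓ P.S (p (i + 2)))).factorization r + (P.idx (p i) x').factorization r +
      (Nat.card ↥(P.K (p i) ⊓ P.K (p (i + 2)) ⊓ P.H p)).factorization r := by
  have hn := n_pos P
  have hev := n_even P
  have h1 := count_opp P ho
  rw [card_k P ho h (by omega) rfl] at h1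
  have h2 := count_KK P hr h hi
  have h3 := relIndex_dvd P (h.1 i (by omega)) (P.symm (h.1 (i + 1) (by omega))) (h.2 i (by omega)).symm
  have h4 : Nat.card ↥(P.K (p i) ⊓ P.S (p (i + 2))) * (P.K (p i) ⊓ P.S (p (i + 2))).relIndex (P.K (p i)) =
      Nat.card ↥(P.K (p i)) := by
    have := ((P.K (p i) ⊓ P.S (p (i + 2))).subgroupOf (P.K (p i))).card_mul_index
    rwa [card_subgroupOf', inf_eq_left.2 inf_le_left] at this
  have hs : P.q (P.tp (p i)) ≠ 0 := by have := P.two_le (P.tp (p i)); omega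
  have ht : P.q (P.tp (p (i + 1))) ≠ 0 := by have := P.two_le (P.tp (p (i + 1))); omega
  have e1 : (!P.tp (p i)) = P.tp (p (i + 1)) := (P.tp_adj (h.1 i (by omega))).symm
  have hidx : P.idx (p i) x' ≠ 0 := by
    intro h0
    rw [h0, zero_mul] at h1
    have : P.q (P.tp (p i)) ^ (P.n / 2 - 1) * P.q (!P.tp (p i)) ^ (P.n / 2) * Nat.card ↥(P.K (p i) ⊓ P.H p) ≠ 0 := by
      rw [e1]
      exact mul_ne_zero (mul_ne_zero (pow_ne_zero _ hs) (pow_ne_zero _ ht)) Nat.card_pos.ne'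
    exact this h1.symm
  have hrel : (P.K (p i) ⊓ P.S (p (i + 2))).relIndex (P.K (p i)) ≠ 0 := Subgroup.index_ne_zero_of_finite
  -- factorizations
  have f1 := congrArg (fun x => Nat.factorization x r) h1
  simp only [e1] at f1
  rw [Nat.factorization_mul hidx Nat.card_pos.ne',
    Nat.factorization_mul (mul_ne_zero (pow_ne_zero _ hs) (pow_ne_zero _ ht)) Nat.card_pos.ne',
    Nat.factorization_mul (pow_ne_zero _ hs) (pow_ne_zero _ ht), Nat.factorization_pow, Nat.factorization_pow] at f1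
  simp only [Finsupp.add_apply, Finsupp.smul_apply, smul_eq_mul] at f1
  have f2 := h2
  rw [Nat.factorization_mul (pow_ne_zero _ ht) (pow_ne_zero _ hs), Nat.factorization_pow, Nat.factorization_pow] at f2
  simp only [Finsupp.add_apply, Finsupp.smul_apply, smul_eq_mul] at f2
  have f3 : ((P.K (p i) ⊓ P.S (p (i + 2))).relIndex (P.K (p i))).factorization r ≤ (P.q (P.tp (p (i + 1)))).factorization r :=
    (Nat.factorization_le_iff_dvd hrel ht).2 h3 r
  have f4 := congrArg (fun x => Nat.factorization x r) h4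
  rw [Nat.factorization_mul Nat.card_pos.ne' hrel] at f4
  simp only [Finsupp.add_apply] at f4
  obtain ⟨m, hm⟩ : ∃ m, P.n / 2 = m + 2 := ⟨P.n / 2 - 2, by omega⟩
  rw [hm] at f1 f2
  rw [show m + 2 - 1 = m + 1 by omega] at f1 f2
  rw [show m + 2 - 2 = m by omega] at f2
  generalize (P.q (P.tp (p i))).factorization r = s at *
  generalize (P.q (P.tp (p (i + 1)))).factorization r = t at *
  have a1 : (m + 1) * s = m * s + s := by ring
  have a2 : (m + 2) * t = (m + 1) * t + t := by ring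
  rw [a1, a2] at f1
  omega

/-- the rigidity of `P` -/
def Rigid : Prop := ∀ {p : ℕ → V} {i : ℕ} {g : G}, IsPath P.adj (P.n + 1) p → i ≤ P.n → g ∈ P.K (p i) → g ∈ P.K (p (i + 1)) →
    g ∈ P.H p → g = 1

variable {P}

theorem caseB_card (hR : Rigid P) {b : Bool} {x y : V} (hB : CaseB P b) (hy : P.tp y = b) (hxy : P.adj x y) :
    Nat.card ↥(P.K x ⊓ P.K y) ∣ P.q b ^ (P.n / 2 - 1) * P.q (!b) ^ (P.n / 2 - 2) := by
  have hn := n_pos P
  -- a path with `p 2 = y`, `p 3 = x`
  obtain ⟨z, hz, hzx⟩ := exists_nb_ne P y x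
  obtain ⟨c, hc, hc'⟩ := exists_ext P (isPath2 P hxy hz hzx) 3 (by omega)
  obtain ⟨p, hp, hp'⟩ := exists_ext P (isPath_rev hc) (P.n + 1) (by omega)
  have e2 : p 2 = y := by
    rw [hp' 2 (by omega)]
    exact hc' 1 (by omega)
  have e3 : p 3 = x := by
    rw [hp' 3 (by omega)]
    exact hc' 0 (by omega)
  have hE : P.K x ⊓ P.K y ≤ P.PS 4 p := by
    rintro g hg
    have hz1 := hB.ball hy hxy (z := p 1) (by rw [← e2]; exact hp.1 1 (by omega)) hg
    refine (mem_PS P).2 fun j hj => ?_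
    obtain rfl | rfl | rfl | rfl | rfl : j = 0 ∨ j = 1 ∨ j = 2 ∨ j = 3 ∨ j = 4 := by omega
    · exact hz1.2 _ (P.symm (hp.1 0 (by omega)))
    · exact hz1.1
    · rw [e2]; exact hg.2.1
    · rw [e3]; exact hg.1.1
    · apply hg.1.2
      rw [← e3]
      exact hp.1 3 (by omega)
  have h1 := relIndex_H_PS4 P hp
  rw [e2, hy] at h1
  rw [← h1]
  have h2 := card_dvd_of_conj ((P.K x ⊓ P.K y).subgroupOf (P.PS 4 p)) ((P.H p).subgroupOf (P.PS 4 p)) ?_
  · rwa [card_subgroupOf', inf_eq_left.2 hE] at h2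
  · intro g
    rw [eq_bot_iff]
    rintro a ⟨ha, ⟨b', hb', hb⟩⟩
    rw [Subgroup.mem_bot]
    apply Subtype.ext
    have hb2 : (g : G) * b' * (g : G)⁻¹ = a := congrArg Subtype.val hb
    rw [OneMemClass.coe_one]
    have hg2 := (mem_PS P).1 g.2 2 (by omega)
    have hg3 := (mem_PS P).1 g.2 3 (by omega)
    have hp2 : IsPath P.adj (P.n + 1) (fun i => (g : G) • p i) := isPath_smul hp g
    refine hR (p := fun i => (g : G) • p i) (i := 2) hp2 (by omega) ?_ ?_ ?_
    · rw [hg2, e2]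
      exact (Subgroup.mem_subgroupOf.1 ha).2
    · change (a : G) ∈ P.K ((g : G) • p 3)
      rw [hg3, e3]
      exact (Subgroup.mem_subgroupOf.1 ha).1
    · refine (mem_PS P).2 fun j hj => ?_
      rw [← hb2, mul_smul, inv_smul_smul, mul_smul]
      congr 1
      exact (mem_PS P).1 (Subgroup.mem_subgroupOf.1 hb') j hj

omit [Finite G] in
theorem caseB_k (hR : Rigid P) {b : Bool} {y y' : V} (hB : CaseB P b) (hy : P.tp y = b) (ho : P.Opp y y') :
    P.K y ⊓ P.S y' = ⊥ := by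
  have hn := n_pos P
  rw [eq_bot_iff]
  intro g hg
  obtain ⟨d, hd, rfl, rfl⟩ := ho
  obtain ⟨p, hp, hpd⟩ := exists_ext P hd (P.n + 1) (by omega)
  rw [← hpd 0 (by omega)] at hg hy
  rw [← hpd P.n le_rfl, K_opp_le_H P hp] at hg
  rw [Subgroup.mem_bot]
  have h1 : g ∈ P.K (p 1) := by
    refine hB.semireg hy (x := p 1) (w := p 2) (P.symm (hp.1 0 (by omega))) (P.symm (hp.1 1 (by omega))) (hp.2 0 (by omega)) ⟨hg.1, ?_⟩
    exact (mem_PS P).1 hg.2 2 (by omega)
  exact hR (i := 0) hp (by omega) hg.1 h1 hg.2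

end Cfsg.Agent.H372.Tits
end

-- part: H372/Tits/FactsAll
section
set_option linter.all false

/-!
# S3414: all geometric facts (assembly of G2, helper640, and G3, helper372)
-/

set_option autoImplicit false

namespace Cfsg.Agent.H372.Tits

open Cfsg.Agent.H873.Tits

universe u v

theorem facts {G : Type u} [Group G] [Finite G] {V : Type v} [MulAction G V] [Finite V] (P : Pol G V) : Facts P where
  two_trans := H640.Tits.two_trans P
  two_trans' := H640.Tits.two_trans' P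
  opp_symm := H640.Tits.opp_symm P
  opp_tp := H640.Tits.opp_tp P
  exists_opp := H640.Tits.exists_opp P
  extend := H640.Tits.extend P
  extend3 := H640.Tits.extend3 P
  pair_trans := H640.Tits.pair_trans P
  path_trans := H640.Tits.path_trans P
  rigid := H640.Tits.rigid P
  K_opp := H640.Tits.K_opp P
  K_opp_H := H640.Tits.K_opp_H P
  card_k := card_k P
  count_opp := count_opp P
  count_T2 := count_T2 P
  relIndex_dvd := relIndex_dvd P
  count_KK := count_KK P
  count_main := count_main P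
  fix_unique := H640.Tits.fix_unique P
  core := H640.Tits.core P
  proj_exists := H640.Tits.proj_exists P
  proj_opp := H640.Tits.proj_opp P
  proj_fix := H640.Tits.proj_fix P
  caseB_card := caseB_card (H640.Tits.rigid P)
  caseB_k := caseB_k (H640.Tits.rigid P)

end Cfsg.Agent.H372.Tits
end

-- part: H592/E4/Main
section
prune_inst 0x2560346445e2120400000512d0203c46ee000590002b8001db220e400f8eff2300002f60f5901e021b2aa2a540380008140018fd6010000020000600411904a180ebf2863334ad0c14001f81b885180c00000000000000000000000000041004200000000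
set_option linter.all false
open scoped Cfsg.Agent.FastGrp

/-!
# S3414 [E4] (helper592): `L y = S_5`, `L' y = 5:4`, `p = 2`: `s` is a power of `2`
-/

set_option autoImplicit false

namespace Cfsg.Agent.H592.E4

open Cfsg.Agent.H873.Tits Equiv Equiv.Perm Subgroup MulAction

universe u v

variable {G : Type u} [Group G] {V : Type v} [MulAction G V] {P : Pol G V}

theorem mem_S {v : V} {g : G} : g ∈ P.S v ↔ g • v = v := Iff.rfl

theorem mem_img {v : V} {X : Subgroup G} {σ : Perm {w : V // P.adj v w}} :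
    σ ∈ P.img v X ↔ ∃ g ∈ X, ∃ h : g ∈ P.S v, P.toPerm v ⟨g, h⟩ = σ := by
  rw [Pol.img, mem_map]
  constructor
  · rintro ⟨g, hg, rfl⟩
    exact ⟨g, hg, g.2, rfl⟩
  · rintro ⟨g, hg, h, rfl⟩
    exact ⟨⟨g, h⟩, hg, rfl⟩

theorem toPerm_mem {v : V} {X : Subgroup G} {g : G} (hg : g ∈ X) (h : g ∈ P.S v) :
    P.toPerm v ⟨g, h⟩ ∈ P.img v X := mem_img.2 ⟨g, hg, h, rfl⟩

theorem toPerm_eq_one {v : V} {g : G} (h : g ∈ P.S v) : P.toPerm v ⟨g, h⟩ = 1 ↔ g ∈ P.K v := by
  rw [P.mem_K]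
  constructor
  · intro h1
    refine ⟨h, fun w hw => ?_⟩
    have := congrArg (fun f : Perm {w : V // P.adj v w} => ((f ⟨w, hw⟩ : {w : V // P.adj v w}) : V)) h1
    simpa using this
  · rintro ⟨-, h2⟩
    ext w
    rw [P.toPerm_apply]
    exact h2 w w.2

theorem img_mono {v : V} {X Y : Subgroup G} (h : X ≤ Y) : P.img v X ≤ P.img v Y := by
  intro σ hσ
  obtain ⟨g, hg, hv, rfl⟩ := mem_img.1 hσ
  exact toPerm_mem (h hg) hv

theorem img_ne_bot {v : V} {X : Subgroup G} (h : X ≤ P.S v) (hK : ¬ X ≤ P.K v) : P.img v X ≠ ⊥ := by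
  intro h1
  apply hK
  intro g hg
  have h2 := toPerm_mem (P := P) hg (h hg)
  rw [h1, mem_bot, toPerm_eq_one] at h2
  exact h2

/-- `X ⊓ K v` is the kernel of `X → img v X` -/
theorem card_img [Finite G] {v : V} {X : Subgroup G} (h : X ≤ P.S v) :
    Nat.card X = Nat.card ↥(X ⊓ P.K v) * Nat.card (P.img v X) := by
  let f : X →* Perm {w : V // P.adj v w} := (P.toPerm v).comp (inclusion h)
  have h1 : f.range = P.img v X := by
    ext σ
    rw [MonoidHom.mem_range, mem_img]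
    constructor
    · rintro ⟨g, rfl⟩
      exact ⟨g, g.2, h g.2, rfl⟩
    · rintro ⟨g, hg, hv, rfl⟩
      exact ⟨⟨g, hg⟩, rfl⟩
  have h2 : Nat.card f.ker = Nat.card ↥(X ⊓ P.K v) := by
    have h3 : f.ker = (P.K v).subgroupOf X := by
      ext g
      rw [MonoidHom.mem_ker, mem_subgroupOf, ← toPerm_eq_one (h g.2)]
      rfl
    rw [h3, inf_comm, ← subgroupOf_map_subtype]
    exact (Nat.card_congr (equivMapOfInjective _ _ X.subtype_injective).toEquiv)
  have h3 := f.ker.card_mul_index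
  rw [index_ker, h1, h2] at h3
  exact h3.symm

theorem isPGroup_img {p : ℕ} {v : V} {X : Subgroup G} (h : IsPGroup p X) : IsPGroup p (P.img v X) :=
  (h.comap_subtype).map _

theorem L'_le_L {v v' : V} : P.L' v v' ≤ P.L v := img_mono inf_le_left

theorem twoTr_L (F : Facts P) (v : V) : TwoTr (P.L v) := by
  intro a b a' b' hab hab'
  obtain ⟨g, hg, h1, h2⟩ := F.two_trans a.2 b.2 (fun h => hab (Subtype.ext h)) a'.2 b'.2 (fun h => hab' (Subtype.ext h))
  exact ⟨P.toPerm v ⟨g, hg⟩, toPerm_mem hg hg, Subtype.ext h1, Subtype.ext h2⟩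

theorem twoTr_L' (F : Facts P) {v v' : V} (ho : P.Opp v v') : TwoTr (P.L' v v') := by
  intro a b a' b' hab hab'
  obtain ⟨g, hg, h1, h2⟩ := F.two_trans' ho a.2 b.2 (fun h => hab (Subtype.ext h)) a'.2 b'.2
    (fun h => hab' (Subtype.ext h))
  exact ⟨P.toPerm v ⟨g, hg.1⟩, toPerm_mem hg hg.1, Subtype.ext h1, Subtype.ext h2⟩

theorem mem_Stb_img {v a : V} {X : Subgroup G} (ha : P.adj v a) {σ : Perm {w : V // P.adj v w}} :
    σ ∈ Stb (P.img v X) ⟨a, ha⟩ ↔ ∃ g ∈ X, ∃ h : g ∈ P.S v, g ∈ P.S a ∧ P.toPerm v ⟨g, h⟩ = σ := by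
  constructor
  · rintro ⟨h1, h2⟩
    obtain ⟨g, hg, hv, rfl⟩ := mem_img.1 h1
    exact ⟨g, hg, hv, congrArg Subtype.val h2, rfl⟩
  · rintro ⟨g, hg, hv, h2, rfl⟩
    exact ⟨toPerm_mem hg hv, Subtype.ext h2⟩

theorem T2_eq {v a b : V} (ha : P.adj v a) (hb : P.adj v b) :
    P.T2 v a b = Nat.card ↥(Stb (P.L v) ⟨a, ha⟩ ⊓ Stb (P.L v) ⟨b, hb⟩) := by
  rw [Pol.T2]
  congr 2
  ext σ
  rw [mem_inf]
  constructor
  · intro h
    obtain ⟨g, ⟨h1, h2⟩, hv, rfl⟩ := mem_img.1 h
    exact ⟨(mem_Stb_img ha).2 ⟨g, hv, hv, h1, rfl⟩, (mem_Stb_img hb).2 ⟨g, hv, hv, h2, rfl⟩⟩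
  · rintro ⟨h1, h2⟩
    obtain ⟨g, hg, hv, h3, rfl⟩ := (mem_Stb_img ha).1 h1
    have h4 : g ∈ P.S a ⊓ P.S b := ⟨h3, congrArg Subtype.val h2.2⟩
    exact toPerm_mem h4 hv

theorem conj_mem_K {v : V} {g a : G} (hg : g ∈ P.S v) (ha : a ∈ P.K v) : g * a * g⁻¹ ∈ P.K v := by
  have h1 : P.toPerm v (⟨g, hg⟩ * ⟨a, P.K_le_S v ha⟩ * ⟨g, hg⟩⁻¹) = 1 := by
    rw [map_mul, map_mul, (toPerm_eq_one (P.K_le_S v ha)).2 ha, mul_one, map_inv, mul_inv_cancel]
  exact (toPerm_eq_one _).1 h1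

theorem K_le_S_nb {x y : V} (h : P.adj x y) : P.K x ≤ P.S y := fun _ ha => ha.2 y h

theorem tp_not {x y : V} (h : P.adj x y) : P.tp x = !P.tp y := by
  rw [P.tp_adj h, Bool.not_not]

theorem conj_K_smul {v : V} {g a : G} (ha : a ∈ P.K v) : g * a * g⁻¹ ∈ P.K (g • v) := by
  rw [P.mem_K]
  refine ⟨?_, fun w hw => ?_⟩
  · rw [mul_smul, mul_smul, inv_smul_smul, P.K_le_S v ha]
  · have h1 : P.adj v (g⁻¹ • w) := by
      have := P.smul_adj g⁻¹ hw
      rwa [inv_smul_smul] at this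
    rw [mul_smul, mul_smul, ha.2 _ h1, smul_inv_smul]

/-! ### odd parameters -/

theorem card_nb_ne {x y : V} [Finite V] (h : P.adj x y) : Nat.card {w : V // P.adj x w ∧ w ≠ y} = P.q (P.tp x) := by
  have h1 := P.card_nb x
  have h2 : Nat.card {w : V // P.adj x w ∧ w ≠ y} = ({w : V | P.adj x w} \ {y}).ncard := rfl
  rw [h2, Set.ncard_sdiff_singleton_of_mem (show y ∈ {w : V | P.adj x w} from h)]
  have h3 : ({w : V | P.adj x w}).ncard = P.q (P.tp x) + 1 := h1
  rw [h3]
  rfl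

theorem s_even (F : Facts P) [Finite G] [Finite V] (hA : CaseA P 2) {x y : V} (hxy : P.adj x y) : 2 ∣ P.q (P.tp x) := by
  have : Fact (Nat.Prime 2) := ⟨Nat.prime_two⟩
  obtain ⟨Q, hQK, hQn, hQ2, hQx⟩ := hA.big hxy
  by_contra hodd
  apply hQx
  have hQS : Q ≤ P.S x := hQK.trans (K_le_S_nb (P.symm hxy))
  have hQy : Q ≤ P.S y := hQK.trans (P.K_le_S y)
  let act : MulAction Q {w : V // P.adj x w ∧ w ≠ y} :=
    { smul := fun u w => ⟨(u : G) • w.1, by
        have h1 := P.smul_adj (u : G) w.2.1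
        rwa [mem_S.1 (hQS u.2)] at h1, fun h => w.2.2 (by
          rw [smul_eq_iff_eq_inv_smul] at h
          rw [h, inv_smul_eq_iff]
          exact (mem_S.1 (hQy u.2)).symm)⟩
      one_smul := fun w => Subtype.ext (one_smul G w.1)
      mul_smul := fun u v w => Subtype.ext (mul_smul (u : G) (v : G) w.1) }
  obtain ⟨w0, hw0⟩ := hQ2.nonempty_fixed_point_of_prime_not_dvd_card {w : V // P.adj x w ∧ w ≠ y}
    (by rwa [card_nb_ne hxy])
  intro u hu
  refine ⟨hQS hu, fun w hw => ?_⟩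
  by_cases hwy : w = y
  · rw [hwy]
    exact hQy hu
  · obtain ⟨g, hg, h1, h2⟩ := F.two_trans hxy w0.2.1 (Ne.symm w0.2.2) hxy hw (Ne.symm hwy)
    have h3 : g⁻¹ * u * g ∈ Q := by
      have h4 := hQn.conj_mem ⟨u, hQy hu⟩ hu ⟨g, h1⟩⁻¹
      rw [inv_inv] at h4
      exact h4
    have h5 : (g⁻¹ * u * g) • w0.1 = w0.1 := congrArg Subtype.val (hw0 ⟨_, h3⟩)
    rw [mul_smul, mul_smul, inv_smul_eq_iff, h2] at h5
    exact h5

/-! ### `idx = 1` in degree 7 and 13 -/

/-- the data `LQ` for `L x` -/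
theorem LQ_img (hA : CaseA P 2) {x y : V} (hxy : P.adj x y) : ∃ Q : Subgroup (Perm {w : V // P.adj x w}),
    Q ≠ ⊥ ∧ Q ≤ Stb (P.L x) ⟨y, hxy⟩ ∧ (Q.subgroupOf (Stb (P.L x) ⟨y, hxy⟩)).Normal ∧ IsPGroup 2 Q := by
  obtain ⟨Q, hQK, hQn, hQ2, hQx⟩ := hA.big hxy
  have hQS : Q ≤ P.S x := hQK.trans (K_le_S_nb (P.symm hxy))
  have hQy : Q ≤ P.S y := hQK.trans (P.K_le_S y)
  have hle : P.img x Q ≤ Stb (P.L x) ⟨y, hxy⟩ := by
    intro σ hσ
    obtain ⟨g, hg, hv, rfl⟩ := mem_img.1 hσ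
    exact (mem_Stb_img hxy).2 ⟨g, hv, hv, hQy hg, rfl⟩
  refine ⟨P.img x Q, img_ne_bot hQS hQx, hle, ?_, isPGroup_img hQ2⟩
  constructor
  rintro ⟨σ, hσ1⟩ hσ ⟨τ, hτ1⟩
  rw [mem_subgroupOf] at hσ ⊢
  obtain ⟨g, hg, hv, h1⟩ := mem_img.1 hσ
  obtain ⟨h, hh, hh2, hh3, h2⟩ := (mem_Stb_img hxy).1 hτ1
  have h3 : h * g * h⁻¹ ∈ Q := hQn.conj_mem ⟨g, hQy hg⟩ hg ⟨h, hh3⟩
  have h4 := toPerm_mem (P := P) h3 (hQS h3)
  have h5 : P.toPerm x ⟨h * g * h⁻¹, hQS h3⟩ = τ * σ * τ⁻¹ := by
    rw [← h2]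
    simp only at h1
    rw [← h1, ← map_inv, ← map_mul, ← map_mul]
    rfl
  rw [h5] at h4
  exact h4

theorem idx_seven (F : Facts P) (hA : CaseA P 2) {x y x' : V} (hxy : P.adj x y) (hs : P.q (P.tp x) = 6)
    (ho : P.Opp x x') : P.idx x x' = 1 := by
  obtain ⟨Q, h1, h2, h3, h4⟩ := LQ_img hA hxy
  exact deg7 (by rw [P.card_nb, hs]) (twoTr_L F x) (twoTr_L' F ho) L'_le_L h1 h2 h3 h4

theorem idx_thirteen (hT : StTab1a.{v}) (F : Facts P) [Finite V] (hA : CaseA P 2) {x y x' : V} (hxy : P.adj x y)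
    (hs : P.q (P.tp x) = 12) (ho : P.Opp x x') : P.idx x x' = 1 := by
  obtain ⟨Q, h1, h2, h3, h4⟩ := LQ_img hA hxy
  have hcard : Nat.card {w : V // P.adj x w} = 13 := by rw [P.card_nb, hs]
  refine aff13 hcard (twoTr_L F x) (twoTr_L' F ho) L'_le_L ?_
  by_contra hAff
  obtain ⟨b, hb⟩ : ∃ b : {w : V // P.adj x w}, b ≠ ⟨y, hxy⟩ := by
    have : Nontrivial {w : V // P.adj x w} := Finite.one_lt_card_iff_nontrivial.1 (by omega)
    exact exists_ne _
  have hLQ : LQ (P.L x) 12 2 ⟨y, hxy⟩ b Q :=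
    { two := twoTr_L F x
      card := hcard
      two_le := by norm_num
      prime := Nat.prime_two
      ne := hb.symm
      Q_ne := h1
      Q_le := h2
      Q_normal := h3
      Q_p := h4 }
  rcases hT (P.L x) 12 2 _ b Q hLQ hAff with ⟨k, hk⟩ | ⟨d, f, hd, hf, -, hc, -⟩
  · have h5 : 3 ∣ 2 ^ k := by rw [← hk]; norm_num
    have h6 := Nat.prime_three.dvd_of_dvd_pow h5
    omega
  · rw [hcard] at hc
    obtain ⟨r, hr⟩ : ∃ r, r = 2 ^ f := ⟨_, rfl⟩
    have hr2 : 2 ≤ r := by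
      rw [hr]
      calc 2 = 2 ^ 1 := rfl
        _ ≤ 2 ^ f := Nat.pow_le_pow_right (by norm_num) hf
    rw [← hr] at hc
    have h5 : r ^ 3 ≤ r ^ d := Nat.pow_le_pow_right (by omega) hd
    have h6 : r ≤ 3 := by
      by_contra hcon
      have h7 : r ^ 3 ≥ 16 * r := by
        have : r ^ 3 = r * r * r := by ring
        rw [this]
        exact Nat.mul_le_mul_right r (Nat.mul_le_mul (show 4 ≤ r by omega) (show 4 ≤ r by omega))
      have h8 : 13 * (r - 1) = r ^ d - 1 := hc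
      omega
    interval_cases r
    · have h7 : 2 ^ d = 14 := by omega
      have h8 : 7 ∣ 2 ^ d := by rw [h7]; norm_num
      have h9 := (Nat.Prime.dvd_of_dvd_pow (by norm_num) h8)
      omega
    · have h7 : 3 ∣ 2 ^ f := by rw [← hr]
      have h8 := Nat.prime_three.dvd_of_dvd_pow h7
      omega

/-! ### the main contradiction -/

theorem H_fix {p : ℕ → V} {k : ℕ} {g : G} : g ∈ P.PS k p ↔ ∀ i, i ≤ k → g • p i = p i := by
  rw [Pol.PS, mem_iInf]
  constructor
  · intro h i hi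
    exact h ⟨i, hi⟩
  · rintro h ⟨i, hi⟩
    exact h i hi

/-- images in `L w` -/
theorem comm_mem [Finite G] {x y w : V} {c : ℕ} (hxy : P.adj x y) (hyw : P.adj y w)
    (hE : Nat.card ↥(P.K x ⊓ P.K y) = 2 ^ c) {r1 r2 t1 : G}
    (h1 : r1 ∈ P.K x) (h2 : r2 ∈ P.K x) (h1w : r1 ∈ P.S w) (h2w : r2 ∈ P.S w) (ht : t1 ∈ P.K w)
    (h : t1⁻¹ * r1 ∈ P.K y) : (r1 * r2 * r1⁻¹ * r2⁻¹) ^ 2 ^ c ∈ P.K x ⊓ P.K w := by
  have hr1y : r1 ∈ P.S y := K_le_S_nb hxy h1
  have hr2y : r2 ∈ P.S y := K_le_S_nb hxy h2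
  obtain ⟨z, hz⟩ : ∃ z, z = t1⁻¹ * r1 := ⟨_, rfl⟩
  rw [← hz] at h
  have hzx : z ∈ P.S x := K_le_S_nb (P.symm hxy) h
  have hzw : z ∈ P.S w := K_le_S_nb hyw h
  have he : z * r2 * z⁻¹ * r2⁻¹ ∈ P.K x ⊓ P.K y := by
    refine mem_inf.2 ⟨mul_mem (conj_mem_K hzx h2) (inv_mem h2), ?_⟩
    have h3 := mul_mem h (conj_mem_K hr2y (inv_mem h))
    have h4 : z * (r2 * z⁻¹ * r2⁻¹) = z * r2 * z⁻¹ * r2⁻¹ := by group
    rwa [h4] at h3
  have he1 : (z * r2 * z⁻¹ * r2⁻¹) ^ 2 ^ c = 1 := by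
    have h5 : (⟨_, he⟩ : ↥(P.K x ⊓ P.K y)) ^ Nat.card ↥(P.K x ⊓ P.K y) = 1 := pow_card_eq_one'
    rw [hE] at h5
    exact congrArg Subtype.val h5
  have ht' : t1 ∈ P.S w := P.K_le_S w ht
  have h6 : P.toPerm w ⟨r1, h1w⟩ = P.toPerm w ⟨z, hzw⟩ := by
    have h7 : (⟨r1, h1w⟩ : P.S w) = ⟨t1, ht'⟩ * ⟨z, hzw⟩ := by
      apply Subtype.ext
      change r1 = t1 * z
      rw [hz, mul_inv_cancel_left]
    rw [h7, map_mul, (toPerm_eq_one ht').2 ht, one_mul]
  have hzw' : z * r2 * z⁻¹ * r2⁻¹ ∈ P.S w := mul_mem (mul_mem (mul_mem hzw h2w) (inv_mem hzw)) (inv_mem h2w)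
  have hrw' : r1 * r2 * r1⁻¹ * r2⁻¹ ∈ P.S w := mul_mem (mul_mem (mul_mem h1w h2w) (inv_mem h1w)) (inv_mem h2w)
  have h7 : P.toPerm w ⟨r1 * r2 * r1⁻¹ * r2⁻¹, hrw'⟩ = P.toPerm w ⟨z * r2 * z⁻¹ * r2⁻¹, hzw'⟩ := by
    have h8 : (⟨r1 * r2 * r1⁻¹ * r2⁻¹, hrw'⟩ : P.S w) = ⟨r1, h1w⟩ * ⟨r2, h2w⟩ * ⟨r1, h1w⟩⁻¹ * ⟨r2, h2w⟩⁻¹ := rfl
    have h9 : (⟨z * r2 * z⁻¹ * r2⁻¹, hzw'⟩ : P.S w) = ⟨z, hzw⟩ * ⟨r2, h2w⟩ * ⟨z, hzw⟩⁻¹ * ⟨r2, h2w⟩⁻¹ := rfl
    rw [h8, h9]
    simp only [map_mul, map_inv, h6]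
  refine mem_inf.2 ⟨pow_mem (mul_mem (mul_mem (mul_mem h1 h2) (inv_mem h1)) (inv_mem h2)) _, ?_⟩
  rw [← toPerm_eq_one (pow_mem hrw' _)]
  have h8 : (⟨(r1 * r2 * r1⁻¹ * r2⁻¹) ^ 2 ^ c, pow_mem hrw' _⟩ : P.S w) = ⟨r1 * r2 * r1⁻¹ * r2⁻¹, hrw'⟩ ^ 2 ^ c := rfl
  rw [h8, map_pow, h7, ← map_pow]
  have h9 : (⟨z * r2 * z⁻¹ * r2⁻¹, hzw'⟩ : P.S w) ^ 2 ^ c = 1 := Subtype.ext he1
  rw [h9, map_one]

theorem main_contra (F : Facts P) [Finite G] [Finite V] (hA : CaseA P 2) (hn : P.n = 4) {x y y' : V}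
    (hxy : P.adj x y) (ho : P.Opp y y') (ht : P.q (P.tp y) = 4) (hL : Nat.card (P.L y) = 120)
    (hL' : Nat.card (P.L' y y') = 20) (hs3 : 3 ∣ P.q (P.tp x)) (hs9 : ∀ c, ¬ 9 ∣ P.q (P.tp x) * 16 * 2 ^ c)
    (hi : ∀ x', P.Opp x x' → P.idx x x' = 1) : False := by
  classical
  have : Fact (Nat.Prime 2) := ⟨Nat.prime_two⟩
  have : Fact (Nat.Prime 3) := ⟨Nat.prime_three⟩
  have hyx : P.adj y x := P.symm hxy
  have hcard5 : Nat.card {w : V // P.adj y w} = 5 := by rw [P.card_nb, ht]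
  let _ : Fintype {w : V // P.adj y w} := Fintype.ofFinite _
  have htop : P.L y = ⊤ := by
    apply eq_top_of_card_eq
    rw [hL, Nat.card_perm, hcard5]
    rfl
  -- every permutation of the neighbours of `y` is induced
  have hall : ∀ σ : Perm {w : V // P.adj y w}, ∃ g, ∃ h : g ∈ P.S y, P.toPerm y ⟨g, h⟩ = σ := by
    intro σ
    have h1 : σ ∈ P.L y := by rw [htop]; trivial
    obtain ⟨g, -, h2, h3⟩ := mem_img.1 h1
    exact ⟨g, h2, h3⟩
  obtain ⟨w, hyw, hwx⟩ : ∃ w, P.adj y w ∧ w ≠ x := by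
    have h1 := card_nb_ne hyx
    rw [ht] at h1
    have : Nonempty {w : V // P.adj y w ∧ w ≠ x} := by
      by_contra hcon
      rw [not_nonempty_iff] at hcon
      rw [Nat.card_of_isEmpty] at h1
      omega
    obtain ⟨w, hw⟩ := this
    exact ⟨w, hw⟩
  obtain ⟨p, hp, hp1, hp2, hp3⟩ := F.extend3 hxy hyw (Ne.symm hwx)
  -- `H p ≤ K y`
  have hidx : P.idx y y' = 6 := by
    have h1 := card_mul_rel (L'_le_L (P := P) (v := y) (v' := y'))
    rw [hL, hL'] at h1
    rw [Pol.idx]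
    omega
  have hT2 : P.T2 y x w = 6 := by
    rw [T2_eq hyx hyw]
    have h1 := card_twoTr (twoTr_L F y) (a := ⟨x, hyx⟩) (b := ⟨w, hyw⟩) (fun h => hwx (congrArg Subtype.val h).symm)
    rw [hL, hcard5] at h1
    omega
  have hHK : P.H p ≤ P.K y := by
    have h1 := F.count_T2 ho hp (i := 1) (by omega) hp2
    rw [hp1, show 1 + 2 = 3 from rfl, hp3, hT2, hidx] at h1
    have h2 : Nat.card ↥(P.K y ⊓ P.H p) = Nat.card ↥(P.H p) := by omega
    have h3 : P.K y ⊓ P.H p = P.H p := eq_of_le_of_card_ge inf_le_right h2.ge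
    exact h3 ▸ inf_le_left
  -- `k` is a power of two
  obtain ⟨c, hc⟩ : ∃ c, Nat.card ↥(P.K x ⊓ P.H p) = 2 ^ c := by
    rw [← IsPGroup.iff_card]
    exact (hA.pgroup hxy).to_le (inf_le_inf_left _ hHK)
  obtain ⟨c1, hc1⟩ : ∃ c, Nat.card ↥(P.K x ⊓ P.K y) = 2 ^ c := by
    rw [← IsPGroup.iff_card]
    exact hA.pgroup hxy
  obtain ⟨x', hx'⟩ := F.exists_opp x
  have hKx : Nat.card ↥(P.K x) = P.q (P.tp x) * 16 * 2 ^ c := by
    have h1 := F.count_opp hx'
    rw [hi x' hx', one_mul, hn, F.card_k hx' hp (i := 1) (by omega) hp1, hc, ← tp_not (P.symm hxy), ht] at h1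
    rw [h1]
    norm_num
  -- the path to `y'`
  obtain ⟨a, p', hp', hp'0, hp'1, hp'2, hp'n⟩ := F.proj_exists ho hyx
  obtain ⟨p2, hp2', hpp⟩ := F.extend (Nat.le_succ _) hp'
  rw [hn] at hpp hp'n
  have e0 : p2 0 = y := by rw [hpp 0 (by omega), hp'0]
  have e1 : p2 1 = x := by rw [hpp 1 (by omega), hp'1]
  have e4 : p2 4 = y' := by rw [hpp 4 (by omega), hp'n]
  have hp2p := hp2'
  rw [hn] at hp2p
  obtain ⟨b, hb⟩ : ∃ b, b = p2 3 := ⟨_, rfl⟩
  obtain ⟨a, ha⟩ : ∃ a, a = p2 2 := ⟨_, rfl⟩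
  have hxa : P.adj x a := by
    have := hp2p.1 1 (by omega)
    rwa [e1, show 1 + 1 = 2 from rfl, ← ha] at this
  have hab : P.adj a b := by
    have := hp2p.1 2 (by omega)
    rwa [← ha, show 2 + 1 = 3 from rfl, ← hb] at this
  have hby : P.adj b y' := by
    have := hp2p.1 3 (by omega)
    rwa [← hb, show 3 + 1 = 4 from rfl, e4] at this
  have hbx : b ≠ x := by
    have := hp2p.2 1 (by omega)
    rwa [e1, show 1 + 2 = 3 from rfl, ← hb] at this
  have hya : y' ≠ a := by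
    have := hp2p.2 2 (by omega)
    rwa [← ha, show 2 + 2 = 4 from rfl, e4] at this
  have htpa : P.tp a = P.tp y := by
    rw [P.tp_adj hxa, P.tp_adj hxy]
  have htpb : P.tp b = P.tp x := by
    rw [P.tp_adj hab, P.tp_adj hxa, Bool.not_not]
  -- the order of `D`
  set B : Subgroup G := P.K x ⊓ P.S b with hB
  set D : Subgroup G := B ⊓ P.S y' with hD
  have hrel1 : B.relIndex (P.K x) ≤ 4 := by
    have h1 := F.relIndex_dvd hxa (P.symm hab) (Ne.symm hbx)
    rw [htpa, ht] at h1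
    exact Nat.le_of_dvd (by norm_num) h1
  have hBa : B ≤ P.S a := inf_le_left.trans (K_le_S_nb hxa)
  have hrel2 : D.relIndex B ≤ P.q (P.tp x) := by
    have h1 : D.relIndex B = (orbit B y').ncard := rel_stab B y'
    rw [h1, ← htpb, ← card_nb_ne (P.symm hab)]
    have h2 : Nat.card {w : V // P.adj b w ∧ w ≠ a} = ({w : V | P.adj b w ∧ w ≠ a}).ncard := rfl
    rw [h2]
    apply Set.ncard_le_ncard _ (Set.toFinite _)
    rintro _ ⟨u, rfl⟩
    have hub : (u : G) • b = b := u.2.2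
    have hua : (u : G) • a = a := hBa u.2
    refine ⟨?_, ?_⟩
    · have h3 := P.smul_adj (u : G) hby
      rw [hub] at h3
      exact h3
    · intro h
      apply hya
      have h4 : (u : G) • y' = (u : G) • a := by
        rw [hua]
        exact h
      exact smul_left_cancel _ h4
  have hDcard : 4 ≤ Nat.card D := by
    have h1 := card_mul_rel (inf_le_left : B ≤ P.K x)
    have h2 := card_mul_rel (inf_le_left : D ≤ B)
    rw [← h2, hKx] at h1
    have hs0 : 0 < P.q (P.tp x) := by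
      have := P.two_le (P.tp x)
      omega
    have h3 : P.q (P.tp x) * 16 * 2 ^ c ≤ Nat.card D * P.q (P.tp x) * 4 := by
      rw [← h1]
      exact Nat.mul_le_mul (Nat.mul_le_mul_left _ hrel2) hrel1
    have h4 : P.q (P.tp x) * 16 ≤ P.q (P.tp x) * 16 * 2 ^ c := Nat.le_mul_of_pos_right _ (by positivity)
    have h5 : P.q (P.tp x) * 16 ≤ P.q (P.tp x) * (Nat.card D * 4) := by
      calc P.q (P.tp x) * 16 ≤ P.q (P.tp x) * 16 * 2 ^ c := h4
        _ ≤ Nat.card D * P.q (P.tp x) * 4 := h3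
        _ = P.q (P.tp x) * (Nat.card D * 4) := by ring
    have h6 := Nat.le_of_mul_le_mul_left h5 hs0
    omega
  -- `D` acts faithfully on the neighbours of `y`
  have hDy : D ≤ P.S y := (inf_le_left.trans inf_le_left).trans (K_le_S_nb hxy)
  have hDK : D ⊓ P.K y = ⊥ := by
    rw [eq_bot_iff]
    rintro g ⟨⟨⟨hg1, hg2⟩, hg3⟩, hg4⟩
    rw [mem_bot]
    have h1 : g ∈ P.K y' := F.K_opp ho ⟨hg4, hg3⟩
    have h2 : g ∈ P.PS P.n p' := F.K_opp_H hp' hp'0 (by rw [hn]; exact hp'n) ⟨hg4, hg3⟩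
    rw [hn, H_fix] at h2
    refine F.rigid (i := 0) hp2' (Nat.zero_le _) (by rw [e0]; exact hg4) (by rw [e1]; exact hg1) ?_
    rw [Pol.H, hn, H_fix]
    intro i hi
    rcases Nat.lt_or_ge i 5 with h | h
    · rw [hpp i (by omega)]
      exact h2 i (by omega)
    · have hi5 : i = 5 := by omega
      rw [hi5]
      apply h1.2
      have := hp2p.1 4 (by omega)
      rwa [e4, show 4 + 1 = 5 from rfl] at this
  have hDimg : Nat.card (P.img y D) = Nat.card D := by
    have := card_img hDy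
    rw [hDK, Subgroup.card_bot, one_mul] at this
    exact this.symm
  have hSt : Nat.card ↥(Stb (P.L' y y') ⟨x, hyx⟩) = 4 := by
    have := card_trans (twoTr_trans (twoTr_L' F ho)) ⟨x, hyx⟩
    rw [hL', hcard5] at this
    omega
  have hDle : P.img y D ≤ Stb (P.L' y y') ⟨x, hyx⟩ := by
    intro σ hσ
    obtain ⟨g, hg, hv, rfl⟩ := mem_img.1 hσ
    exact (mem_Stb_img hyx).2 ⟨g, ⟨hv, hg.2⟩, hv, P.K_le_S x hg.1.1, rfl⟩
  have hDeq : P.img y D = Stb (P.L' y y') ⟨x, hyx⟩ := eq_of_le_of_card_ge hDle (by rw [hSt, hDimg]; exact hDcard)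
  set N := P.img y (P.K x) with hN
  obtain ⟨g0, hg0, hg0s⟩ := odd_stab hcard5 hL' (twoTr_trans (twoTr_L' F ho)) ⟨x, hyx⟩
  have hfull : stabilizer (Perm {w : V // P.adj y w}) (⟨x, hyx⟩ : {w : V // P.adj y w}) ≤ N := by
    apply full_stab hcard5
    · intro σ hσ
      obtain ⟨g, hg, hv, rfl⟩ := mem_img.1 hσ
      exact Subtype.ext (P.K_le_S x hg)
    · intro τ hτ σ hσ
      obtain ⟨g, hg, hv, rfl⟩ := mem_img.1 hσ
      obtain ⟨h, hh, rfl⟩ := hall τ
      have hhx : h ∈ P.S x := congrArg Subtype.val hτ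
      have h3 : h * g * h⁻¹ ∈ P.K x := conj_mem_K hhx hg
      have h4 : P.toPerm y ⟨h * g * h⁻¹, K_le_S_nb hxy h3⟩ =
          P.toPerm y ⟨h, hh⟩ * P.toPerm y ⟨g, hv⟩ * (P.toPerm y ⟨h, hh⟩)⁻¹ := by
        rw [← map_inv, ← map_mul, ← map_mul]
        rfl
      rw [← h4]
      exact toPerm_mem h3 (K_le_S_nb hxy h3)
    · have h1 := card_img (K_le_S_nb hxy)
      rw [hKx, hc1] at h1
      have h2 : 3 ∣ 2 ^ c1 * Nat.card (P.img y (P.K x)) := by
        rw [← h1, mul_assoc]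
        exact hs3.mul_right _
      rcases Nat.prime_three.dvd_mul.1 h2 with h3 | h3
      · exact absurd (Nat.prime_three.dvd_of_dvd_pow h3) (by norm_num)
      · exact h3
    · refine ⟨g0, ?_, hg0s⟩
      rw [← hDeq] at hg0
      exact img_mono (inf_le_left.trans inf_le_left) hg0
  -- the same for `w`
  obtain ⟨g, hgy, hgx, -⟩ := F.two_trans hyx hyw (Ne.symm hwx) hyw hyx hwx
  have hfullw : ∀ σ : Perm {w : V // P.adj y w}, σ ⟨w, hyw⟩ = ⟨w, hyw⟩ → σ ∈ P.img y (P.K w) := by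
    intro σ hσ
    obtain ⟨γ, hγ⟩ : ∃ γ, γ = P.toPerm y ⟨g, hgy⟩ := ⟨_, rfl⟩
    have hγx : γ ⟨x, hyx⟩ = ⟨w, hyw⟩ := by
      rw [hγ]
      exact Subtype.ext hgx
    have h1 : γ⁻¹ * σ * γ ∈ N := by
      apply hfull
      change (γ⁻¹ * σ * γ) ⟨x, hyx⟩ = ⟨x, hyx⟩
      rw [Perm.mul_apply, Perm.mul_apply, hγx, hσ, ← hγx, ← Perm.mul_apply, inv_mul_cancel]
      rfl
    obtain ⟨k, hk, hky, h2⟩ := mem_img.1 h1
    have h3 : g * k * g⁻¹ ∈ P.K w := by
      have := conj_K_smul (g := g) hk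
      rwa [hgx] at this
    have h4 : P.toPerm y ⟨g * k * g⁻¹, K_le_S_nb (P.symm hyw) h3⟩ = σ := by
      have h5 : (⟨g * k * g⁻¹, K_le_S_nb (P.symm hyw) h3⟩ : P.S y) = ⟨g, hgy⟩ * ⟨k, hky⟩ * ⟨g, hgy⟩⁻¹ := rfl
      rw [h5, map_mul, map_mul, map_inv, ← hγ, h2]
      group
    rw [← h4]
    exact toPerm_mem h3 _
  -- the commutator
  obtain ⟨α, β, hα, hαw, hβ, hβw, hord⟩ := exists_comm hcard5 (⟨x, hyx⟩ : {w : V // P.adj y w}) ⟨w, hyw⟩
  obtain ⟨r1, hr1, hr1y, h1⟩ := mem_img.1 (hfull (show α ∈ stabilizer _ _ from hα))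
  obtain ⟨r2, hr2, hr2y, h2⟩ := mem_img.1 (hfull (show β ∈ stabilizer _ _ from hβ))
  obtain ⟨t1, ht1, ht1y, h3⟩ := mem_img.1 (hfullw α hαw)
  have hr1w : r1 ∈ P.S w := by
    rw [← h1] at hαw
    exact congrArg Subtype.val hαw
  have hr2w : r2 ∈ P.S w := by
    rw [← h2] at hβw
    exact congrArg Subtype.val hβw
  have hz : t1⁻¹ * r1 ∈ P.K y := by
    have h4 : P.toPerm y (⟨t1, ht1y⟩⁻¹ * ⟨r1, hr1y⟩) = 1 := by
      rw [map_mul, map_inv, h3, h1, inv_mul_cancel]
    exact (toPerm_eq_one _).1 h4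
  have h4 := comm_mem hxy hyw hc1 hr1 hr2 hr1w hr2w ht1 hz
  have h5 : 3 ∣ Nat.card ↥(P.K x ⊓ P.K w) := by
    have h6 : r1 * r2 * r1⁻¹ * r2⁻¹ ∈ P.S y :=
      mul_mem (mul_mem (mul_mem hr1y hr2y) (inv_mem hr1y)) (inv_mem hr2y)
    have h7 : P.toPerm y ⟨(r1 * r2 * r1⁻¹ * r2⁻¹) ^ 2 ^ c1, pow_mem h6 _⟩ = (α * β * α⁻¹ * β⁻¹) ^ 2 ^ c1 := by
      have h8 : (⟨(r1 * r2 * r1⁻¹ * r2⁻¹) ^ 2 ^ c1, pow_mem h6 _⟩ : P.S y) =
          (⟨r1, hr1y⟩ * ⟨r2, hr2y⟩ * ⟨r1, hr1y⟩⁻¹ * ⟨r2, hr2y⟩⁻¹) ^ 2 ^ c1 := rfl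
      rw [h8, map_pow, map_mul, map_mul, map_mul, map_inv, map_inv, h1, h2]
    have h8 : orderOf ((α * β * α⁻¹ * β⁻¹) ^ 2 ^ c1) = 3 := by
      rw [← hord]
      apply Nat.Coprime.orderOf_pow
      rw [hord]
      exact Nat.Coprime.pow_right _ (by norm_num)
    have h9 : orderOf ((α * β * α⁻¹ * β⁻¹) ^ 2 ^ c1) ∣ orderOf ((r1 * r2 * r1⁻¹ * r2⁻¹) ^ 2 ^ c1) := by
      rw [← h7]
      refine (orderOf_map_dvd _ _).trans ?_
      rw [← orderOf_coe]
    rw [h8] at h9
    refine h9.trans ?_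
    have h10 := _root_.orderOf_dvd_natCard (⟨_, h4⟩ : ↥(P.K x ⊓ P.K w))
    rwa [← orderOf_coe] at h10
  -- counting
  have h6 := F.count_main (r := 3) (i := 1) (x' := x') Nat.prime_three hp (by omega) (by rw [hp1]; exact hx')
  rw [hp1, show 1 + 2 = 3 from rfl, hp3, hi x' hx', Nat.factorization_one] at h6
  have hs0 : P.q (P.tp x) ≠ 0 := by
    have := P.two_le (P.tp x)
    omega
  have f1 : 1 ≤ (P.q (P.tp x)).factorization 3 := Nat.prime_three.factorization_pos_of_dvd hs0 hs3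
  have f2 : 1 ≤ (Nat.card ↥(P.K x ⊓ P.K w)).factorization 3 :=
    Nat.prime_three.factorization_pos_of_dvd Nat.card_pos.ne' h5
  have f3 : (Nat.card ↥(P.K x ⊓ P.K w ⊓ P.H p)).factorization 3 = 0 := by
    apply Nat.factorization_eq_zero_of_not_dvd
    intro h
    have h7 : 3 ∣ 2 ^ c := by
      rw [← hc]
      exact h.trans (card_dvd_of_le (inf_le_inf_right _ inf_le_left))
    exact absurd (Nat.prime_three.dvd_of_dvd_pow h7) (by norm_num)
  have f4 : (Nat.card ↥(P.K x ⊓ P.S w)).factorization 3 ≤ 1 := by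
    by_contra hcon
    push Not at hcon
    apply hs9 c
    rw [← hKx]
    refine dvd_trans ?_ (card_dvd_of_le (inf_le_left : P.K x ⊓ P.S w ≤ P.K x))
    have h7 : 3 ^ 2 ∣ Nat.card ↥(P.K x ⊓ P.S w) :=
      (pow_dvd_pow 3 hcon).trans (Nat.ordProj_dvd _ 3)
    simpa only [_root_.Subgroup.mem_inf, _root_.MulAction.mem_stabilizer_iff, _root_.Nat.reducePow] using h7
  simp only [Finsupp.coe_zero, Pi.zero_apply] at h6
  omega

/-! ### numerical conditions -/

theorem num4 {s : ℕ} (h2 : 2 ≤ s) (h16 : s ≤ 16) (hd : (s + 4) ∣ 2 * s * 4 * (1 + s) * (1 + 4)) :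
    (∃ k, s = 2 ^ k) ∨ s = 6 ∨ s = 11 ∨ s = 12 := by
  interval_cases s
  · exact Or.inl ⟨1, rfl⟩
  · exact absurd hd (by decide)
  · exact Or.inl ⟨2, rfl⟩
  · exact absurd hd (by decide)
  · exact Or.inr (Or.inl rfl)
  · exact absurd hd (by decide)
  · exact Or.inl ⟨3, rfl⟩
  · exact absurd hd (by decide)
  · exact absurd hd (by decide)
  · exact Or.inr (Or.inr (Or.inl rfl))
  · exact Or.inr (Or.inr (Or.inr rfl))
  · exact absurd hd (by decide)
  · exact absurd hd (by decide)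
  · exact absurd hd (by decide)
  · exact Or.inl ⟨4, rfl⟩

theorem num6 {s g : ℕ} (h2 : 2 ≤ s) (h64 : s ≤ 64) (hg : s * 4 = g ^ 2)
    (h1 : (s + 4 + g) ∣ g ^ 2 * (1 + s) * (1 + 4) * (1 + g ^ 2 + g))
    (h3 : (s + 4 - g) ∣ g ^ 2 * (1 + s) * (1 + 4) * (1 + g ^ 2 - g)) : ∃ k, s = 2 ^ k := by
  have hg16 : g ≤ 16 := by
    by_contra hcon
    have : 17 ^ 2 ≤ g ^ 2 := Nat.pow_le_pow_left (by omega) 2
    omega
  interval_cases g
  · omega
  · omega
  · omega
  · omega
  · exact ⟨2, by omega⟩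
  · omega
  · have : s = 9 := by omega
    subst this
    exact absurd h1 (by decide)
  · omega
  · exact ⟨4, by omega⟩
  · omega
  · have : s = 25 := by omega
    subst this
    exact absurd h3 (by decide)
  · omega
  · have : s = 36 := by omega
    subst this
    exact absurd h1 (by decide)
  · omega
  · have : s = 49 := by omega
    subst this
    exact absurd h1 (by decide)
  · omega
  · exact ⟨6, by omega⟩

theorem num8 {s h : ℕ} (h2 : 2 ≤ s) (h16 : s ≤ 16) (hh : 2 * s * 4 = h ^ 2) : ∃ k, s = 2 ^ k := by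
  have hh12 : h ≤ 11 := by
    by_contra hcon
    have : 12 ^ 2 ≤ h ^ 2 := Nat.pow_le_pow_left (by omega) 2
    omega
  interval_cases h
  all_goals first
    | (clear * - h2 h16 hh; omega)
    | exact ⟨1, by omega⟩
    | exact ⟨3, by omega⟩

theorem num_cases (N : Num P) {x y : V} (hxy : P.adj x y) (ht : P.q (P.tp y) = 4) :
    (∃ k, P.q (P.tp x) = 2 ^ k) ∨
      (P.n = 4 ∧ (P.q (P.tp x) = 6 ∨ P.q (P.tp x) = 11 ∨ P.q (P.tp x) = 12)) := by
  have htp := tp_not hxy
  have h2 := P.two_le (P.tp x)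
  rcases P.hn with hn | hn | hn
  · have h1 := N.hig48 (Or.inl hn) (P.tp x)
    have h3 := N.fh4 hn
    have h4 : (P.q (P.tp x) + 4) ∣ 2 * P.q (P.tp x) * 4 * (1 + P.q (P.tp x)) * (1 + 4) := by
      cases hty : P.tp y
      · rw [hty] at htp ht
        rw [htp, Bool.not_false, ← ht]
        exact h3
      · rw [hty] at htp ht
        rw [htp, Bool.not_true, ← ht]
        convert h3 using 1
        · ring
        · ring
    have h5 : P.q (P.tp x) ≤ 16 := by
      rw [htp, Bool.not_not, ht, ← htp] at h1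
      simpa using h1
    rcases num4 h2 h5 h4 with h6 | h6
    · exact Or.inl h6
    · exact Or.inr ⟨hn, h6⟩
  · left
    have h1 := N.hig6 hn (P.tp x)
    obtain ⟨g, h3, h4, h5⟩ := N.fh6 hn
    have h6 : P.q (P.tp x) ≤ 64 := by
      rw [htp, Bool.not_not, ht, ← htp] at h1
      simpa using h1
    cases hty : P.tp y
    · rw [hty] at htp ht
      rw [Bool.not_false] at htp
      rw [ht, ← htp] at h3 h4 h5
      exact num6 h2 h6 h3 h4 h5
    · rw [hty] at htp ht
      rw [Bool.not_true] at htp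
      rw [ht, ← htp] at h3 h4 h5
      refine num6 h2 h6 ((mul_comm _ _).trans h3) ?_ ?_
      · convert h4 using 1
        · ring
        · ring
      · convert h5 using 1
        · rw [add_comm]
        · rw [mul_right_comm (g ^ 2)]
  · left
    have h1 := N.hig48 (Or.inr hn) (P.tp x)
    obtain ⟨h, h3, -⟩ := N.fh8 hn
    have h6 : P.q (P.tp x) ≤ 16 := by
      rw [htp, Bool.not_not, ht, ← htp] at h1
      simpa using h1
    cases hty : P.tp y
    · rw [hty] at htp ht
      rw [Bool.not_false] at htp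
      rw [ht, ← htp] at h3
      exact num8 h2 h6 h3
    · rw [hty] at htp ht
      rw [Bool.not_true] at htp
      rw [ht, ← htp] at h3
      refine num8 (h := h) h2 h6 ?_
      rw [← h3]
      ring

/-- E4, from the table `StTab1a` of 2-transitive groups -/
theorem e4_of_tab (hT : StTab1a.{v}) : StE4.{u, v} := by
  intro G _ _ V _ _ P F N hA x y y' hxy ho ht hL hL'
  rcases num_cases N hxy ht with h | ⟨hn, h | h | h⟩
  · exact h
  · exfalso
    refine main_contra F hA hn hxy ho ht hL hL' (by rw [h]; norm_num) ?_ (fun x' hx' => idx_seven F hA hxy h hx')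
    intro c hc
    rw [h] at hc
    have h1 : 3 * 3 ∣ 3 * (2 ^ 5 * 2 ^ c) := by
      convert hc using 1
      ring
    have h2 := Nat.dvd_of_mul_dvd_mul_left (by norm_num) h1
    rw [← pow_add] at h2
    exact absurd (Nat.prime_three.dvd_of_dvd_pow h2) (by norm_num)
  · exfalso
    have := s_even F hA hxy
    omega
  · exfalso
    refine main_contra F hA hn hxy ho ht hL hL' (by rw [h]; norm_num) ?_ (fun x' hx' => idx_thirteen hT F hA hxy h hx')
    intro c hc
    rw [h] at hc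
    have h1 : 3 * 3 ∣ 3 * (2 ^ 6 * 2 ^ c) := by
      convert hc using 1
      ring
    have h2 := Nat.dvd_of_mul_dvd_mul_left (by norm_num) h1
    rw [← pow_add] at h2
    exact absurd (Nat.prime_three.dvd_of_dvd_pow h2) (by norm_num)

end Cfsg.Agent.H592.E4

private theorem dce_6ec1d9f43da0 : _root_.True := by
  try have : _root_.True := by simp only [_root_.Cfsg.Agent.H873.Tits.Pol.idx.eq_1]
  try have : _root_.True := by simp only [_root_.Cfsg.Agent.H873.Tits.Pol.H.eq_1]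
  try have : _root_.True := by simp only [_root_.Cfsg.Agent.H873.Tits.Pol.img.eq_1]
  try have : _root_.True := by simp only [_root_.Cfsg.Agent.H873.Tits.Pol.PS.eq_1]
  try have : _root_.True := by simp only [_root_.Cfsg.Agent.H873.Tits.Pol.T2.eq_1]
  exact _root_.True.intro
end

-- part: H115/Tits/TabNum
section
set_option linter.all false
open scoped Cfsg.Agent.FastGrp

/-!
# S3414: numerical lemmas for the table `TabSq` (helper115)

`s ^ 2 (s + 1)` does not divide `|Aut T|` for the socle `T` of a 2-transitive group of degree `s + 1`.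
-/

set_option autoImplicit false

namespace Cfsg.Agent.H115.Tits

open Finset Cfsg.Agent.H163.PG

theorem lt_pow_self' {p f : ℕ} (hp : 2 ≤ p) : f < p ^ f := Nat.lt_pow_self (by omega)

/-- `q - 1` and `q + 1` are prime to `q` -/
theorem coprime_pred {q : ℕ} (k : ℕ) (hk : 1 ≤ k) (hq : 2 ≤ q) : q.Coprime (q ^ k - 1) := by
  have h1 : q ∣ q ^ k := dvd_pow_self q (by omega)
  have h2 : 1 ≤ q ^ k := Nat.one_le_pow _ _ (by omega)
  rw [Nat.coprime_iff_gcd_eq_one, ← Nat.dvd_one]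
  have h3 := Nat.gcd_dvd_right q (q ^ k - 1)
  have h4 := (Nat.gcd_dvd_left q (q ^ k - 1)).trans h1
  exact (Nat.dvd_sub_iff_right h2 h4).1 h3

theorem coprime_succ {q : ℕ} (k : ℕ) (hk : 1 ≤ k) : q.Coprime (q ^ k + 1) := by
  have h1 : q ∣ q ^ k := dvd_pow_self q (by omega)
  rw [Nat.coprime_iff_gcd_eq_one, ← Nat.dvd_one]
  have h3 := Nat.gcd_dvd_right q (q ^ k + 1)
  have h4 := (Nat.gcd_dvd_left q (q ^ k + 1)).trans h1
  exact (Nat.dvd_add_right h4).1 h3

/-- `PSL₂(q)`, `s = q` -/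
theorem num_psl2 {p f q : ℕ} (hp : 2 ≤ p) (hf : 1 ≤ f) (hq : q = p ^ f)
    (h : (q + 1) * (q * q) ∣ q * (q ^ 2 - 1) * f) : False := by
  have hq2 : 2 ≤ q := by
    rw [hq]
    calc 2 ≤ p := hp
      _ = p ^ 1 := (pow_one p).symm
      _ ≤ p ^ f := Nat.pow_le_pow_right (by omega) hf
  have h1 : q * q ∣ q * ((q ^ 2 - 1) * f) := by
    rw [← mul_assoc]
    exact (Dvd.intro_left _ rfl).trans h
  have h2 : q ∣ (q ^ 2 - 1) * f := Nat.dvd_of_mul_dvd_mul_left (by omega) h1
  have h3 : q ∣ f := (coprime_pred 2 (by norm_num) hq2).dvd_of_dvd_mul_left h2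
  have h4 := Nat.le_of_dvd hf h3
  have h5 := lt_pow_self' (f := f) hp
  omega

/-- `PSU₃(q)`, `s = q³` -/
theorem num_psu {p f q : ℕ} (hp : 2 ≤ p) (hf : 1 ≤ f) (hq : q = p ^ f)
    (h : (q ^ 3 + 1) * (q ^ 3 * q ^ 3) ∣ q ^ 3 * ((q ^ 2 - 1) * (q ^ 3 + 1)) * (2 * f)) : False := by
  have hq2 : 2 ≤ q := by
    rw [hq]
    calc 2 ≤ p := hp
      _ = p ^ 1 := (pow_one p).symm
      _ ≤ p ^ f := Nat.pow_le_pow_right (by omega) hf
  have h0 : 0 < q ^ 3 := by positivity
  have h1 : q ^ 3 * q ^ 3 ∣ q ^ 3 * ((q ^ 2 - 1) * (q ^ 3 + 1) * (2 * f)) := by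
    rw [← mul_assoc (q ^ 3) ((q ^ 2 - 1) * (q ^ 3 + 1)) (2 * f)]
    exact (Dvd.intro_left _ rfl).trans h
  have h2 : q ^ 3 ∣ (q ^ 2 - 1) * (q ^ 3 + 1) * (2 * f) := Nat.dvd_of_mul_dvd_mul_left h0 h1
  have h3 : q ^ 3 ∣ 2 * f := by
    refine Nat.Coprime.dvd_of_dvd_mul_left ?_ h2
    exact Nat.Coprime.mul_right ((coprime_pred 2 (by norm_num) hq2).pow_left 3)
      ((coprime_succ 3 (by norm_num)).pow_left 3)
  have h4 := Nat.le_of_dvd (by omega) h3
  have h5 := lt_pow_self' (f := f) hp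
  have h6 : 2 * q ≤ q ^ 3 := by nlinarith [Nat.mul_le_mul hq2 hq2]
  omega

/-- `Sz(q)`, `s = q²` -/
theorem num_sz {m : ℕ} (hm : 1 ≤ m) {q : ℕ} (hq : q = 2 ^ (2 * m + 1))
    (h : (q ^ 2 + 1) * (q ^ 2 * q ^ 2) ∣ q ^ 2 * (q - 1) * (q ^ 2 + 1) * (2 * m + 1)) : False := by
  have hq2 : 2 ≤ q := by
    rw [hq]
    calc 2 = 2 ^ 1 := rfl
      _ ≤ 2 ^ (2 * m + 1) := Nat.pow_le_pow_right (by norm_num) (by omega)
  have h0 : 0 < q ^ 2 := by positivity
  have h1 : q ^ 2 * q ^ 2 ∣ q ^ 2 * ((q - 1) * (q ^ 2 + 1) * (2 * m + 1)) := by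
    have e : q ^ 2 * ((q - 1) * (q ^ 2 + 1) * (2 * m + 1)) = q ^ 2 * (q - 1) * (q ^ 2 + 1) * (2 * m + 1) := by ring
    rw [e]
    exact (Dvd.intro_left _ rfl).trans h
  have h2 : q ^ 2 ∣ (q - 1) * (q ^ 2 + 1) * (2 * m + 1) := Nat.dvd_of_mul_dvd_mul_left h0 h1
  have hc := coprime_pred (q := q) 1 le_rfl hq2
  rw [pow_one] at hc
  have h3 : q ^ 2 ∣ 2 * m + 1 := by
    refine Nat.Coprime.dvd_of_dvd_mul_left ?_ h2
    exact Nat.Coprime.mul_right (hc.pow_left 2) ((coprime_succ 2 (by norm_num)).pow_left 2)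
  have h4 := Nat.le_of_dvd (by omega) h3
  have h5 := lt_pow_self' (p := 2) (f := 2 * m + 1) le_rfl
  have h6 : q ≤ q ^ 2 := Nat.le_self_pow (by norm_num) q
  omega

/-- `²G₂(q)`, `s = q³` -/
theorem num_ree {m : ℕ} (hm : 1 ≤ m) {q : ℕ} (hq : q = 3 ^ (2 * m + 1))
    (h : (q ^ 3 + 1) * (q ^ 3 * q ^ 3) ∣ q ^ 3 * (q - 1) * (q ^ 3 + 1) * (2 * m + 1)) : False := by
  have hq2 : 2 ≤ q := by
    rw [hq]
    calc 2 ≤ 3 ^ 1 := by norm_num
      _ ≤ 3 ^ (2 * m + 1) := Nat.pow_le_pow_right (by norm_num) (by omega)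
  have h0 : 0 < q ^ 3 := by positivity
  have h1 : q ^ 3 * q ^ 3 ∣ q ^ 3 * ((q - 1) * (q ^ 3 + 1) * (2 * m + 1)) := by
    have e : q ^ 3 * ((q - 1) * (q ^ 3 + 1) * (2 * m + 1)) = q ^ 3 * (q - 1) * (q ^ 3 + 1) * (2 * m + 1) := by ring
    rw [e]
    exact (Dvd.intro_left _ rfl).trans h
  have h2 : q ^ 3 ∣ (q - 1) * (q ^ 3 + 1) * (2 * m + 1) := Nat.dvd_of_mul_dvd_mul_left h0 h1
  have hc := coprime_pred (q := q) 1 le_rfl hq2
  rw [pow_one] at hc
  have h3 : q ^ 3 ∣ 2 * m + 1 := by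
    refine Nat.Coprime.dvd_of_dvd_mul_left ?_ h2
    exact Nat.Coprime.mul_right (hc.pow_left 3) ((coprime_succ 3 (by norm_num)).pow_left 3)
  have h4 := Nat.le_of_dvd (by omega) h3
  have h5 := lt_pow_self' (p := 3) (f := 2 * m + 1) (by norm_num)
  have h6 : q ≤ q ^ 3 := Nat.le_self_pow (by norm_num) q
  omega

/-- a prime `r` with `v_r(s) = v_r(X) ≥ 1`, `v_r(N) ≤ v_r(X)`: `s² ∤ N` -/
theorem not_sq_dvd {r s N M : ℕ} (hr : r.Prime) (hs : r ∣ s) (hN : N ≠ 0) (h : s * s ∣ N)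
    (hv : N.factorization r ≤ M.factorization r) (hM : M.factorization r ≤ s.factorization r) : False := by
  have hs0 : s ≠ 0 := by
    rintro rfl
    rw [mul_zero, zero_dvd_iff] at h
    exact hN h
  have h1 : (s * s).factorization r ≤ N.factorization r := (Nat.factorization_le_iff_dvd (mul_ne_zero hs0 hs0) hN).2 h r
  rw [Nat.factorization_mul hs0 hs0, Finsupp.add_apply] at h1
  have h2 : 1 ≤ s.factorization r := (hr.dvd_iff_one_le_factorization hs0).1 hs
  omega

/-- the valuation of a product, all but one factor of which are prime to `r` -/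
theorem factorization_prod_le {r : ℕ} {k j : ℕ} (a : ℕ → ℕ) (h0 : ∀ i, a i ≠ 0)
    (h : ∀ i ∈ range k, i ≠ j → ¬ r ∣ a i) : (∏ i ∈ range k, a i).factorization r ≤ (a j).factorization r := by
  rw [Nat.factorization_prod fun i _ => h0 i, Finsupp.finsetSum_apply]
  by_cases hj : j ∈ range k
  · rw [← Finset.add_sum_erase _ _ hj]
    have : ∑ i ∈ (range k).erase j, (a i).factorization r = 0 := by
      apply Finset.sum_eq_zero
      intro i hi
      rw [Finset.mem_erase] at hi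
      exact Nat.factorization_eq_zero_of_not_dvd (h i hi.2 hi.1)
    rw [this, add_zero]
  · have : ∑ i ∈ range k, (a i).factorization r = 0 := by
      apply Finset.sum_eq_zero
      intro i hi
      exact Nat.factorization_eq_zero_of_not_dvd (h i hi (fun h' => hj (h' ▸ hi)))
    rw [this]
    exact Nat.zero_le _

end Cfsg.Agent.H115.Tits
end

-- part: H115/Tits/StmtsC
section
set_option linter.all false
open scoped Cfsg.Agent.FastGrp

/-!
# S3414, case (B): the statement TabSq (helper115)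

Only used in the two pieces `StB0`, `StBE1` (`E = 1`), where the order of the two point stabilizer is divisible by
`(s t) ^ (m-1)`, in particular by `t` = degree minus one.
-/

set_option autoImplicit false

namespace Cfsg.Agent.H115.Tits

open Cfsg.Agent.H873.Tits Cfsg.Agent.H384.TwoTrans

universe u v w

/-- TABSQ: a non-affine 2-transitive group of degree `t + 1` such that `t` divides the order of the two point stabilizer
contains the alternating group or is of type `PSL_d`, `d ≥ 3`.  (All other rows of `H384.TwoTransMain.main`: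
`(t+1) t² ∤ |T| |Out T|`, numerics in `H115.Tits.TabNum`.) -/
def StTabSq : Prop := ∀ {Ω : Type v} [Finite Ω] (L : Subgroup (Equiv.Perm Ω)) (a b : Ω), TwoTr L → 3 ≤ Nat.card Ω →
  a ≠ b → ¬ Aff L → Nat.card Ω - 1 ∣ Nat.card ↥(Stb L a ⊓ Stb L b) → AltLe L ∨ ∃ p d f, PSLType L p d f

/-- the input of a row of TABSQ -/
structure DatSq {G : Type u} (Ω : Type v) [Group G] [MulAction G Ω] (T : Subgroup G) (t T₂ : ℕ) : Prop where
  A : AS G Ω T
  hΩ : Nat.card Ω = t + 1
  hG : Nat.card G = (t + 1) * t * T₂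
  t2 : 2 ≤ t
  sq : t ∣ T₂

/-- the output of a row of TABSQ -/
def RowSq (T : Type u) [Group T] (t : ℕ) : Prop :=
  2 * Nat.card T = (t + 1).factorial ∨
  (∃ p d f : ℕ, 3 ≤ d ∧ 1 ≤ f ∧ p.Prime ∧ (t + 1) * (p ^ f - 1) = (p ^ f) ^ d - 1 ∧
    ∃ (F : Type) (_ : Field F) (_ : Fintype F), Fintype.card F = p ^ f ∧
      Nonempty (T ≃* Matrix.ProjectiveSpecialLinearGroup (Fin d) F))

variable {G : Type u} {Ω : Type v} [Group G] [MulAction G Ω] {T : Subgroup G} {t T₂ : ℕ}

/-- `(t+1) t²` divides `|S| |Out S|` -/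
theorem DatSq.dvd (D : DatSq Ω T t T₂) {S : Type w} [Group S] (e : ↥T ≃* S) :
    (t + 1) * (t * t) ∣ Nat.card S * Nat.card (Cfsg.Out S) := by
  have := D.A.finG
  have := D.A.normal
  have h1 := Cfsg.Agent.H163.PG.card_dvd_mul_out T e D.A.cent
  rw [D.hG] at h1
  refine Dvd.dvd.trans ?_ h1
  rw [← mul_assoc]
  exact Nat.mul_dvd_mul_left _ D.sq

end Cfsg.Agent.H115.Tits
end

-- part: H270/Tits/Elat
section
prune_inst 0x510342455e2100400180010f2201c4292000402004880002822070207c80c60a0442861a12005121a30084508300048151018a4622000000a000000011c048100008000a1080108000010000000000000000000000000000000000000000000200000000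
set_option linter.all false
open scoped Cfsg.Agent.FastGrp

/-!
# Elations (helper270)

`G` acts faithfully on `Ω`, `T` is a normal subgroup which acts on `Ω = ℙ(F^n)`, `n ≥ 3`, as `PSL_n(F)`.  For a point `a`
with vector `v` the group `El v` of the elations with centre `a`:

* `El.conj` : it is normal in the stabilizer of `a` in `G`;
* `El.second` : every element fixes a second point;
* `El.cent` : elements of order prime to `p` of the stabilizer of `a` in `G` centralizing it are trivial.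
-/

set_option autoImplicit false

namespace Cfsg.Agent.H270.Tits.Elat

open scoped LinearAlgebra.Projectivization
open Module

universe u v w

variable {F : Type w} [Field F] {n : ℕ}

/-! ## linear algebra -/

theorem exists_dual_one {v w : Fin n → F} (h : w ∉ Submodule.span F {v}) (c : F) :
    ∃ f : Dual F (Fin n → F), f v = 0 ∧ f w = c := by
  obtain ⟨f, hf, hfW⟩ := Submodule.exists_le_ker_of_notMem h
  refine ⟨(c * (f w)⁻¹) • f, ?_, ?_⟩
  · rw [LinearMap.smul_apply, show f v = 0 from hfW (Submodule.mem_span_singleton_self v), smul_zero]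
  · rw [LinearMap.smul_apply, smul_eq_mul, inv_mul_cancel_right₀ hf]

theorem exists_dual_two {v w w' : Fin n → F} (h : w' ∉ Submodule.span F {v, w}) :
    ∃ f : Dual F (Fin n → F), f v = 0 ∧ f w = 0 ∧ f w' ≠ 0 := by
  obtain ⟨f, hf, hfW⟩ := Submodule.exists_le_ker_of_notMem h
  exact ⟨f, hfW (Submodule.subset_span (by simp)), hfW (Submodule.subset_span (by simp)), hf⟩

theorem finrank_span_pair_le (v w : Fin n → F) : finrank F (Submodule.span F ({v, w} : Set (Fin n → F))) ≤ 2 := by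
  classical
  have h := finrank_span_finset_le_card (R := F) ({v, w} : Finset (Fin n → F))
  have h2 : ({v, w} : Finset (Fin n → F)).card ≤ 2 := Finset.card_le_two
  have h3 : ((({v, w} : Finset (Fin n → F)) : Set (Fin n → F))) = {v, w} := by simp
  rw [h3] at h
  exact h.trans h2

theorem exists_notMem_span_pair (h3 : 3 ≤ n) (v w : Fin n → F) : ∃ u, u ∉ Submodule.span F ({v, w} : Set (Fin n → F)) := by
  by_contra hcon
  push Not at hcon
  have h1 : Submodule.span F ({v, w} : Set (Fin n → F)) = ⊤ := by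
    rw [eq_top_iff]
    intro x _
    exact hcon x
  have h2 := finrank_span_pair_le v w
  rw [h1, finrank_top, finrank_fintype_fun_eq_card, Fintype.card_fin] at h2
  omega

/-- a functional has a zero outside a given line -/
theorem exists_zero (h3 : 3 ≤ n) (f : Dual F (Fin n → F)) (v : Fin n → F) :
    ∃ w, f w = 0 ∧ w ∉ Submodule.span F {v} := by
  by_cases hf : ∃ u, f u ≠ 0
  · obtain ⟨u, hu⟩ := hf
    obtain ⟨x, hx⟩ := exists_notMem_span_pair h3 v u
    refine ⟨x - (f x * (f u)⁻¹) • u, ?_, ?_⟩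
    · rw [map_sub, map_smul, smul_eq_mul, inv_mul_cancel_right₀ hu, sub_self]
    · intro h
      apply hx
      have h1 : x = (x - (f x * (f u)⁻¹) • u) + (f x * (f u)⁻¹) • u := by rw [sub_add_cancel]
      rw [h1]
      refine Submodule.add_mem _ (Submodule.span_mono (by simp) h) (Submodule.smul_mem _ _ (Submodule.subset_span (by simp)))
  · push Not at hf
    obtain ⟨x, hx⟩ := exists_notMem_span_pair h3 v v
    refine ⟨x, hf x, ?_⟩
    simpa using hx

theorem mem_span_of_dual {v x : Fin n → F} (h : ∀ f : Dual F (Fin n → F), f v = 0 → f x = 0) :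
    x ∈ Submodule.span F {v} := by
  by_contra hx
  obtain ⟨f, hf, hfW⟩ := Submodule.exists_le_ker_of_notMem hx
  exact hf (h f (hfW (Submodule.mem_span_singleton_self v)))

/-- a transvection as an element of `SL` -/
theorem exists_transv (f : Dual F (Fin n → F)) (v : Fin n → F) (h : f v = 0) :
    ∃ s : Matrix.SpecialLinearGroup (Fin n) F, ∀ w, s.1.mulVec w = w + f w • v := by
  refine ⟨⟨LinearMap.toMatrix' (LinearMap.transvection f v), ?_⟩, fun w => ?_⟩
  · rw [LinearMap.det_toMatrix', LinearMap.transvection.det, h, add_zero]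
  · show (LinearMap.toMatrix' (LinearMap.transvection f v)).mulVec w = _
    rw [LinearMap.toMatrix'_mulVec, LinearMap.transvection.apply]

theorem inv_mulVec (s : Matrix.SpecialLinearGroup (Fin n) F) (w : Fin n → F) : s⁻¹.1.mulVec (s.1.mulVec w) = w := by
  rw [Matrix.mulVec_mulVec, ← Matrix.SpecialLinearGroup.coe_mul, inv_mul_cancel, Matrix.SpecialLinearGroup.coe_one,
    Matrix.one_mulVec]

theorem mulVec_inv (s : Matrix.SpecialLinearGroup (Fin n) F) (w : Fin n → F) : s.1.mulVec (s⁻¹.1.mulVec w) = w := by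
  rw [Matrix.mulVec_mulVec, ← Matrix.SpecialLinearGroup.coe_mul, mul_inv_cancel, Matrix.SpecialLinearGroup.coe_one,
    Matrix.one_mulVec]

theorem mulVec_ne {s : Matrix.SpecialLinearGroup (Fin n) F} {w : Fin n → F} (hw : w ≠ 0) : s.1.mulVec w ≠ 0 := by
  intro h
  apply hw
  rw [← inv_mulVec s w, h, Matrix.mulVec_zero]

/-- either `s` is a multiple of a transvection with centre `v` or some commutator with a transvection with centre `v`
is a nontrivial one -/
theorem lin_dich {s : Matrix.SpecialLinearGroup (Fin n) F} {v : Fin n → F} (hv : v ≠ 0) {μ : F}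
    (hμ : s.1.mulVec v = μ • v) (hμ0 : μ ≠ 0) :
    (∃ f : Dual F (Fin n → F), f v = 0 ∧ ∀ w, s.1.mulVec w = μ • (w + f w • v)) ∨
      ∃ f h : Dual F (Fin n → F), f v = 0 ∧ h v = 0 ∧ h ≠ 0 ∧ ∀ w,
        s.1.mulVec (s⁻¹.1.mulVec (w - f w • v) + f (s⁻¹.1.mulVec (w - f w • v)) • v) = w + h w • v := by
  let S' : (Fin n → F) →ₗ[F] (Fin n → F) := s⁻¹.1.mulVecLin
  have hS' : ∀ w, S' w = s⁻¹.1.mulVec w := fun w => rfl
  have hS'v : μ • S' v = v := by
    have h1 := inv_mulVec s v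
    rw [hμ, Matrix.mulVec_smul] at h1
    exact h1
  by_cases hall : ∀ f : Dual F (Fin n → F), f v = 0 → ∀ w, μ * f (S' w) = f w
  · left
    let D : (Fin n → F) →ₗ[F] (Fin n → F) := μ • S' - LinearMap.id
    have hD : ∀ w, D w = μ • S' w - w := fun w => rfl
    have hr : ∀ w, ∃ k : F, D w = k • v := by
      intro w
      have h1 : D w ∈ Submodule.span F {v} := by
        apply mem_span_of_dual
        intro f hf
        rw [hD, map_sub, map_smul, smul_eq_mul, hall f hf, sub_self]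
      obtain ⟨k, hk⟩ := Submodule.mem_span_singleton.1 h1
      exact ⟨k, hk.symm⟩
    obtain ⟨φ, hφ0, hφ⟩ := exists_dual_one (v := (0 : Fin n → F)) (w := v) (by simpa using hv) 1
    let g : Dual F (Fin n → F) := φ ∘ₗ D
    have hg : ∀ w, D w = g w • v := by
      intro w
      obtain ⟨k, hk⟩ := hr w
      have h1 : g w = k := by
        show φ (D w) = k
        rw [hk, map_smul, hφ, smul_eq_mul, mul_one]
      rw [h1, hk]
    have hgv : g v = 0 := by
      show φ (D v) = 0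
      rw [hD, hS'v, sub_self, map_zero]
    refine ⟨-g, by rw [LinearMap.neg_apply, hgv, neg_zero], fun w => ?_⟩
    have h1 : μ • S' w = w + g w • v := by
      have := hg w
      rw [hD, sub_eq_iff_eq_add] at this
      rw [this, add_comm]
    have h2 : μ • w = s.1.mulVec (w + g w • v) := by
      rw [← h1, Matrix.mulVec_smul, hS', mulVec_inv]
    rw [Matrix.mulVec_add, Matrix.mulVec_smul, hμ] at h2
    have h3 : s.1.mulVec w = μ • w - g w • μ • v := by rw [h2, add_sub_cancel_right]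
    rw [h3, LinearMap.neg_apply]
    module
  · right
    push Not at hall
    obtain ⟨f, hf, w₀, hw₀⟩ := hall
    let h : Dual F (Fin n → F) := μ • (f ∘ₗ S') - f
    have hh : ∀ w, h w = μ * f (S' w) - f w := fun w => rfl
    refine ⟨f, h, hf, ?_, ?_, ?_⟩
    · rw [hh, ← smul_eq_mul, ← map_smul, hS'v, sub_self]
    · intro h0
      have h1 : h w₀ ≠ 0 := by rw [hh]; exact sub_ne_zero.2 hw₀
      rw [h0] at h1
      exact h1 rfl
    · intro w
      have h1 : s⁻¹.1.mulVec (w - f w • v) = S' w - f w • S' v := by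
        rw [← hS', map_sub, map_smul]
      have h2 : f (S' v) = 0 := by
        have h4 : f (μ • S' v) = 0 := by rw [hS'v, hf]
        rw [map_smul, smul_eq_mul] at h4
        exact (mul_eq_zero.1 h4).resolve_left hμ0
      rw [h1, Matrix.mulVec_add, Matrix.mulVec_smul, hμ, map_sub, map_smul, h2, smul_zero, sub_zero, Matrix.mulVec_sub,
        Matrix.mulVec_smul, hS', hS', mulVec_inv, mulVec_inv, hh, hS']
      module

/-! ## the action -/

variable {G : Type u} {Ω : Type v} [Group G] [MulAction G Ω]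

/-- `ω` is the point of `w` -/
def Pt (Φ : Ω ≃ ℙ F (Fin n → F)) (ω : Ω) (w : Fin n → F) : Prop := ∃ hw : w ≠ 0, Φ ω = Projectivization.mk F w hw

section Pt

variable {Φ : Ω ≃ ℙ F (Fin n → F)} {ω ω' : Ω} {w w' : Fin n → F}

theorem Pt.ne (h : Pt Φ ω w) : w ≠ 0 := h.1

theorem pt_exists (Φ : Ω ≃ ℙ F (Fin n → F)) (ω : Ω) : ∃ w, Pt Φ ω w :=
  ⟨(Φ ω).rep, (Φ ω).rep_nonzero, (Φ ω).mk_rep.symm⟩

theorem exists_pt (Φ : Ω ≃ ℙ F (Fin n → F)) {w : Fin n → F} (hw : w ≠ 0) : ∃ ω, Pt Φ ω w :=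
  ⟨Φ.symm (Projectivization.mk F w hw), hw, Φ.apply_symm_apply _⟩

theorem Pt.inj (h : Pt Φ ω w) (h' : Pt Φ ω' w) : ω = ω' := by
  obtain ⟨h1, h2⟩ := h
  obtain ⟨h3, h4⟩ := h'
  exact Φ.injective (h2.trans h4.symm)

theorem Pt.smul (h : Pt Φ ω w) {c : F} (hc : c ≠ 0) : Pt Φ ω (c • w) := by
  obtain ⟨h1, h2⟩ := h
  refine ⟨smul_ne_zero hc h1, ?_⟩
  rw [h2, Projectivization.mk_eq_mk_iff']
  exact ⟨c⁻¹, by rw [smul_smul, inv_mul_cancel₀ hc, one_smul]⟩

theorem Pt.unique (h : Pt Φ ω w) (h' : Pt Φ ω w') : ∃ k : F, k ≠ 0 ∧ w' = k • w := by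
  obtain ⟨h1, h2⟩ := h
  obtain ⟨h3, h4⟩ := h'
  rw [h2, Projectivization.mk_eq_mk_iff'] at h4
  obtain ⟨k, hk⟩ := h4
  have hk0 : k ≠ 0 := by
    rintro rfl
    rw [zero_smul] at hk
    exact h1 hk.symm
  exact ⟨k⁻¹, inv_ne_zero hk0, by rw [← hk, smul_smul, inv_mul_cancel₀ hk0, one_smul]⟩

end Pt

/-- `T` acts on `Ω` as `PSL_n(F)` on the projective space -/
structure PA (T : Subgroup G) (Φ : Ω ≃ ℙ F (Fin n → F)) : Prop where
  faithful : ∀ g : G, (∀ ω : Ω, g • ω = ω) → g = 1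
  normal : ∀ g : G, ∀ t ∈ T, g * t * g⁻¹ ∈ T
  rep : ∀ t ∈ T, ∃ s : Matrix.SpecialLinearGroup (Fin n) F, ∀ ω w, Pt Φ ω w → Pt Φ (t • ω) (s.1.mulVec w)
  real : ∀ s : Matrix.SpecialLinearGroup (Fin n) F, ∃ t ∈ T, ∀ ω w, Pt Φ ω w → Pt Φ (t • ω) (s.1.mulVec w)

variable {T : Subgroup G} {Φ : Ω ≃ ℙ F (Fin n → F)}

/-- `g` is the elation `w ↦ w + f w v` -/
def IsE (T : Subgroup G) (Φ : Ω ≃ ℙ F (Fin n → F)) (v : Fin n → F) (f : Dual F (Fin n → F)) (g : G) : Prop :=
  g ∈ T ∧ ∀ ω w, Pt Φ ω w → Pt Φ (g • ω) (w + f w • v)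

namespace PA

variable (P : PA T Φ)
include P

theorem ext {g h : G} (H : ∀ ω : Ω, g • ω = h • ω) : g = h := by
  have h1 := P.faithful (h⁻¹ * g) (fun ω => by rw [mul_smul, H, inv_smul_smul])
  rw [inv_mul_eq_one] at h1
  exact h1.symm

omit P in
/-- the inverse -/
theorem rep_inv {t : G} {s : Matrix.SpecialLinearGroup (Fin n) F}
    (h : ∀ ω w, Pt Φ ω w → Pt Φ (t • ω) (s.1.mulVec w)) {ω : Ω} {w : Fin n → F} (hw : Pt Φ ω w) :
    Pt Φ (t⁻¹ • ω) (s⁻¹.1.mulVec w) := by
  obtain ⟨ω', hω'⟩ := exists_pt Φ (mulVec_ne (s := s⁻¹) hw.ne)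
  have h1 := h _ _ hω'
  rw [mulVec_inv] at h1
  have h2 : t • ω' = ω := h1.inj hw
  rw [← h2, inv_smul_smul]
  exact hω'

variable {v : Fin n → F}

theorem exists_isE {f : Dual F (Fin n → F)} (hf : f v = 0) : ∃ g, IsE T Φ v f g := by
  obtain ⟨s, hs⟩ := exists_transv f v hf
  obtain ⟨t, ht, h⟩ := P.real s
  refine ⟨t, ht, fun ω w hw => ?_⟩
  rw [← hs]
  exact h ω w hw

theorem isE_unique {f : Dual F (Fin n → F)} {g g' : G} (h : IsE T Φ v f g) (h' : IsE T Φ v f g') : g = g' := by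
  apply P.ext
  intro ω
  obtain ⟨w, hw⟩ := pt_exists Φ ω
  exact (h.2 ω w hw).inj (h'.2 ω w hw)

omit P in
theorem isE_mul {f f' : Dual F (Fin n → F)} {g g' : G} (hf' : f v = 0) (h : IsE T Φ v f g) (h' : IsE T Φ v f' g') :
    IsE T Φ v (f + f') (g * g') := by
  refine ⟨mul_mem h.1 h'.1, fun ω w hw => ?_⟩
  have h1 := h.2 _ _ (h'.2 _ _ hw)
  rw [map_add, map_smul, hf', smul_zero, add_zero] at h1
  rw [mul_smul, LinearMap.add_apply]
  have h2 : w + (f w + f' w) • v = w + f' w • v + f w • v := by module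
  rw [h2]
  exact h1

omit P in
theorem isE_one : IsE T Φ v 0 (1 : G) := by
  refine ⟨one_mem _, fun ω w hw => ?_⟩
  rw [one_smul, LinearMap.zero_apply, zero_smul, add_zero]
  exact hw

theorem isE_inv {f : Dual F (Fin n → F)} {g : G} (hf : f v = 0) (h : IsE T Φ v f g) : IsE T Φ v (-f) g⁻¹ := by
  obtain ⟨g', hg'⟩ := P.exists_isE (v := v) (f := -f) (by rw [LinearMap.neg_apply, hf, neg_zero])
  have h1 := isE_mul hf h hg'
  rw [add_neg_cancel] at h1
  have h2 := P.isE_unique h1 isE_one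
  rw [mul_eq_one_iff_inv_eq] at h2
  rw [h2]
  exact hg'

omit P in
theorem isE_zero_iff {f : Dual F (Fin n → F)} {g : G} (h : IsE T Φ v f g) (hf : f = 0) (P : PA T Φ) : g = 1 := by
  subst hf
  exact P.isE_unique h isE_one

/-- the group of elations with centre `v` -/
def El (v : Fin n → F) : Subgroup G where
  carrier := {g | ∃ f : Dual F (Fin n → F), f v = 0 ∧ IsE T Φ v f g}
  mul_mem' := by
    rintro a b ⟨f, hf, h⟩ ⟨f', hf', h'⟩
    exact ⟨f + f', by rw [LinearMap.add_apply, hf, hf', add_zero], isE_mul hf h h'⟩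
  one_mem' := ⟨0, rfl, isE_one⟩
  inv_mem' := by
    rintro a ⟨f, hf, h⟩
    exact ⟨-f, by rw [LinearMap.neg_apply, hf, neg_zero], P.isE_inv hf h⟩

theorem El_comm {g h : G} (hg : g ∈ P.El v) (hh : h ∈ P.El v) : g * h = h * g := by
  obtain ⟨f, hf, h1⟩ := hg
  obtain ⟨f', hf', h2⟩ := hh
  have h3 := isE_mul hf h1 h2
  have h4 := isE_mul hf' h2 h1
  rw [add_comm] at h4
  exact P.isE_unique h3 h4

omit P in
theorem isE_pow {f : Dual F (Fin n → F)} {g : G} (hf : f v = 0) (h : IsE T Φ v f g) (k : ℕ) :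
    IsE T Φ v (k • f) (g ^ k) := by
  induction k with
  | zero => rw [zero_smul, pow_zero]; exact isE_one
  | succ k ih =>
    rw [pow_succ, succ_nsmul]
    exact isE_mul (by rw [LinearMap.smul_apply, hf, smul_zero]) ih h

theorem El_exp {p : ℕ} [CharP F p] {g : G} (hg : g ∈ P.El v) : g ^ p = 1 := by
  obtain ⟨f, hf, h1⟩ := hg
  have h2 := isE_pow hf h1 p
  refine isE_zero_iff h2 ?_ P
  ext w
  simp

theorem El_fix {a : Ω} (ha : Pt Φ a v) {g : G} (hg : g ∈ P.El v) : g • a = a := by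
  obtain ⟨f, hf, h1⟩ := hg
  have h2 := h1.2 a v ha
  rw [hf, zero_smul, add_zero] at h2
  exact h2.inj ha

/-- every elation fixes a second point -/
theorem El_second (h3 : 3 ≤ n) {a : Ω} (ha : Pt Φ a v) {g : G} (hg : g ∈ P.El v) : ∃ b, b ≠ a ∧ g • b = b := by
  obtain ⟨f, hf, h1⟩ := hg
  obtain ⟨w, hw, hwv⟩ := exists_zero h3 f v
  have hw0 : w ≠ 0 := by
    rintro rfl
    exact hwv (Submodule.zero_mem _)
  obtain ⟨b, hb⟩ := exists_pt Φ hw0
  refine ⟨b, ?_, ?_⟩
  · rintro rfl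
    obtain ⟨k, -, hk⟩ := ha.unique hb
    exact hwv (Submodule.mem_span_singleton.2 ⟨k, hk.symm⟩)
  · have h2 := h1.2 b w hb
    rw [hw, zero_smul, add_zero] at h2
    exact h2.inj hb

omit P in
/-- conjugation by the elements of `T` fixing `a` -/
theorem isE_conj {t : G} {s : Matrix.SpecialLinearGroup (Fin n) F} (htT : t ∈ T)
    (hs : ∀ ω w, Pt Φ ω w → Pt Φ (t • ω) (s.1.mulVec w)) {μ : F} (hμ : s.1.mulVec v = μ • v)
    {f : Dual F (Fin n → F)} {g : G} (h : IsE T Φ v f g) :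
    IsE T Φ v (μ • (f ∘ₗ s⁻¹.1.mulVecLin)) (t * g * t⁻¹) := by
  refine ⟨mul_mem (mul_mem htT h.1) (inv_mem htT), fun ω w hw => ?_⟩
  have h1 := hs _ _ (h.2 _ _ (rep_inv hs hw))
  rw [Matrix.mulVec_add, Matrix.mulVec_smul, hμ, mulVec_inv] at h1
  have h2 : w + f (s⁻¹.1.mulVec w) • μ • v = w + (μ • (f ∘ₗ s⁻¹.1.mulVecLin)) w • v := by
    rw [LinearMap.smul_apply, LinearMap.comp_apply, Matrix.mulVecLin_apply, smul_smul, smul_eq_mul, mul_comm]
  rw [h2] at h1
  rw [mul_smul, mul_smul]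
  exact h1

omit P in
theorem exists_mu {a : Ω} (ha : Pt Φ a v) {t : G} (hta : t • a = a) {s : Matrix.SpecialLinearGroup (Fin n) F}
    (hs : ∀ ω w, Pt Φ ω w → Pt Φ (t • ω) (s.1.mulVec w)) : ∃ μ : F, μ ≠ 0 ∧ s.1.mulVec v = μ • v := by
  have h1 := hs a v ha
  rw [hta] at h1
  exact ha.unique h1

theorem El_conj_T {a : Ω} (ha : Pt Φ a v) {t g : G} (htT : t ∈ T) (hta : t • a = a) (hg : g ∈ P.El v) :
    t * g * t⁻¹ ∈ P.El v := by
  obtain ⟨s, hs⟩ := P.rep t htT
  obtain ⟨μ, hμ0, hμ⟩ := exists_mu ha hta hs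
  obtain ⟨f, hf, h⟩ := hg
  refine ⟨_, ?_, isE_conj htT hs hμ h⟩
  rw [LinearMap.smul_apply, LinearMap.comp_apply, Matrix.mulVecLin_apply]
  have h1 : s⁻¹.1.mulVec v = μ⁻¹ • v := by
    have h2 := inv_mulVec s v
    rw [hμ, Matrix.mulVec_smul] at h2
    rw [← h2, smul_smul, inv_mul_cancel₀ hμ0, one_smul, h2]
  rw [h1, map_smul, hf, smul_zero, smul_zero]

/-- transitivity: from `f₀` to an independent `f` -/
theorem exists_conj {a : Ω} (ha : Pt Φ a v) {f₀ f : Dual F (Fin n → F)} (hf₀ : f₀ v = 0) (hf : f v = 0) {u : Fin n → F}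
    (hu : f u = f₀ u) (hu0 : f₀ u ≠ 0) {g₀ g : G} (h₀ : IsE T Φ v f₀ g₀) (h : IsE T Φ v f g) :
    ∃ t ∈ T, t • a = a ∧ t * g₀ * t⁻¹ = g := by
  let k : Dual F (Fin n → F) := (f₀ u)⁻¹ • (f₀ - f)
  have hk : ∀ w, k w = (f₀ u)⁻¹ * (f₀ w - f w) := fun w => rfl
  have hku : k u = 0 := by rw [hk, hu, sub_self, mul_zero]
  have hkv : k v = 0 := by rw [hk, hf₀, hf, sub_self, mul_zero]
  obtain ⟨s, hs⟩ := exists_transv k u hku
  obtain ⟨t, htT, ht⟩ := P.real s
  have hsv : s.1.mulVec v = (1 : F) • v := by rw [hs, hkv, zero_smul, add_zero, one_smul]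
  have hta : t • a = a := by
    have h1 := ht a v ha
    rw [hsv, one_smul] at h1
    exact h1.inj ha
  refine ⟨t, htT, hta, ?_⟩
  have h1 := isE_conj htT ht hsv h₀
  have h2 : (1 : F) • (f₀ ∘ₗ s⁻¹.1.mulVecLin) = f := by
    ext w
    have hsi : ∀ w, s⁻¹.1.mulVec w = w - k w • u := by
      intro w
      have h3 : s.1.mulVec (w - k w • u) = w := by
        rw [hs, map_sub, map_smul, hku, smul_zero, sub_zero, sub_add_cancel]
      have h4 := inv_mulVec s (w - k w • u)
      rw [h3] at h4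
      exact h4
    rw [one_smul]
    rw [LinearMap.comp_apply, LinearMap.comp_apply, LinearMap.comp_apply, Matrix.mulVecLin_apply, hsi, map_sub, map_smul, smul_eq_mul, hk]
    field_simp
    ring
  rw [h2] at h1
  exact P.isE_unique h1 h

/-- an element commuting with all the conjugates of a nontrivial elation commutes with all elations -/
theorem comm_all (h3 : 3 ≤ n) {a : Ω} (ha : Pt Φ a v) {f₀ : Dual F (Fin n → F)} (hf₀ : f₀ v = 0) (hne : f₀ ≠ 0) {g₀ x : G}
    (h₀ : IsE T Φ v f₀ g₀) (hx : ∀ t ∈ T, t • a = a → x * (t * g₀ * t⁻¹) = t * g₀ * t⁻¹ * x) {g : G} (hg : g ∈ P.El v) :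
    x * g = g * x := by
  obtain ⟨u₀, hu₀⟩ : ∃ u, f₀ u ≠ 0 := by
    by_contra hcon
    push Not at hcon
    exact hne (LinearMap.ext hcon)
  -- functionals with a common value
  have h1 : ∀ f : Dual F (Fin n → F), f v = 0 → (∃ u, f u = f₀ u ∧ f₀ u ≠ 0) → ∀ g, IsE T Φ v f g → x * g = g * x := by
    rintro f hf ⟨u, hu, hu0⟩ g hg
    obtain ⟨t, ht, hta, rfl⟩ := P.exists_conj ha hf₀ hf hu hu0 h₀ hg
    exact hx t ht hta
  -- independent functionals
  have h2 : ∀ f : Dual F (Fin n → F), f v = 0 → (¬ ∃ c : F, f = c • f₀) → ∀ g, IsE T Φ v f g → x * g = g * x := by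
    intro f hf hind
    refine h1 f hf ?_
    by_contra hcon
    push Not at hcon
    -- `ker (f - f₀) ≤ ker f₀`
    obtain ⟨u₁, hu₁⟩ : ∃ u, (f - f₀) u ≠ 0 := by
      by_contra hcon'
      push Not at hcon'
      apply hind
      refine ⟨1, ?_⟩
      rw [one_smul]
      exact sub_eq_zero.1 (LinearMap.ext hcon')
    have h4 : ∀ w, f₀ w = (f₀ u₁ * ((f - f₀) u₁)⁻¹) * (f - f₀) w := by
      intro w
      have h5 : (f - f₀) (w - ((f - f₀) w * ((f - f₀) u₁)⁻¹) • u₁) = 0 := by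
        rw [map_sub, map_smul, smul_eq_mul, inv_mul_cancel_right₀ hu₁, sub_self]
      have h6 := hcon _ (sub_eq_zero.1 h5)
      rw [map_sub, map_smul, smul_eq_mul, sub_eq_zero] at h6
      rw [h6]; ring
    set c := f₀ u₁ * ((f - f₀) u₁)⁻¹ with hc
    have hc0 : c ≠ 0 := by
      intro h0
      have h5 := h4 u₀
      rw [h0, zero_mul] at h5
      exact hu₀ h5
    apply hind
    refine ⟨c⁻¹ + 1, ?_⟩
    ext w
    have h5 := h4 (Pi.single w 1)
    rw [LinearMap.sub_apply] at h5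
    simp only [LinearMap.comp_apply, LinearMap.smul_apply, smul_eq_mul, LinearMap.coe_single]
    have h6 : c⁻¹ * f₀ (Pi.single w 1) = f (Pi.single w 1) - f₀ (Pi.single w 1) := by
      rw [inv_mul_eq_iff_eq_mul₀ hc0]
      exact h5
    linear_combination -h6
  obtain ⟨f, hf, hfg⟩ := hg
  by_cases hind : ∃ c : F, f = c • f₀
  · obtain ⟨c, rfl⟩ := hind
    obtain ⟨y, hy⟩ := exists_notMem_span_pair h3 v u₀
    obtain ⟨f', hf'v, hf'u, hf'y⟩ := exists_dual_two hy
    have hi1 : ¬ ∃ c : F, f' = c • f₀ := by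
      rintro ⟨d, rfl⟩
      rw [LinearMap.smul_apply, smul_eq_mul] at hf'u
      have hd := (mul_eq_zero.1 hf'u).resolve_right hu₀
      rw [hd, zero_smul] at hf'y
      exact hf'y rfl
    have hi2 : ¬ ∃ c' : F, c • f₀ + f' = c' • f₀ := by
      rintro ⟨d, hd⟩
      refine hi1 ⟨d - c, LinearMap.ext fun w => ?_⟩
      have h5 := LinearMap.congr_fun hd w
      simp only [LinearMap.add_apply, LinearMap.smul_apply, smul_eq_mul] at h5 ⊢
      linear_combination h5
    obtain ⟨g', hg'⟩ := P.exists_isE hf'v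
    have e1 := h2 f' hf'v hi1 g' hg'
    have e2 := h2 (c • f₀ + f') (by rw [LinearMap.add_apply, hf, hf'v, add_zero]) hi2 _ (isE_mul hf hfg hg')
    have e3 : x * g * g' = g * x * g' := by
      rw [mul_assoc, e2, mul_assoc, ← e1, ← mul_assoc]
    exact mul_right_cancel e3
  · exact h2 f hf hind g hfg

/-- the canonical description of the group of elations -/
theorem El_iff (h3 : 3 ≤ n) {a : Ω} (ha : Pt Φ a v) {g : G} :
    g ∈ P.El v ↔ g ∈ T ∧ g • a = a ∧ ∀ t ∈ T, t • a = a → g * (t * g * t⁻¹) = t * g * t⁻¹ * g := by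
  constructor
  · intro hg
    refine ⟨hg.choose_spec.2.1, P.El_fix ha hg, fun t ht hta => ?_⟩
    exact P.El_comm hg (P.El_conj_T ha ht hta hg)
  · rintro ⟨hgT, hga, hg⟩
    obtain ⟨s, hs⟩ := P.rep g hgT
    obtain ⟨μ, hμ0, hμ⟩ := exists_mu ha hga hs
    -- commuting conjugates
    have hg2 : ∀ t ∈ T, t • a = a → ∀ r ∈ T, r • a = a →
        (r * g * r⁻¹) * (t * g * t⁻¹) = (t * g * t⁻¹) * (r * g * r⁻¹) := by
      intro t ht hta r hr hra
      have h1 := hg (r⁻¹ * t) (mul_mem (inv_mem hr) ht) (by rw [mul_smul, hta, inv_smul_eq_iff, hra])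
      have h2 : (r * g * r⁻¹) * (t * g * t⁻¹) = r * (g * (r⁻¹ * t * g * (r⁻¹ * t)⁻¹)) * r⁻¹ := by group
      have h3 : (t * g * t⁻¹) * (r * g * r⁻¹) = r * (r⁻¹ * t * g * (r⁻¹ * t)⁻¹ * g) * r⁻¹ := by group
      rw [h2, h3, h1]
    rcases lin_dich ha.ne hμ hμ0 with ⟨f, hf, h1⟩ | ⟨f, h, hf, hh, hne, h1⟩
    · refine ⟨f, hf, hgT, fun ω w hw => ?_⟩
      have h2 := (hs ω w hw)
      rw [h1] at h2
      have h4 := h2.smul (inv_ne_zero hμ0)
      rwa [smul_smul, inv_mul_cancel₀ hμ0, one_smul] at h4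
    · obtain ⟨r, hr⟩ := P.exists_isE hf
      have hrE : r ∈ P.El v := ⟨f, hf, hr⟩
      have hra := P.El_fix ha hrE
      -- the commutator
      have hc : IsE T Φ v h (g * r * g⁻¹ * r⁻¹) := by
        refine ⟨mul_mem (mul_mem (mul_mem hgT hr.1) (inv_mem hgT)) (inv_mem hr.1), fun ω w hw => ?_⟩
        have h4 := hs _ _ (hr.2 _ _ (rep_inv hs ((P.isE_inv hf hr).2 _ _ hw)))
        rw [LinearMap.neg_apply, neg_smul, ← sub_eq_add_neg, h1] at h4
        rw [mul_smul, mul_smul, mul_smul]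
        exact h4
      have hcx : ∀ t ∈ T, t • a = a → g * (t * (g * r * g⁻¹ * r⁻¹) * t⁻¹) = t * (g * r * g⁻¹ * r⁻¹) * t⁻¹ * g := by
        intro t ht hta
        have h4 := hg t ht hta
        have h5 := hg (t * r) (mul_mem ht hr.1) (by rw [mul_smul, hra, hta])
        have h6 : t * (g * r * g⁻¹ * r⁻¹) * t⁻¹ = (t * g * t⁻¹) * (t * r * g * (t * r)⁻¹)⁻¹ := by group
        have h7 : g * (t * r * g * (t * r)⁻¹)⁻¹ = (t * r * g * (t * r)⁻¹)⁻¹ * g := by
          rw [eq_inv_mul_iff_mul_eq, ← mul_assoc, ← h5, mul_inv_cancel_right]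
        rw [h6, ← mul_assoc, h4, mul_assoc, h7]
        simp only [mul_assoc]
      have hall := fun {y : G} (hy : y ∈ P.El v) => P.comm_all h3 ha hh hne hc hcx hy
      exfalso
      have h4 : g * r * g⁻¹ * r⁻¹ = 1 := by
        rw [hall hrE, mul_inv_cancel_right, mul_inv_cancel]
      rw [h4] at hc
      apply hne
      ext i
      obtain ⟨w, hw⟩ : ∃ w : Fin n → F, w = Pi.single i 1 := ⟨_, rfl⟩
      have hw0 : w ≠ 0 := by
        rw [hw]
        simp
      obtain ⟨ω, hω⟩ := exists_pt Φ hw0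
      have h5 := hc.2 ω w hω
      rw [one_smul] at h5
      obtain ⟨k, -, hk⟩ := hω.unique h5
      -- `w + h w v = k w`
      have h6 : h w = 0 := by
        by_contra h0
        have h7 : h w • v = (k - 1) • w := by rw [sub_smul, one_smul, ← hk, add_sub_cancel_left]
        have h8 : v = ((h w)⁻¹ * (k - 1)) • w := by rw [mul_smul, ← h7, smul_smul, inv_mul_cancel₀ h0, one_smul]
        have h9 : (h w)⁻¹ * (k - 1) * h w = 0 := by
          have := hh
          rw [h8, map_smul, smul_eq_mul] at this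
          exact this
        have h10 : k - 1 = 0 := by
          rcases mul_eq_zero.1 h9 with h | h
          · exact (mul_eq_zero.1 h).resolve_left (inv_ne_zero h0)
          · exact absurd h h0
        rw [h10, mul_zero, zero_smul] at h8
        exact ha.ne h8
      rw [hw] at h6
      simpa using h6

/-- the group of elations is normal in the stabilizer of its centre -/
theorem El_conj (h3 : 3 ≤ n) {a : Ω} (ha : Pt Φ a v) {x g : G} (hxa : x • a = a) (hg : g ∈ P.El v) :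
    x * g * x⁻¹ ∈ P.El v := by
  have hxa' : x⁻¹ • a = a := by rw [inv_smul_eq_iff, hxa]
  rw [P.El_iff h3 ha] at hg ⊢
  obtain ⟨h1, h2, h4⟩ := hg
  refine ⟨P.normal x g h1, by rw [mul_smul, mul_smul, hxa', h2, hxa], fun t ht hta => ?_⟩
  have h5 := h4 (x⁻¹ * t * x) (by
    have := P.normal x⁻¹ t ht
    rwa [inv_inv] at this) (by rw [mul_smul, mul_smul, hxa, hta, hxa'])
  have h6 : x * g * x⁻¹ * (t * (x * g * x⁻¹) * t⁻¹) = x * (g * (x⁻¹ * t * x * g * (x⁻¹ * t * x)⁻¹)) * x⁻¹ := by group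
  have h7 : t * (x * g * x⁻¹) * t⁻¹ * (x * g * x⁻¹) = x * (x⁻¹ * t * x * g * (x⁻¹ * t * x)⁻¹ * g) * x⁻¹ := by group
  rw [h6, h7, h5]

/-- `p'`-elements of the stabilizer centralizing the group of elations are trivial -/
theorem El_cent {p : ℕ} [CharP F p] {a : Ω} (ha : Pt Φ a v) {x : G} (hxa : x • a = a)
    (hx : ∀ g ∈ P.El v, x * g = g * x) {k : ℕ} (hk : x ^ k = 1) (hkp : Nat.Coprime k p) : x = 1 := by
  apply P.faithful
  intro b
  by_cases hba : b = a
  · rw [hba, hxa]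
  obtain ⟨w, hw⟩ := pt_exists Φ b
  obtain ⟨w', hw'⟩ := pt_exists Φ (x • b)
  have hwv : w ∉ Submodule.span F {v} := by
    intro h
    obtain ⟨c, rfl⟩ := Submodule.mem_span_singleton.1 h
    have hc : c ≠ 0 := by
      rintro rfl
      exact hw.ne (zero_smul _ _)
    exact hba ((hw.inj (ha.smul hc)))
  have hxb : x • b ≠ a := fun h => hba (smul_left_cancel x (h.trans hxa.symm))
  have hmem : w' ∈ Submodule.span F ({v, w} : Set (Fin n → F)) := by
    by_contra hno
    obtain ⟨f, hfv, hfw, hfw'⟩ := exists_dual_two hno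
    obtain ⟨g, hg⟩ := P.exists_isE hfv
    have hgE : g ∈ P.El v := ⟨f, hfv, hg⟩
    have hgb : g • b = b := by
      have h1 := hg.2 b w hw
      rw [hfw, zero_smul, add_zero] at h1
      exact h1.inj hw
    have hgxb : g • x • b = x • b := by
      rw [smul_smul, ← hx g hgE, mul_smul, hgb]
    have h1 := hg.2 _ _ hw'
    rw [hgxb] at h1
    obtain ⟨c, hc, hc'⟩ := hw'.unique h1
    have h2 : f w' • v = (c - 1) • w' := by rw [sub_smul, one_smul, ← hc', add_sub_cancel_left]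
    by_cases hc1 : c - 1 = 0
    · rw [hc1, zero_smul] at h2
      exact (smul_ne_zero hfw' ha.ne) h2
    · apply hno
      have h5 : w' = ((c - 1)⁻¹ * f w') • v := by
        rw [mul_smul, h2, smul_smul, inv_mul_cancel₀ hc1, one_smul]
      rw [h5]
      exact Submodule.smul_mem _ _ (Submodule.subset_span (by simp))
  obtain ⟨β, α, hαβ⟩ := Submodule.mem_span_pair.1 hmem
  have hα : α ≠ 0 := by
    rintro rfl
    rw [zero_smul, add_zero] at hαβ
    have hβ : β ≠ 0 := by
      rintro rfl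
      rw [zero_smul] at hαβ
      exact hw'.ne hαβ.symm
    rw [← hαβ] at hw'
    exact hxb (hw'.inj (ha.smul hβ))
  obtain ⟨f, hfv, hfw⟩ := exists_dual_one hwv (α⁻¹ * β)
  obtain ⟨g, hg⟩ := P.exists_isE hfv
  have hgE : g ∈ P.El v := ⟨f, hfv, hg⟩
  have hgb : x • b = g • b := by
    have h1 := hg.2 b w hw
    rw [hfw] at h1
    have h2 := hw'.smul (inv_ne_zero hα)
    rw [← hαβ, smul_add, smul_smul, smul_smul, inv_mul_cancel₀ hα, one_smul, add_comm] at h2
    exact h2.inj h1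
  have hpow : ∀ j : ℕ, x ^ j • b = g ^ j • b := by
    intro j
    induction j with
    | zero => rw [pow_zero, pow_zero]
    | succ j ih =>
      have hcomm : x ^ j * g = g * x ^ j := (show Commute x g from hx g hgE).pow_left j
      rw [pow_succ, mul_smul, hgb, smul_smul, hcomm, mul_smul, ih, smul_smul, ← pow_succ']
  have h1 : g ^ k • b = b := by rw [← hpow, hk, one_smul]
  have h2 : g ^ p • b = b := by rw [P.El_exp hgE, one_smul]
  have h3 : g ∈ MulAction.stabilizer G b := by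
    have e1 : g ^ (k : ℤ) ∈ MulAction.stabilizer G b := by rw [zpow_natCast]; exact h1
    have e2 : g ^ (p : ℤ) ∈ MulAction.stabilizer G b := by rw [zpow_natCast]; exact h2
    have e3 : (1 : ℤ) = k * Nat.gcdA k p + p * Nat.gcdB k p := by
      have := Nat.gcd_eq_gcd_ab k p
      rw [hkp] at this
      exact_mod_cast this
    have e4 : g ^ (1 : ℤ) ∈ MulAction.stabilizer G b := by
      rw [e3, zpow_add, zpow_mul, zpow_mul]
      exact mul_mem (zpow_mem e1 _) (zpow_mem e2 _)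
    rwa [zpow_one] at e4
  rw [hgb]
  exact h3

end PA

end Cfsg.Agent.H270.Tits.Elat
end

-- part: H115/Tits/StmtsC_mg
section

end

-- part: H437/Tits/Lin_mg
section
prune_inst 0x2550746414e2120400000510c0201c06fa000500000b80004a220b020e806e0000000e60b5b00400022a808540380048150018b4620000000a000000011d04a1804a92061000ac08140019010004000000000000000000000000000000000004200000000
set_option linter.all false
open scoped Cfsg.Agent.FastGrp

-- part: H437/Tits/HerA
section
/-!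
# S3414 [E3]: normal 2-subgroups of transitive linear groups of dimension two over `F_r`, `r + 1 = 2 ^ k`, `k ≥ 5`

`sq_or` : they consist of `±1`.  (Hering's theorem is the hypothesis `HerTwo`.)
-/

set_option autoImplicit false

namespace Cfsg.Agent.H437.Tits

open Subgroup Module Cfsg.Agent.H482.Tab

universe v

/-- `Sp_2 = SL_2` -/
def spTwo (F : Type) [Field F] : Matrix.symplecticGroup (Fin 1) F ≃* Matrix.SpecialLinearGroup (Fin 2) F where
  toFun A := ⟨Matrix.reindex finSumFinEquiv finSumFinEquiv (A : Matrix (Fin 1 ⊕ Fin 1) (Fin 1 ⊕ Fin 1) F), by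
    rw [Matrix.det_reindex_self]
    exact (S0244.result _).1 A.2⟩
  invFun A := ⟨Matrix.reindex finSumFinEquiv.symm finSumFinEquiv.symm (A : Matrix (Fin 2) (Fin 2) F), by
    rw [S0244.result, Matrix.det_reindex_self]
    exact A.2⟩
  left_inv A := by
    apply Subtype.ext
    ext i j
    simp
  right_inv A := by
    apply Subtype.ext
    ext i j
    simp
  map_mul' A B := by
    apply Subtype.ext
    change Matrix.reindex finSumFinEquiv finSumFinEquiv (A.1 * B.1) =
      Matrix.reindex finSumFinEquiv finSumFinEquiv A.1 * Matrix.reindex finSumFinEquiv finSumFinEquiv B.1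
    rw [Matrix.reindex_apply, Matrix.reindex_apply, Matrix.reindex_apply, Matrix.submatrix_mul_equiv]

/-- Hering's theorem for `F_r ^ 2`, `r + 1 = 2 ^ k`, `k ≥ 5` -/
def HerTwo : Prop := ∀ (r k : ℕ) [Fact r.Prime], 5 ≤ k → r + 1 = 2 ^ k → ∀ (V : Type v) [AddCommGroup V] [Module (ZMod r) V]
  [Finite V], finrank (ZMod r) V = 2 → ∀ H : Subgroup (Equiv.Perm V), (∀ h ∈ H, ∀ v w : V, h (v + w) = h v + h w) →
  (∀ v w : V, v ≠ 0 → w ≠ 0 → ∃ h ∈ H, h v = w) →
  (∃ (F : Type) (_ : Field F) (_ : Fintype F), Fintype.card F = r ∧ ∃ N : Subgroup H, N.Normal ∧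
    Nonempty (N ≃* Matrix.SpecialLinearGroup (Fin 2) F)) ∨
  (∃ (F : Type) (_ : Field F) (_ : Fintype F) (e : V ≃+ F), Fintype.card F = r ^ 2 ∧
      ∀ h ∈ H, ∃ (c : F) (σ : F ≃+* F), ∀ v : V, e (h v) = c * σ (e v))

theorem dvd_card_SL {F : Type} [Field F] [Fintype F] {r : ℕ} (hr : 2 ≤ r) (hF : Fintype.card F = r) :
    r ∣ Nat.card (Matrix.SpecialLinearGroup (Fin 2) F) := by
  have h1 := Cfsg.Agent.S0242.result hF 2 (by norm_num)
  rw [Fin.prod_univ_two] at h1
  simp only [Fin.val_zero, Fin.val_one, pow_zero, pow_one] at h1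
  have h2 : r ^ 2 - r = (r - 1) * r := by
    rw [pow_two, Nat.sub_one_mul]
  rw [h2, mul_left_comm] at h1
  have h3 := Nat.eq_of_mul_eq_mul_left (by omega) h1
  rw [h3]
  exact Dvd.intro_left _ rfl

/-- normal `2`-subgroups of `SL_2(F)` are central -/
theorem two_central {F : Type} [Field F] [Fintype F] {r : ℕ} (hr : r.Prime) (h3 : 3 < r) (hF : Fintype.card F = r)
    {R : Subgroup (Matrix.SpecialLinearGroup (Fin 2) F)} (hR : R.Normal) (hR2 : IsPGroup 2 R)
    {x : Matrix.SpecialLinearGroup (Fin 2) F} (hx : x ∈ R) :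
    x ∈ center (Matrix.SpecialLinearGroup (Fin 2) F) := by
  have hs : IsSimpleGroup (Matrix.ProjectiveSpecialLinearGroup (Fin 2) F) :=
    TwoFusion.SLTwoFacts.isSimpleGroup_psl (by rw [hF]; exact h3)
  let π := QuotientGroup.mk' (center (Matrix.SpecialLinearGroup (Fin 2) F))
  have hn : (R.map π).Normal := hR.map _ (QuotientGroup.mk'_surjective _)
  rcases hs.eq_bot_or_eq_top_of_normal (R.map π) hn with h | h
  · have h1 : π x ∈ R.map π := mem_map_of_mem _ hx
    rw [h, mem_bot] at h1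
    exact (QuotientGroup.eq_one_iff _).1 h1
  · exfalso
    have h1 := hR2.map π
    rw [h] at h1
    have h2 : IsPGroup 2 (Matrix.ProjectiveSpecialLinearGroup (Fin 2) F) := by
      intro y
      obtain ⟨k, hk⟩ := h1 ⟨y, mem_top _⟩
      exact ⟨k, congrArg Subtype.val hk⟩
    have hZ : IsPGroup 2 (center (Matrix.SpecialLinearGroup (Fin 2) F)) := by
      intro z
      refine ⟨1, ?_⟩
      obtain ⟨c, hc, h⟩ := Matrix.SpecialLinearGroup.mem_center_iff.1 z.2
      rw [Fintype.card_fin] at hc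
      apply Subtype.ext
      apply Subtype.ext
      rw [pow_one, Subgroup.coe_pow, Matrix.SpecialLinearGroup.coe_pow, ← h, Subgroup.coe_one,
        Matrix.SpecialLinearGroup.coe_one, ← map_pow, hc, map_one]
    have h4 : IsPGroup 2 (Matrix.SpecialLinearGroup (Fin 2) F) := by
      intro y
      obtain ⟨k, hk⟩ := h2 (π y)
      have hy : y ^ 2 ^ k ∈ center (Matrix.SpecialLinearGroup (Fin 2) F) := by
        rw [← map_pow] at hk
        exact (QuotientGroup.eq_one_iff _).1 hk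
      obtain ⟨l, hl⟩ := hZ ⟨_, hy⟩
      refine ⟨k + l, ?_⟩
      have := congrArg Subtype.val hl
      rw [pow_add, pow_mul]
      exact this
    have : Fact r.Prime := ⟨hr⟩
    have : Fact (Nat.Prime 2) := ⟨Nat.prime_two⟩
    obtain ⟨n, hn⟩ := IsPGroup.iff_card.1 h4
    have h5 := dvd_card_SL hr.two_le hF
    rw [hn] at h5
    have := (Nat.prime_dvd_prime_iff_eq hr Nat.prime_two).1 (hr.dvd_of_dvd_pow h5)
    omega

theorem sq_center {F : Type} [Field F] {z : Matrix.SpecialLinearGroup (Fin 2) F}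
    (hz : z ∈ center (Matrix.SpecialLinearGroup (Fin 2) F)) : z ^ 2 = 1 := by
  obtain ⟨c, hc, h⟩ := Matrix.SpecialLinearGroup.mem_center_iff.1 hz
  rw [Fintype.card_fin] at hc
  apply Subtype.ext
  rw [Matrix.SpecialLinearGroup.coe_pow, ← h, Matrix.SpecialLinearGroup.coe_one, ← map_pow, hc, map_one]

end Cfsg.Agent.H437.Tits
end

-- part: H437/Tits/HerB
section
/-!
# S3414 [E3]: `sq_or`
-/

set_option autoImplicit false

namespace Cfsg.Agent.H437.Tits

open Subgroup Module Cfsg.Agent.H482.Tab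

universe v w

section

variable {r₀ : ℕ} [Fact r₀.Prime] {V : Type v} [AddCommGroup V] [Module (ZMod r₀) V] [Finite V]
variable {A : Type w} [Group A] [Finite A] {φ : A →* Module.End (ZMod r₀) V} {w₁ : V}

/-- semilinear groups over `F_{r^2}`: stabilizers have order at most two -/
theorem card_stab_semi (H : TL r₀ V A φ w₁) {F : Type} [Field F] [Fintype F] (e : V ≃+ F)
    (hF : Fintype.card F = r₀ ^ 2) (hs : ∀ g : A, ∃ (c : F) (σ : F ≃+* F), ∀ v : V, e (φ g v) = c * σ (e v)) :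
    Nat.card (stab φ w₁) ≤ 2 := by
  classical
  have hr : r₀.Prime := Fact.out
  have hc : Nat.card (F ≃+* F) = 2 := Cfsg.Agent.Lib.FieldAutCard.card_ringAut (p := r₀) (f := 2) (by norm_num) hF
  have hfin : Finite (F ≃+* F) := Nat.finite_of_card_ne_zero (by rw [hc]; norm_num)
  choose c σ h using hs
  rw [← hc]
  have hw : e w₁ ≠ 0 := by
    intro h0
    exact H.ne (e.injective (by rw [h0, map_zero]))
  refine Nat.card_le_card_of_injective (fun g : stab φ w₁ => σ g) ?_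
  intro g g' hgg
  have hgg' : σ g = σ g' := hgg
  apply Subtype.ext
  apply H.inj
  apply LinearMap.ext
  intro v
  apply e.injective
  have h1 := h g w₁
  have h2 := h g' w₁
  rw [show φ (g : A) w₁ = w₁ from g.2] at h1
  rw [show φ (g' : A) w₁ = w₁ from g'.2] at h2
  have h3 : σ g (e w₁) ≠ 0 := by
    rw [Ne, map_eq_zero]
    exact hw
  have h4 : c g = c g' := by
    have h5 := h1.symm.trans h2
    rw [← hgg'] at h5
    exact mul_right_cancel₀ h3 h5
  rw [h, h, h4, hgg']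

/-- the image of `A` in the permutations of `V` -/
def toP (φ : A →* Module.End (ZMod r₀) V) : A →* Equiv.Perm V where
  toFun g := ⟨fun v => φ g v, fun v => φ g⁻¹ v, fun v => inv_apply φ g v, fun v => apply_inv φ g v⟩
  map_one' := by
    ext v
    change φ 1 v = v
    rw [map_one]; rfl
  map_mul' g h := by
    ext v
    change φ (g * h) v = φ g (φ h v)
    rw [map_mul]; rfl

theorem exists_SL (hH : HerTwo.{v}) (H : TL r₀ V A φ w₁) {k : ℕ} (hk : 5 ≤ k) (hr : r₀ + 1 = 2 ^ k)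
    (hd : finrank (ZMod r₀) V = 2) (h3 : 3 ≤ Nat.card (stab φ w₁)) :
    ∃ (F : Type) (_ : Field F) (_ : Fintype F), Fintype.card F = r₀ ∧ ∃ N : Subgroup A, N.Normal ∧
    Nonempty (N ≃* Matrix.SpecialLinearGroup (Fin 2) F) := by
  classical
  have hinj : Function.Injective (toP φ) := by
    intro g h hgh
    apply H.inj
    apply LinearMap.ext
    intro v
    exact DFunLike.congr_fun hgh v
  rcases hH r₀ k hk hr V hd (toP φ).range (by
      rintro _ ⟨g, rfl⟩ v w
      exact map_add (φ g) v w) (by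
      intro v w hv hw
      obtain ⟨g, hg⟩ := H.tr v w hv hw
      exact ⟨toP φ g, ⟨g, rfl⟩, hg⟩) with ⟨F, i1, i2, hF, N, hN, ⟨e⟩⟩ | ⟨F, i1, i2, e, hF, h⟩
  · refine ⟨F, i1, i2, hF, ?_⟩
    let ε : A ≃* (toP φ).range := MonoidHom.ofInjective hinj
    refine ⟨N.comap ε.toMonoidHom, hN.comap _, ⟨?_⟩⟩
    have h1 : (N.comap ε.toMonoidHom).map ε.toMonoidHom = N := map_comap_eq_self_of_surjective ε.surjective N
    exact ((ε.subgroupMap (N.comap ε.toMonoidHom)).trans (MulEquiv.subgroupCongr h1)).trans e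
  · exfalso
    have := card_stab_semi H e hF (fun g => h (toP φ g) ⟨g, rfl⟩)
    omega

/-- **normal `2`-subgroups consist of `±1`** -/
theorem sq_or (hH : HerTwo.{v}) (H : TL r₀ V A φ w₁) {k : ℕ} (hk : 5 ≤ k) (hr : r₀ + 1 = 2 ^ k)
    (hd : finrank (ZMod r₀) V = 2) (h3 : 3 ≤ Nat.card (stab φ w₁)) {P : Subgroup A} (hP : P.Normal)
    (hP2 : IsPGroup 2 P) {x : A} (hx : x ∈ P) (v : V) : φ x v = v ∨ φ x v = -v := by
  classical
  have hr0 : r₀.Prime := Fact.out
  have h32 : 2 ^ 5 ≤ 2 ^ k := Nat.pow_le_pow_right (by norm_num) hk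
  have h31 : 31 ≤ r₀ := by omega
  obtain ⟨F, i1, i2, hF, N, hN, ⟨e⟩⟩ := exists_SL hH H hk hr hd h3
  by_cases hv : v = 0
  · left; rw [hv, map_zero]
  -- an element of order `r₀` in `N` fixing `v`
  obtain ⟨ρ, hρN, hρo, hρv⟩ : ∃ ρ ∈ N, orderOf ρ = r₀ ∧ φ ρ v = v := by
    have h4 : r₀ ∣ Nat.card N := by
      rw [Nat.card_congr e.toEquiv]
      exact dvd_card_SL hr0.two_le hF
    obtain ⟨⟨ρ, hρ⟩, ho⟩ := exists_prime_orderOf_dvd_card' r₀ h4
    have ho' : orderOf ρ = r₀ := by rw [← ho]; exact (Subgroup.orderOf_mk ρ hρ).symm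
    have h5 := H.card_modEq hr0 ρ ⟨1, by rw [pow_one, ← ho']; exact pow_orderOf_eq_one ρ⟩
    have hV : Nat.card V = r₀ ^ 2 := by
      rw [Module.natCard_eq_pow_finrank (K := ZMod r₀), Nat.card_zmod, hd]
    have h6 : r₀ ∣ Nat.card (LinearMap.ker (φ ρ - 1)) := by
      have : Nat.card V ≡ 0 [MOD r₀] := by
        rw [hV]
        exact (Nat.modEq_zero_iff_dvd).2 (dvd_pow_self _ (by norm_num))
      exact (Nat.modEq_zero_iff_dvd).1 (h5.trans this)
    obtain ⟨u, hu, hu0⟩ : ∃ u : V, φ ρ u = u ∧ u ≠ 0 := by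
      by_contra hcon
      push Not at hcon
      have h7 : LinearMap.ker (φ ρ - 1) = ⊥ := by
        rw [eq_bot_iff]
        intro u hu
        rw [LinearMap.mem_ker, LinearMap.sub_apply, sub_eq_zero] at hu
        exact hcon u hu
      rw [h7] at h6
      have h8 : Nat.card (⊥ : Submodule (ZMod r₀) V) = 1 := Nat.card_unique
      rw [h8] at h6
      exact hr0.one_lt.ne' (Nat.dvd_one.1 h6)
    obtain ⟨h, hh⟩ := H.tr u v hu0 hv
    refine ⟨h * ρ * h⁻¹, hN.conj_mem ρ hρ h, ?_, ?_⟩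
    · rw [← ho']
      have := orderOf_injective (MulAut.conj h).toMonoidHom (MulAut.conj h).injective ρ
      exact this
    · rw [map_mul, map_mul]
      change φ h (φ ρ (φ h⁻¹ v)) = v
      rw [← hh, inv_apply, hu]
  -- `x` commutes with `ρ`
  have hcomm : x * ρ = ρ * x := by
    set c := x * ρ * x⁻¹ * ρ⁻¹ with hc
    have hcN : c ∈ N := mul_mem (hN.conj_mem ρ hρN x) (inv_mem hρN)
    have hcP : c ∈ P := by
      have : c = x * (ρ * x⁻¹ * ρ⁻¹) := by rw [hc]; group
      rw [this]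
      exact mul_mem hx (hP.conj_mem _ (inv_mem hx) ρ)
    -- the normal `2`-subgroup of `SL_2`
    let R : Subgroup (Matrix.SpecialLinearGroup (Fin 2) F) := (P.subgroupOf N).map e.toMonoidHom
    have hR : R.Normal := (hP.comap N.subtype).map _ e.surjective
    have hR2 : IsPGroup 2 R := (hP2.comap_of_injective N.subtype N.subtype_injective).map _
    have h4 : e ⟨c, hcN⟩ ∈ center (Matrix.SpecialLinearGroup (Fin 2) F) :=
      two_central hr0 (by omega) hF hR hR2 (mem_map_of_mem _ (show (⟨c, hcN⟩ : N) ∈ P.subgroupOf N from hcP))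
    have h5 : c ^ 2 = 1 := by
      have := sq_center h4
      rw [← map_pow, ← map_one e] at this
      exact congrArg Subtype.val (e.injective this)
    have h6 : c * ρ = ρ * c := by
      have := (mem_center_iff.1 h4) (e ⟨ρ, hρN⟩)
      rw [← map_mul, ← map_mul] at this
      exact (congrArg Subtype.val (e.injective this)).symm
    have h7 : x * ρ * x⁻¹ = c * ρ := by rw [hc]; group
    have hodd : r₀ % 2 = 1 := by
      have : 2 ∣ 2 ^ k := dvd_pow_self 2 (by omega)
      (clear * - hr this; omega)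
    have h8 : c = 1 := by
      have h9 : (x * ρ * x⁻¹) ^ r₀ = 1 := by
        rw [conj_pow, ← hρo, pow_orderOf_eq_one, mul_one, mul_inv_cancel]
      have hcm : Commute c ρ := h6
      rw [h7, hcm.mul_pow] at h9
      have h10 : ρ ^ r₀ = 1 := by rw [← hρo]; exact pow_orderOf_eq_one ρ
      rw [h10, mul_one] at h9
      have h11 : c ^ r₀ = c := by
        conv_lhs => rw [← Nat.div_add_mod r₀ 2, hodd, pow_add, pow_mul, h5, one_pow, one_mul, pow_one]
      rw [h11] at h9
      exact h9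
    rw [h8, one_mul] at h7
    exact mul_inv_eq_iff_eq_mul.1 h7
  -- the fixed space of `ρ` is one-dimensional
  have hker : finrank (ZMod r₀) (LinearMap.ker (φ ρ - 1)) = 1 := by
    have hv' : v ∈ LinearMap.ker (φ ρ - 1) := by
      rw [LinearMap.mem_ker, LinearMap.sub_apply, hρv]
      exact sub_self v
    have : FiniteDimensional (ZMod r₀) V := Module.Finite.of_finite
    have h4 : LinearMap.ker (φ ρ - 1) ≠ ⊥ := by
      intro h
      rw [h, Submodule.mem_bot] at hv'
      exact hv hv'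
    have h5 : LinearMap.ker (φ ρ - 1) ≠ ⊤ := by
      intro h
      rw [LinearMap.ker_eq_top, sub_eq_zero] at h
      have h6 : ρ = 1 := H.inj (by rw [h, map_one])
      rw [h6, orderOf_one] at hρo
      omega
    have h6 := Submodule.finrank_lt h5
    have h7 : 0 < finrank (ZMod r₀) (LinearMap.ker (φ ρ - 1)) := by
      rw [Nat.pos_iff_ne_zero]
      intro h0
      exact h4 (Submodule.finrank_eq_zero.1 h0)
    omega
  have hxv : φ x v ∈ LinearMap.ker (φ ρ - 1) := by
    rw [LinearMap.mem_ker, LinearMap.sub_apply, sub_eq_zero]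
    change φ ρ (φ x v) = φ x v
    have h4 : φ (ρ * x) v = φ (x * ρ) v := by rw [hcomm]
    rw [map_mul, map_mul] at h4
    change φ ρ (φ x v) = φ x (φ ρ v) at h4
    rw [h4, hρv]
  obtain ⟨c, hc⟩ : ∃ c : ZMod r₀, φ x v = c • v := by
    have hv' : v ∈ LinearMap.ker (φ ρ - 1) := by
      rw [LinearMap.mem_ker, LinearMap.sub_apply, hρv]
      exact sub_self v
    have h4 := (finrank_eq_one_iff_of_nonzero' (⟨v, hv'⟩ : LinearMap.ker (φ ρ - 1)) (by
      intro h
      exact hv (congrArg Subtype.val h))).1 hker ⟨φ x v, hxv⟩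
    obtain ⟨c, hc⟩ := h4
    exact ⟨c, (congrArg Subtype.val hc).symm⟩
  -- the eigenvalue is `±1`
  have hpow : ∀ n : ℕ, φ (x ^ n) v = c ^ n • v := by
    intro n
    induction n with
    | zero => rw [pow_zero, map_one, pow_zero, one_smul]; rfl
    | succ n ih =>
      rw [pow_succ, map_mul]
      change φ (x ^ n) (φ x v) = _
      rw [hc, map_smul, ih, smul_smul, ← pow_succ']
  obtain ⟨n, hn⟩ := hP2 ⟨x, hx⟩
  have hn' : x ^ 2 ^ n = 1 := congrArg Subtype.val hn
  have hcn : c ^ 2 ^ n = 1 := by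
    have h4 := hpow (2 ^ n)
    rw [hn', map_one] at h4
    have h5 : (c ^ 2 ^ n - 1) • v = 0 := by
      rw [sub_smul, one_smul, ← h4]
      exact sub_self v
    rcases smul_eq_zero.1 h5 with h6 | h6
    · exact sub_eq_zero.1 h6
    · exact absurd h6 hv
  have hc0 : c ≠ 0 := by
    rintro rfl
    rw [zero_pow (by positivity)] at hcn
    exact zero_ne_one hcn
  have hc1 : c ^ (r₀ - 1) = 1 := ZMod.pow_card_sub_one_eq_one hc0
  have hc2 : c ^ 2 = 1 := by
    have h4 : orderOf c ∣ Nat.gcd (2 ^ n) (r₀ - 1) :=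
      Nat.dvd_gcd (orderOf_dvd_of_pow_eq_one hcn) (orderOf_dvd_of_pow_eq_one hc1)
    have h5 : Nat.gcd (2 ^ n) (r₀ - 1) ∣ 2 := by
      have h6 : Nat.gcd (2 ^ n) (r₀ - 1) ∣ 2 ^ n := Nat.gcd_dvd_left _ _
      obtain ⟨j, -, hj⟩ := (Nat.dvd_prime_pow Nat.prime_two).1 h6
      have h7 : Nat.gcd (2 ^ n) (r₀ - 1) ∣ r₀ - 1 := Nat.gcd_dvd_right _ _
      rw [hj] at h7 ⊢
      rcases Nat.lt_or_ge j 2 with h8 | h8
      · exact pow_dvd_pow 2 (show j ≤ 1 by omega)
      · exfalso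
        have h9 : 2 ^ 2 ∣ r₀ - 1 := (pow_dvd_pow 2 h8).trans h7
        have h10 : 2 ^ 2 ∣ 2 ^ k := pow_dvd_pow 2 (by omega)
        (clear * - hr h9 h10; omega)
    exact orderOf_dvd_iff_pow_eq_one.1 (h4.trans h5)
  rw [pow_two] at hc2
  rcases mul_self_eq_one_iff.1 hc2 with h | h
  · left; rw [hc, h, one_smul]
  · right; rw [hc, h, neg_smul, one_smul]

end

end Cfsg.Agent.H437.Tits
end

-- part: H437/Tits/Lin
section
/-!
# S3414 [E3]: affine 2-transitive groups as linear groups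
-/

set_option autoImplicit false
set_option linter.style.haveILetI false
set_option linter.unusedSectionVars false

namespace Cfsg.Agent.H437.Tits

open Module Cfsg.Agent.H482.Tab Cfsg.Agent.H873.Tits

universe v

/-- an affine 2-transitive group: the stabilizer of `a` is linear -/
theorem exists_TL {Ω : Type v} [Finite Ω] {L : Subgroup (Equiv.Perm Ω)} (h2 : TwoTr L) (hAff : Aff L) {a b : Ω}
    (hab : a ≠ b) : ∃ (r : ℕ) (_ : Fact r.Prime) (V : Type v) (_ : AddCommGroup V) (_ : Module (ZMod r) V)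
      (_ : Finite V) (φ : ↥(Stb L a) →* Module.End (ZMod r) V) (w₁ : V) (β : V ≃ Ω), TL r V (Stb L a) φ w₁ ∧
      β 0 = a ∧ β w₁ = b ∧ ∀ (g : Stb L a) (v : V), β (φ g v) = (g : Equiv.Perm Ω) (β v) := by
  classical
  obtain ⟨W, hWL, hWn, hWc, hWt, hWs⟩ := hAff
  have hconj : ∀ g ∈ L, ∀ w ∈ W, g * w * g⁻¹ ∈ W := by
    intro g hg w hw
    have := hWn.conj_mem ⟨w, hWL hw⟩ (Subgroup.mem_subgroupOf.2 hw) ⟨g, hg⟩
    exact Subgroup.mem_subgroupOf.1 this
  have hreg : ∀ w ∈ W, ∀ w' ∈ W, w a = w' a → w = w' := by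
    intro w hw w' hw' h
    have h1 : (⟨w'⁻¹ * w, W.mul_mem (W.inv_mem hw') hw⟩ : W) ∈ MulAction.stabilizer W a := by
      rw [MulAction.mem_stabilizer_iff]
      change (w'⁻¹ * w) a = a
      rw [Equiv.Perm.mul_apply, Equiv.Perm.inv_eq_iff_eq]
      exact h
    rw [hWs a, Subgroup.mem_bot] at h1
    have h2 := congrArg Subtype.val h1
    exact (inv_mul_eq_one.1 h2).symm
  letI : CommGroup ↥W :=
    { (inferInstance : Group ↥W) with
      mul_comm := fun x y => hWc.is_comm.comm x y }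
  let A := Stb L a
  have hAL : ∀ g ∈ A, g ∈ L := fun g hg => hg.1
  have hAa : ∀ g ∈ A, g a = a := fun g hg => hg.2
  let V := Additive ↥W
  let f : ↥A → V →+ V := fun g => MonoidHom.toAdditive
    { toFun := fun w => ⟨(g : Equiv.Perm Ω) * w * (g : Equiv.Perm Ω)⁻¹, hconj g (hAL g g.2) w w.2⟩
      map_one' := Subtype.ext (by simp)
      map_mul' := fun w w' => Subtype.ext (by simp only [mul_assoc, _root_.Subgroup.coe_mul, _root_.mul_assoc, _root_.MulMemClass.mk_mul_mk, _root_.inv_mul_cancel_left]) }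
  have hβbij : Function.Bijective (fun v : V => ((v.toMul : W) : Equiv.Perm Ω) a) := by
    constructor
    · intro w w' h
      exact Additive.toMul.injective (Subtype.ext (hreg _ w.toMul.2 _ w'.toMul.2 h))
    · intro c
      obtain ⟨w, hw⟩ := hWt.exists_smul_eq a c
      exact ⟨Additive.ofMul w, hw⟩
  let β : V ≃ Ω := Equiv.ofBijective _ hβbij
  have hβ : ∀ v : V, β v = ((v.toMul : W) : Equiv.Perm Ω) a := fun _ => rfl
  have hfa : ∀ (g : A) (v : V), β (f g v) = (g : Equiv.Perm Ω) (β v) := by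
    intro g v
    rw [hβ, hβ]
    change ((g : Equiv.Perm Ω) * (v.toMul : W) * (g : Equiv.Perm Ω)⁻¹) a = _
    rw [Equiv.Perm.mul_apply, Equiv.Perm.mul_apply]
    have : (g : Equiv.Perm Ω)⁻¹ a = a := by
      rw [Equiv.Perm.inv_eq_iff_eq]; exact (hAa g g.2).symm
    rw [this]
  have hβ0 : β 0 = a := rfl
  have hf1 : ∀ v, f 1 v = v := fun v => β.injective (by rw [hfa]; rfl)
  have hfm : ∀ g h v, f (g * h) v = f g (f h v) := fun g h v => β.injective (by rw [hfa, hfa, hfa]; rfl)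
  set w₁ : V := β.symm b with hw₁def
  have hw₁b : β w₁ = b := β.apply_symm_apply b
  have hw₁ : w₁ ≠ 0 := by
    intro h
    rw [h, hβ0] at hw₁b
    exact hab hw₁b
  have htr : ∀ v w : V, v ≠ 0 → w ≠ 0 → ∃ g, f g v = w := by
    intro v w hv hw
    have h1 : a ≠ β v := fun h => hv (β.injective (by rw [hβ0]; exact h.symm))
    have h2' : a ≠ β w := fun h => hw (β.injective (by rw [hβ0]; exact h.symm))
    obtain ⟨g, hg, hga, hgv⟩ := h2 a _ a _ h1 h2'
    exact ⟨⟨g, hg, hga⟩, β.injective (by rw [hfa]; exact hgv)⟩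
  have hnt : Nontrivial V := ⟨⟨w₁, 0, hw₁⟩⟩
  have hfinV : Finite V := Finite.of_equiv Ω β.symm
  have hone : 1 < Nat.card V := Finite.one_lt_card
  obtain ⟨r₀, hr₀, hdvd⟩ := Nat.exists_prime_and_dvd hone.ne'
  have hFact : Fact r₀.Prime := ⟨hr₀⟩
  obtain ⟨w₀, hw₀⟩ := exists_prime_addOrderOf_dvd_card' r₀ hdvd
  have hw₀1 : w₀ ≠ 0 := by
    intro h
    rw [h, addOrderOf_zero] at hw₀
    exact hr₀.one_lt.ne hw₀
  have hexp : ∀ w : V, r₀ • w = 0 := by
    intro w
    by_cases hw : w = 0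
    · rw [hw, smul_zero]
    obtain ⟨g, rfl⟩ := htr w₀ w hw₀1 hw
    rw [← map_nsmul, ← hw₀, addOrderOf_nsmul_eq_zero, map_zero]
  letI : Module (ZMod r₀) V := AddCommGroup.zmodModule (n := r₀) hexp
  let φ : A →* Module.End (ZMod r₀) V :=
    { toFun := fun g => AddMonoidHom.toZModLinearMap r₀ (f g)
      map_one' := by
        apply LinearMap.ext
        intro v
        rw [AddMonoidHom.coe_toZModLinearMap, hf1, Module.End.one_apply]
      map_mul' := by
        intro g h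
        apply LinearMap.ext
        intro v
        rw [AddMonoidHom.coe_toZModLinearMap, hfm, Module.End.mul_apply, AddMonoidHom.coe_toZModLinearMap,
          AddMonoidHom.coe_toZModLinearMap] }
  have hφ : ∀ g (v : V), φ g v = f g v := fun g v => rfl
  refine ⟨r₀, hFact, V, inferInstance, inferInstance, hfinV, φ, w₁, β, ?_, hβ0, hw₁b, hfa⟩
  exact
    { inj := fun g h hgh => by
        apply Subtype.ext
        apply Equiv.ext
        intro c
        have h1 : φ g (β.symm c) = φ h (β.symm c) := by rw [hgh]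
        rw [hφ, hφ] at h1
        have h2 := congrArg β h1
        rwa [hfa, hfa, β.apply_symm_apply] at h2
      tr := fun v w hv hw => htr v w hv hw
      ne := hw₁ }

section

variable {Ω : Type v} [Finite Ω] {L : Subgroup (Equiv.Perm Ω)} {a b : Ω}

theorem card_stab_eq {r : ℕ} [Fact r.Prime] {V : Type v} [AddCommGroup V] [Module (ZMod r) V]
    {φ : ↥(Stb L a) →* Module.End (ZMod r) V} {w₁ : V} {β : V ≃ Ω} (hb : β w₁ = b)
    (hβ : ∀ (g : Stb L a) (v : V), β (φ g v) = (g : Equiv.Perm Ω) (β v)) :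
    Nat.card (stab φ w₁) = Nat.card ↥(Stb L a ⊓ Stb L b) := by
  have h1 : (stab φ w₁).map (Stb L a).subtype = Stb L a ⊓ Stb L b := by
    ext g
    constructor
    · rintro ⟨g, hg, rfl⟩
      refine ⟨g.2, g.2.1, ?_⟩
      have hg' : φ g w₁ = w₁ := hg
      have := hβ g w₁
      rw [hg', hb] at this
      exact this.symm
    · rintro ⟨h1, h2⟩
      refine ⟨⟨g, h1⟩, ?_, rfl⟩
      change φ ⟨g, h1⟩ w₁ = w₁
      apply β.injective
      rw [hβ, hb]
      exact h2.2
  rw [← h1]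
  exact Nat.card_congr ((stab φ w₁).equivMapOfInjective (Stb L a).subtype (Stb L a).subtype_injective).toEquiv

theorem finrank_eq {r : ℕ} [Fact r.Prime] {V : Type v} [AddCommGroup V] [Module (ZMod r) V] [Finite V] {r₀ : ℕ}
    (hr₀ : r₀.Prime) (β : V ≃ Ω) (hc : Nat.card Ω = r₀ ^ 2) : r = r₀ ∧ finrank (ZMod r) V = 2 := by
  have hV : Nat.card V = r ^ finrank (ZMod r) V := by
    rw [Module.natCard_eq_pow_finrank (K := ZMod r), Nat.card_zmod]
  rw [Nat.card_congr β, hc] at hV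
  have hr : r.Prime := Fact.out
  have h1 : r₀ ∣ r ^ finrank (ZMod r) V := hV ▸ dvd_pow_self r₀ (by norm_num)
  have h2 := (Nat.prime_dvd_prime_iff_eq hr₀ hr).1 (hr₀.dvd_of_dvd_pow h1)
  subst h2
  exact ⟨rfl, (Nat.pow_right_injective hr₀.two_le hV).symm⟩

/-- the order of the two point stabilizer -/
theorem card_two_dvd (h2 : TwoTr L) (hAff : Aff L) (hab : a ≠ b) {r₀ : ℕ} (hr₀ : r₀.Prime)
    (hc : Nat.card Ω = r₀ ^ 2) : Nat.card ↥(Stb L a ⊓ Stb L b) ∣ r₀ ^ 2 - r₀ := by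
  obtain ⟨r, hr, V, i1, i2, i3, φ, w₁, β, H, h0, hb, hβ⟩ := exists_TL h2 hAff hab
  obtain ⟨rfl, hd⟩ := finrank_eq (r := r) (V := V) hr₀ β hc
  rw [← card_stab_eq hb hβ]
  have := H.card_stab_dvd (d := 1) hd
  simpa only [_root_.Finset.univ_unique, _root_.Fin.default_eq_zero, _root_.Fin.isValue, _root_.Nat.reduceAdd, _root_.Fin.val_eq_zero, _root_.zero_add, _root_.pow_one, _root_.Finset.prod_const, _root_.Finset.card_singleton] using this

/-- normal `2`-subgroups of the stabilizer have orbits of length at most two -/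
theorem two_orbit (hH : HerTwo.{v}) (h2 : TwoTr L) (hAff : Aff L) (hab : a ≠ b) {r₀ k : ℕ} (hr₀ : r₀.Prime) (hk : 5 ≤ k)
    (hrk : r₀ + 1 = 2 ^ k) (hc : Nat.card Ω = r₀ ^ 2) (h3 : 3 ≤ Nat.card ↥(Stb L a ⊓ Stb L b))
    {P : Subgroup (Equiv.Perm Ω)} (hP : P ≤ Stb L a) (hPn : (P.subgroupOf (Stb L a)).Normal) (hP2 : IsPGroup 2 ↥P) (c : Ω) :
    ∃ d : Ω, ∀ x ∈ P, x c = c ∨ x c = d := by
  obtain ⟨r, hr, V, i1, i2, i3, φ, w₁, β, H, h0, hb, hβ⟩ := exists_TL h2 hAff hab
  obtain ⟨rfl, hd⟩ := finrank_eq (r := r) (V := V) hr₀ β hc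
  rw [← card_stab_eq hb hβ] at h3
  have hP2' : IsPGroup 2 ↥(P.subgroupOf (Stb L a)) :=
    hP2.of_injective (((Stb L a).subtype.comp (P.subgroupOf (Stb L a)).subtype).codRestrict P
      (fun x => Subgroup.mem_subgroupOf.1 x.2)) (fun x y h => by
        have h2 := congrArg Subtype.val h
        exact Subtype.ext (Subtype.ext h2))
  refine ⟨β (-(β.symm c)), fun x hx => ?_⟩
  rcases sq_or hH H hk hrk hd h3 hPn hP2' (x := ⟨x, hP hx⟩) (Subgroup.mem_subgroupOf.2 hx) (β.symm c) with h | h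
  · left
    have := hβ ⟨x, hP hx⟩ (β.symm c)
    rw [h, β.apply_symm_apply] at this
    exact this.symm
  · right
    have := hβ ⟨x, hP hx⟩ (β.symm c)
    rw [h, β.apply_symm_apply] at this
    exact this.symm

end

end Cfsg.Agent.H437.Tits
end

-- part: H437/Tits/Arith
section
/-!
# S3414 [E3]: arithmetic
-/

set_option autoImplicit false

namespace Cfsg.Agent.H437.Tits

open Cfsg.Agent.H873.Tits

universe u v

theorem no_sq {u : ℕ} (hu : u % 4 = 3) : ∀ e g : ℕ, 2 ^ e * u ≠ g ^ 2 := by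
  have h4 : ∀ g : ℕ, g ^ 2 % 4 = 0 ∨ g ^ 2 % 4 = 1 := by
    intro g
    have h : g % 4 = 0 ∨ g % 4 = 1 ∨ g % 4 = 2 ∨ g % 4 = 3 := by omega
    rcases h with h | h | h | h <;> simp [Nat.pow_mod, h]
  intro e
  induction e using Nat.strong_induction_on with
  | _ e ih =>
    intro g h
    have hg := h4 g
    rcases e with _ | _ | e
    · rw [pow_zero, one_mul] at h
      omega
    · rw [zero_add, pow_one] at h
      omega
    · have h1 : 2 ∣ g ^ 2 := by
        rw [← h, pow_succ, mul_assoc]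
        exact (Dvd.intro _ rfl : 2 ∣ 2 * u).mul_left _
      obtain ⟨f, rfl⟩ := Nat.prime_two.dvd_of_dvd_pow h1
      refine ih e (by omega) f ?_
      have h2 : 4 * (2 ^ e * u) = 4 * f ^ 2 := by
        calc 4 * (2 ^ e * u) = 2 ^ (e + 1 + 1) * u := by ring
          _ = (2 * f) ^ 2 := h
          _ = 4 * f ^ 2 := by ring
      exact Nat.eq_of_mul_eq_mul_left (by norm_num) h2

/-- `s = 2 ^ (k + 1) (2 ^ (k - 1) - 1)` -/
theorem s_eq {r₀ k s : ℕ} (hk : 3 ≤ k) (hr : r₀ + 1 = 2 ^ k) (hs : s + 1 = r₀ ^ 2) :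
    s = 2 ^ (k + 1) * (2 ^ (k - 1) - 1) := by
  obtain ⟨c, rfl⟩ : ∃ c, k = c + 1 := ⟨k - 1, by omega⟩
  rw [Nat.add_sub_cancel]
  obtain ⟨d, hd⟩ : ∃ d, 2 ^ c = d + 1 := ⟨2 ^ c - 1, by have := Nat.one_le_two_pow (n := c); omega⟩
  have h1 : r₀ = 2 * d + 1 := by
    rw [pow_succ, hd] at hr
    omega
  rw [h1] at hs
  have h2 : (2 * d + 1) ^ 2 = 4 * (d * (d + 1)) + 1 := by ring
  have h3 : 2 ^ (c + 1 + 1) = 4 * 2 ^ c := by ring
  rw [h3, hd, Nat.add_sub_cancel]
  have h4 : 4 * (d + 1) * d = 4 * (d * (d + 1)) := by ring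
  rw [h4]
  omega

theorem u_mod {k : ℕ} (hk : 3 ≤ k) : (2 ^ (k - 1) - 1) % 4 = 3 := by
  obtain ⟨c, rfl⟩ : ∃ c, k = c + 3 := ⟨k - 3, by omega⟩
  have h1 : 2 ^ (c + 3 - 1) = 4 * 2 ^ c := by
    rw [show c + 3 - 1 = c + 2 by omega]; ring
  have := Nat.one_le_two_pow (n := c)
  omega

/-- the numerical conditions for `s = q b`, `t = q (!b)` -/
theorem num_all {G : Type u} [Group G] {V : Type v} [MulAction G V] {P : Pol G V} (N : Num P) {b : Bool} {s t : ℕ}
    (hs : P.q b = s) (ht : P.q (!b) = t) :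
    (P.n = 4 → s ≤ t ^ 2 ∧ t ≤ s ^ 2 ∧ (s + t) ∣ 2 * s * t * (1 + s) * (1 + t)) ∧
    (P.n = 6 → s ≤ t ^ 3 ∧ t ≤ s ^ 3 ∧ ∃ g, s * t = g ^ 2) ∧
    (P.n = 8 → s ≤ t ^ 2 ∧ t ≤ s ^ 2 ∧ ∃ g, 2 * s * t = g ^ 2) := by
  have e1 : P.q true * P.q false = s * t := by
    cases b
    · rw [Bool.not_false] at ht; rw [hs, ht, mul_comm]
    · rw [Bool.not_true] at ht; rw [hs, ht]
  have e2 : P.q true + P.q false = s + t := by
    cases b
    · rw [Bool.not_false] at ht; rw [hs, ht, add_comm]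
    · rw [Bool.not_true] at ht; rw [hs, ht]
  have e3 : (1 + P.q true) * (1 + P.q false) = (1 + s) * (1 + t) := by
    cases b
    · rw [Bool.not_false] at ht; rw [hs, ht, mul_comm]
    · rw [Bool.not_true] at ht; rw [hs, ht]
  refine ⟨fun h => ⟨?_, ?_, ?_⟩, fun h => ⟨?_, ?_, ?_⟩, fun h => ⟨?_, ?_, ?_⟩⟩
  · have := N.hig48 (Or.inl h) b; rwa [hs, ht] at this
  · have := N.hig48 (Or.inl h) (!b); rwa [Bool.not_not, hs, ht] at this
  · have h3 := N.fh4 h
    have e4 : 2 * P.q true * P.q false * (1 + P.q true) * (1 + P.q false) = 2 * s * t * (1 + s) * (1 + t) := by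
      calc 2 * P.q true * P.q false * (1 + P.q true) * (1 + P.q false)
          = 2 * (P.q true * P.q false) * ((1 + P.q true) * (1 + P.q false)) := by ring
        _ = 2 * (s * t) * ((1 + s) * (1 + t)) := by rw [e1, e3]
        _ = _ := by ring
    rwa [e2, e4] at h3
  · have := N.hig6 h b; rwa [hs, ht] at this
  · have := N.hig6 h (!b); rwa [Bool.not_not, hs, ht] at this
  · obtain ⟨g, hg, -⟩ := N.fh6 h
    exact ⟨g, by rw [← e1, hg]⟩
  · have := N.hig48 (Or.inr h) b; rwa [hs, ht] at this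
  · have := N.hig48 (Or.inr h) (!b); rwa [Bool.not_not, hs, ht] at this
  · obtain ⟨g, hg, -⟩ := N.fh8 h
    exact ⟨g, by rw [mul_assoc, ← e1, ← mul_assoc, hg]⟩

/-- `t = 2 ^ j`: then `n = 4` -/
theorem n_eq_four {G : Type u} [Group G] {V : Type v} [MulAction G V] {P : Pol G V} (N : Num P) {b : Bool} {s j r₀ k : ℕ}
    (hs : P.q b = s) (ht : P.q (!b) = 2 ^ j) (hk : 3 ≤ k) (hr : r₀ + 1 = 2 ^ k) (hs' : s + 1 = r₀ ^ 2) : P.n = 4 := by
  obtain ⟨-, h6, h8⟩ := num_all N hs ht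
  rcases P.hn with h | h | h
  · exact h
  · exfalso
    obtain ⟨-, -, g, hg⟩ := h6 h
    refine no_sq (u_mod hk) (k + 1 + j) g ?_
    rw [← hg, s_eq hk hr hs']
    ring
  · exfalso
    obtain ⟨-, -, g, hg⟩ := h8 h
    refine no_sq (u_mod hk) (k + 2 + j) g ?_
    rw [← hg, s_eq hk hr hs']
    ring

theorem three_dvd {r₀ k s : ℕ} (hr₀ : r₀.Prime) (h7 : 7 ≤ r₀) (hr : r₀ + 1 = 2 ^ k) (hs : s + 1 = r₀ ^ 2) : 3 ∣ s := by
  have h3 : ¬ 3 ∣ r₀ := by
    intro h
    have := (Nat.prime_dvd_prime_iff_eq Nat.prime_three hr₀).1 h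
    omega
  have h5 : r₀ % 3 = 1 ∨ r₀ % 3 = 2 := by omega
  have h4 : r₀ ^ 2 % 3 = 1 := by
    rcases h5 with h | h <;> simp [Nat.pow_mod, h]
  omega

/-- `2 ^ c + 1` is a proper prime power only for `c = 3` -/
theorem two_pow_add_one {r c d : ℕ} (hr : r.Prime) (hc : 1 ≤ c) (h : 2 ^ c + 1 = r ^ d) : d = 1 ∨ 2 ^ c = 8 := by
  have hr2 : r ≠ 2 := by
    rintro rfl
    have h1 : 2 ∣ 2 ^ c := dvd_pow_self 2 (by omega)
    rcases Nat.eq_zero_or_pos d with h0 | h0
    · rw [h0, pow_zero] at h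
      have := Nat.one_le_two_pow (n := c)
      omega
    · have h2 : 2 ∣ 2 ^ d := dvd_pow_self 2 (by omega)
      omega
  by_cases hd1 : d = 1
  · exact Or.inl hd1
  right
  have hd0 : d ≠ 0 := by
    rintro rfl
    rw [pow_zero] at h
    have := Nat.one_le_two_pow (n := c)
    omega
  have hr3 : 3 ≤ r := by have := hr.two_le; omega
  by_cases h2 : d = 2 ∧ ∃ k, r + 1 = 2 ^ k
  · obtain ⟨rfl, k, hk⟩ := h2
    obtain ⟨m, rfl⟩ : ∃ m, r = m + 1 := ⟨r - 1, by omega⟩
    have h3 : 2 ^ c = m * (m + 1 + 1) := by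
      have : (m + 1) ^ 2 = m * (m + 1 + 1) + 1 := by ring
      omega
    obtain ⟨e, -, he⟩ := (Nat.dvd_prime_pow Nat.prime_two).1 (show m ∣ 2 ^ c from h3 ▸ Dvd.intro _ rfl)
    -- `2 ^ k = 2 ^ e + 2`
    have h4 : 2 ^ k = 2 ^ e + 2 := by omega
    have he1 : e = 1 := by
      rcases e with _ | _ | e
      · rw [pow_zero] at he; omega
      · rfl
      · exfalso
        have h5 : 4 ∣ 2 ^ (e + 1 + 1) := ⟨2 ^ e, by ring⟩
        have h6 : 3 ≤ k := by
          by_contra hcon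
          have h8 : 2 ^ k ≤ 2 ^ 2 := Nat.pow_le_pow_right (by norm_num) (by omega)
          have h7 : 2 ^ 2 ≤ 2 ^ (e + 1 + 1) := Nat.pow_le_pow_right (by norm_num) (by omega)
          omega
        have h7 : 2 ^ 2 ∣ 2 ^ k := pow_dvd_pow 2 (by omega)
        omega
    subst he1
    rw [h3, he]
    norm_num
  · exfalso
    obtain ⟨l, hl, h3, h4, -⟩ := Cfsg.Agent.Lib.Zsigmondy.exists_primitive hr.two_le
      (Nat.two_le_iff d |>.2 ⟨hd0, hd1⟩) (fun h3 h4 => h2 ⟨h3, h4⟩) (fun h3 => hr2 h3.1)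
    have h5 : r ^ d - 1 = 2 ^ c := by rw [← h, Nat.add_sub_cancel]
    have h8 : l ∣ r ^ d - 1 := (h3 d).2 dvd_rfl
    rw [h5] at h8
    have h6 := (Nat.prime_dvd_prime_iff_eq hl Nat.prime_two).1 (hl.dvd_of_dvd_pow h8)
    subst h6
    have h9 := hr.eq_two_or_odd
    have h7 := (h3 1).1 (by rw [pow_one]; omega)
    exact hd1 (Nat.dvd_one.1 h7)

end Cfsg.Agent.H437.Tits
end
end

-- part: H437/Tits/Ord
section
set_option linter.all false
open scoped Cfsg.Agent.FastGrp

/-!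
# S3414 [E3]: the orders of the simple groups against `|G|` for `s = 48`
-/

set_option autoImplicit false

namespace Cfsg.Agent.H437.Tits

open Cfsg Cfsg.Agent.OrdDiv

universe u

/-- no candidates -/
def Emp (l : List (ℕ × ℕ)) (N D : ℕ) : Bool := valid l N && ((cands l N).filter (fun g => ordN g % D == 0)).isEmpty

theorem no_simple (T : OrderTable.{u}) {S : Type u} [Group S] (h : IsKnownSimple' S) (hna : ¬ IsMulCommutative S)
    {l : List (ℕ × ℕ)} {N D : ℕ} (hE : Emp l N D = true) (hd : Nat.card S ∣ N) (hD : D ∣ Nat.card S) : False := by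
  unfold Emp at hE
  rw [Bool.and_eq_true] at hE
  obtain ⟨g, hg, -⟩ := exists_real_filter T h (fun h' => hna ⟨⟨h'⟩⟩) hE.1 hd (fun c => c % D == 0)
    (by rw [beq_iff_eq]; exact Nat.mod_eq_zero_of_dvd hD)
  rw [List.isEmpty_iff] at hE
  rw [hE.2] at hg
  exact absurd hg (List.not_mem_nil)

end Cfsg.Agent.H437.Tits
end

-- part: H482/Tits/Glob
section
set_option linter.all false
open scoped Cfsg.Agent.FastGrp

/-!
# S3414, E3, global half: the minimal normal subgroups of `G`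

* `flag_trans` : a normal subgroup `M ≠ 1` of a group without normal subgroups of odd order is flag transitive, if the parameters
  are even;
* `exists_simple` : if a prime `p` divides the number of chambers and `p²` does not divide `|G|`, there is a non-abelian simple
  normal subgroup, and its order is divisible by the number of chambers.
-/

set_option autoImplicit false
set_option linter.unusedSectionVars false

namespace Cfsg.Agent.H482.Tits

open Subgroup Cfsg.Agent.H873.Tits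

universe u v

/-! ### Minimal normal subgroups -/

theorem simple_of_minimal {G : Type u} [Group G] [Finite G] (N : Subgroup G) [N.Normal] (hN : N ≠ ⊥)
    (hmin : ∀ M : Subgroup G, M.Normal → M ≤ N → M = ⊥ ∨ M = N) {p : ℕ} (hp : p.Prime) (hd : p ∣ Nat.card N)
    (hd2 : ¬ p ^ 2 ∣ Nat.card G) : IsSimpleGroup ↥N := by
  obtain ⟨T, m, hT, hs, hm, ⟨e⟩⟩ := Cfsg.Agent.Lib.MinNormal.exists_mulEquiv_pi N hN hmin
  have h1 : Nat.card N = Nat.card T ^ m := by
    rw [Nat.card_congr e.toEquiv, Nat.card_fun, Nat.card_fin]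
  have h2 : p ∣ Nat.card T := by
    rw [h1] at hd
    exact hp.dvd_of_dvd_pow hd
  have h3 : m = 1 := by
    by_contra h
    apply hd2
    have h4 : 2 ≤ m := by omega
    exact (pow_dvd_pow p h4).trans ((pow_dvd_pow_of_dvd h2 m).trans (h1 ▸ card_subgroup_dvd_card N))
  subst h3
  have e2 : (Fin 1 → T) ≃* T := {
    toFun := fun f => f 0
    invFun := fun t _ => t
    left_inv := fun f => by funext i; rw [Subsingleton.elim i 0]
    right_inv := fun t => rfl
    map_mul' := fun f g => rfl }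
  exact (e.trans e2).isSimpleGroup

variable {G : Type u} [Group G] {V : Type v} [MulAction G V] (P : Pol G V)

/-! ### Paths -/

/-- a third neighbour -/
theorem exists_third (v a b : V) : ∃ c, P.adj v c ∧ c ≠ a ∧ c ≠ b := by
  classical
  by_contra h
  push Not at h
  have h1 : Nat.card {w : V // P.adj v w} = P.q (P.tp v) + 1 := P.card_nb v
  have h2 := P.two_le (P.tp v)
  have hfin : Finite {w : V // P.adj v w} := Nat.finite_of_card_ne_zero (by omega)
  have h3 : Nat.card {w : V // P.adj v w} ≤ 2 := by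
    have hsub : {w : V | P.adj v w} ⊆ ({a, b} : Set V) := by
      intro c hc
      by_cases hca : c = a
      · exact Or.inl hca
      · exact Or.inr (h c hc hca)
    have h4 := Set.ncard_le_ncard hsub (Set.toFinite _)
    have h5 : ({a, b} : Set V).ncard ≤ 2 := (Set.ncard_insert_le a {b}).trans (by rw [Set.ncard_singleton])
    exact h4.trans h5
  omega

/-- the last vertex of a path of length `k + 1` can be replaced -/
theorem path_update {k : ℕ} {p : ℕ → V} (hp : IsPath P.adj (k + 1) p) {c : V} (hc : P.adj (p k) c)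
    (hc' : 1 ≤ k → c ≠ p (k - 1)) : IsPath P.adj (k + 1) (fun i => if i = k + 1 then c else p i) := by
  constructor
  · intro i hi
    by_cases h : i = k
    · subst h
      dsimp only
      rw [if_neg (by omega), if_pos rfl]
      exact hc
    · dsimp only
      rw [if_neg (by omega), if_neg (by omega)]
      exact hp.1 i hi
  · intro i hi
    by_cases h : i + 2 = k + 1
    · dsimp only
      rw [if_pos h, if_neg (by omega)]
      have h1 := hc' (by omega)
      have h2 : k - 1 = i := by omega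
      rwa [h2] at h1
    · dsimp only
      rw [if_neg h, if_neg (by omega)]
      exact hp.2 i hi

theorem path_two {a b c : V} (h1 : P.adj a b) (h2 : P.adj b c) (h3 : c ≠ a) :
    IsPath P.adj 2 (fun i => if i = 0 then a else if i = 1 then b else c) := by
  constructor
  · intro i hi
    have : i = 0 ∨ i = 1 := by omega
    rcases this with rfl | rfl
    · simpa using h1
    · simpa using h2
  · intro i hi
    have : i = 0 := by omega
    subst this
    simpa using h3

/-- a vertex is determined by two of its neighbours -/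
theorem eq_of_two {y y' a b : V} (hab : a ≠ b) (h1 : P.adj a y) (h2 : P.adj y b) (h1' : P.adj a y') (h2' : P.adj y' b) :
    y = y' := by
  have hn : 4 ≤ P.n := by rcases P.hn with h | h | h <;> omega
  have h := P.path_unique (path_two P h1 h2 hab.symm) (path_two P h1' h2' hab.symm) (by simp) (by simp) (by omega)
  have h3 := h.2 1 (by omega)
  simpa using h3

/-- the graph is connected -/
theorem connected {C : V → Prop} {v : V} (hv : C v) (h : ∀ a b, P.adj a b → C a → C b) (w : V) : C w := by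
  obtain ⟨k, -, p, hp, h0, h1⟩ := P.exists_path v w
  have key : ∀ i, i ≤ k → C (p i) := by
    intro i
    induction i with
    | zero => intro _; rw [h0]; exact hv
    | succ i ih => intro hi; exact h _ _ (hp.1 i (by omega)) (ih (by omega))
  rw [← h1]
  exact key k le_rfl

theorem trans_v {v w : V} (h : P.tp v = P.tp w) : ∃ g : G, g • v = w := by
  obtain ⟨g, hg⟩ := P.trans (k := 0) (p := fun _ => v) (p' := fun _ => w) (Nat.zero_le _)
    ⟨fun i hi => by omega, fun i hi => by omega⟩ ⟨fun i hi => by omega, fun i hi => by omega⟩ h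
  exact ⟨g, hg 0 le_rfl⟩

/-! ### Normal subgroups -/

section Nor

variable {M : Subgroup G} [hM : M.Normal] (F : Facts P)

/-- `M` is transitive on the neighbours of `v`, in the stabilizer of `v` -/
def Tr (P : Pol G V) (M : Subgroup G) (v : V) : Prop :=
  ∀ a b, P.adj v a → P.adj v b → ∃ m ∈ M, m • v = v ∧ m • a = b

include F in
theorem tr_or (v : V) : Tr P M v ∨ M ⊓ P.S v ≤ P.K v := by
  by_cases h : M ⊓ P.S v ≤ P.K v
  · exact Or.inr h
  left
  obtain ⟨m, hm, hmK⟩ := SetLike.not_le_iff_exists.1 h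
  have hmv : m • v = v := hm.2
  rw [P.mem_K] at hmK
  push Not at hmK
  obtain ⟨a₀, ha₀, hne⟩ := hmK hmv
  have hadj : P.adj v (m • a₀) := by
    have := P.smul_adj m ha₀
    rwa [hmv] at this
  intro a b ha hb
  by_cases hab : a = b
  · subst hab
    exact ⟨1, M.one_mem, one_smul _ _, one_smul _ _⟩
  obtain ⟨g, hg, h1, h2⟩ := F.two_trans ha₀ hadj hne.symm ha hb hab
  have hgv : g • v = v := hg
  refine ⟨g * m * g⁻¹, hM.conj_mem m hm.1 g, ?_, ?_⟩
  · rw [mul_smul, mul_smul, inv_smul_eq_iff.2 hgv.symm, hmv, hgv]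
  · rw [mul_smul, mul_smul, inv_smul_eq_iff.2 h1.symm, h2]

theorem Tr.smul {v : V} (h : Tr P M v) (g : G) : Tr P M (g • v) := by
  intro a b ha hb
  have ha' : P.adj v (g⁻¹ • a) := by
    have := P.smul_adj g⁻¹ ha
    rwa [inv_smul_smul] at this
  have hb' : P.adj v (g⁻¹ • b) := by
    have := P.smul_adj g⁻¹ hb
    rwa [inv_smul_smul] at this
  obtain ⟨m, hm, h1, h2⟩ := h _ _ ha' hb'
  refine ⟨g * m * g⁻¹, hM.conj_mem m hm g, ?_, ?_⟩
  · rw [mul_smul, mul_smul, inv_smul_smul, h1]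
  · rw [mul_smul, mul_smul, h2, smul_inv_smul]

theorem Tr.of_tp {v w : V} (h : Tr P M v) (e : P.tp v = P.tp w) : Tr P M w := by
  obtain ⟨g, rfl⟩ := trans_v P e
  exact h.smul P g

/-- case (2) -/
theorem case_two {x : V} (hx : Tr P M x) (hy : ∀ y, P.tp y ≠ P.tp x → M ⊓ P.S y ≤ P.K y) : M = ⊥ := by
  -- `M` fixes all the vertices of the type of `x`
  have key : ∀ z, P.tp z = P.tp x → ∀ m ∈ M, m • z = z := by
    intro z hz m hm
    by_contra hne
    obtain ⟨k, hk, p, hp, h0, h1⟩ := P.exists_path z (m • z)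
    obtain ⟨k, rfl⟩ : ∃ j, k = j + 1 := by
      refine ⟨k - 1, ?_⟩
      by_contra h
      have : k = 0 := by omega
      subst this
      exact hne (by rw [← h1, h0])
    -- a third neighbour
    obtain ⟨c, hc, hc1, hc2⟩ := exists_third P (p k) (p (k - 1)) (m • z)
    have hp' := path_update P hp hc (fun _ => hc1)
    obtain ⟨g, hg⟩ := P.trans (by omega) hp hp' (by rw [if_neg (by omega)])
    have hg0 : g • z = z := by
      have := hg 0 (Nat.zero_le _)
      rwa [if_neg (by omega), h0] at this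
    have hg1 : g • (m • z) = c := by
      have := hg (k + 1) le_rfl
      rwa [if_pos rfl, h1] at this
    -- `c = m' (m z)`
    set m' := g * m * g⁻¹ * m⁻¹ with hm'
    have hm'M : m' ∈ M := M.mul_mem (hM.conj_mem m hm g) (M.inv_mem hm)
    have e1 : m' • (m • z) = c := by
      rw [hm', mul_smul, inv_smul_smul, mul_smul, mul_smul, inv_smul_eq_iff.2 hg0.symm, hg1]
    have hadj1 : P.adj (p k) (m • z) := by
      have := hp.1 k (by omega)
      rwa [h1] at this
    have htc : P.tp c = P.tp x := by rw [← e1, P.smul_tp, P.smul_tp, hz]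
    have htr : Tr P M c := hx.of_tp P htc.symm
    have hadj2 : P.adj c (m' • p k) := by
      have := P.smul_adj m' (P.symm hadj1)
      rwa [e1] at this
    obtain ⟨m'', hm''M, h2, h3⟩ := htr (m' • p k) (p k) hadj2 (P.symm hc)
    have hty : P.tp (p k) ≠ P.tp x := by
      rw [P.tp_adj (P.symm hc), htc]
      cases P.tp x <;> simp
    have h4 := hy (p k) hty (show m'' * m' ∈ M ⊓ P.S (p k) from
      ⟨M.mul_mem hm''M hm'M, (by rw [mul_smul, h3] : (m'' * m') • p k = p k)⟩)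
    have h5 := h4.2 (m • z) hadj1
    rw [mul_smul, e1, h2] at h5
    exact hc2 h5
  refine (Subgroup.eq_bot_iff_forall _).2 fun m hm => P.faithful m fun v => ?_
  by_cases hv : P.tp v = P.tp x
  · exact key v hv m hm
  · obtain ⟨a, ha, -, -⟩ := exists_third P v v v
    obtain ⟨b, hb, hba, -⟩ := exists_third P v a a
    have hta : P.tp a = P.tp x := by
      rw [P.tp_adj ha]
      revert hv
      cases P.tp v <;> cases P.tp x <;> simp
    have htb : P.tp b = P.tp x := by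
      rw [P.tp_adj hb]
      revert hv
      cases P.tp v <;> cases P.tp x <;> simp
    have h1 := P.smul_adj m ha
    have h2 := P.smul_adj m hb
    rw [key a hta m hm] at h1
    rw [key b htb m hm] at h2
    exact (eq_of_two P hba.symm (P.symm ha) hb (P.symm h1) h2).symm

/-- case (3): `M` is semiregular -/
theorem case_three (h : ∀ v, M ⊓ P.S v ≤ P.K v) (v : V) : M ⊓ P.S v = ⊥ := by
  refine (Subgroup.eq_bot_iff_forall _).2 fun m hm => P.faithful m fun w => ?_
  refine connected P (C := fun w => m • w = w) (v := v) hm.2 (fun a b hab ha => ?_) w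
  exact (h a ⟨hm.1, ha⟩).2 b hab

/-- case (1): `M` is flag transitive -/
theorem case_one (h : ∀ v, Tr P M v) {x y x' y' : V} (hxy : P.adj x y) (hxy' : P.adj x' y') (ht : P.tp x = P.tp x') :
    ∃ m ∈ M, m • x = x' ∧ m • y = y' := by
  -- all flags containing a vertex in the orbit
  have key : ∀ w, ∀ w', P.adj w w' → ∃ m ∈ M, (P.tp w = P.tp x → m • x = w ∧ m • y = w') ∧
      (P.tp w ≠ P.tp x → m • y = w ∧ m • x = w') := by
    refine connected P (C := fun w => ∀ w', P.adj w w' → ∃ m ∈ M, (P.tp w = P.tp x → m • x = w ∧ m • y = w') ∧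
      (P.tp w ≠ P.tp x → m • y = w ∧ m • x = w')) (v := x) ?_ ?_
    · intro w' hw'
      obtain ⟨m, hm, h1, h2⟩ := h x y w' hxy hw'
      exact ⟨m, hm, fun _ => ⟨h1, h2⟩, fun h => absurd rfl h⟩
    · intro a b hab ih w' hw'
      obtain ⟨m, hm, h1, h2⟩ := ih b hab
      obtain ⟨m', hm', h3, h4⟩ := h b a w' (P.symm hab) hw'
      have hne : P.tp b = !P.tp a := P.tp_adj hab
      refine ⟨m' * m, M.mul_mem hm' hm, fun hb => ?_, fun hb => ?_⟩
      · have ha : P.tp a ≠ P.tp x := by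
          rw [← hb, hne]; cases P.tp a <;> simp
        obtain ⟨h5, h6⟩ := h2 ha
        rw [mul_smul, mul_smul, h5, h6, h3, h4]
        exact ⟨rfl, rfl⟩
      · have ha : P.tp a = P.tp x := by
          revert hb
          rw [hne]
          cases P.tp a <;> cases P.tp x <;> simp
        obtain ⟨h5, h6⟩ := h1 ha
        rw [mul_smul, mul_smul, h5, h6, h3, h4]
        exact ⟨rfl, rfl⟩
  obtain ⟨m, hm, h1, -⟩ := key x' y' hxy'
  exact ⟨m, hm, h1 ht.symm⟩

end Nor

/-- the number of chambers divides the order of a flag transitive subgroup -/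
theorem dvd_of_trans [Finite G] (E : FactsE P) {M : Subgroup G} {x y : V} (hxy : P.adj x y)
    (h : ∀ x' y' : V, P.adj x' y' → P.tp x = P.tp x' → ∃ m ∈ M, m • x = x' ∧ m • y = y') :
    ch P.n (P.q true) (P.q false) ∣ Nat.card ↥M := by
  have h1 := E.index_B hxy
  have h2 : (P.S x ⊓ P.S y).relIndex M = (P.S x ⊓ P.S y).index := by
    apply le_antisymm
    · rw [← relIndex_top_right (P.S x ⊓ P.S y)]
      exact relIndex_le_of_le_right le_top (by rw [relIndex_top_right]; exact index_ne_zero_of_finite)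
    · -- surjectivity
      rw [Subgroup.relIndex, Subgroup.index, Subgroup.index]
      have : Function.Surjective (fun a : ↥M ⧸ (P.S x ⊓ P.S y).subgroupOf M =>
          Quotient.map' (s₁ := QuotientGroup.leftRel ((P.S x ⊓ P.S y).subgroupOf M))
            (s₂ := QuotientGroup.leftRel (P.S x ⊓ P.S y)) (fun m : ↥M => (m : G))
            (fun a b hab => by
              rw [QuotientGroup.leftRel_apply] at hab ⊢
              exact hab) a) := by
        intro b
        induction b using QuotientGroup.induction_on with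
        | H g =>
          obtain ⟨m, hm, h3, h4⟩ := h (g • x) (g • y) (P.smul_adj g hxy) (P.smul_tp g x).symm
          refine ⟨((⟨m, hm⟩ : ↥M) : ↥M ⧸ (P.S x ⊓ P.S y).subgroupOf M), ?_⟩
          change ((m : G) : G ⧸ (P.S x ⊓ P.S y)) = (g : G ⧸ (P.S x ⊓ P.S y))
          rw [QuotientGroup.eq, Subgroup.mem_inf, MulAction.mem_stabilizer_iff, MulAction.mem_stabilizer_iff,
            mul_smul, mul_smul, ← h3, ← h4, inv_smul_smul, inv_smul_smul]
          exact ⟨rfl, rfl⟩
      exact Nat.card_le_card_of_surjective _ this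
  rw [← h1, ← h2]
  exact relIndex_dvd_card _ _

theorem exists_edge (b : Bool) : ∃ x y : V, P.adj x y ∧ P.tp x = b := by
  obtain ⟨v⟩ := P.nonempty
  obtain ⟨w, hw, -, -⟩ := exists_third P v v v
  by_cases h : P.tp v = b
  · exact ⟨v, w, hw, h⟩
  · refine ⟨w, v, P.symm hw, ?_⟩
    rw [P.tp_adj hw]
    revert h
    cases P.tp v <;> cases b <;> simp

/-- **A nontrivial normal subgroup is flag transitive.** -/
theorem flag_trans [Finite G] (F : Facts P) (E : FactsE P) (hO : NoOdd G) (h2 : ∀ b, 2 ∣ P.q b) {M : Subgroup G}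
    [hM : M.Normal] (hM1 : M ≠ ⊥) {x y x' y' : V} (hxy : P.adj x y) (hxy' : P.adj x' y') (ht : P.tp x = P.tp x') :
    ∃ m ∈ M, m • x = x' ∧ m • y = y' := by
  by_cases hall : ∀ v, Tr P M v
  · exact case_one P hall hxy hxy' ht
  exfalso
  push Not at hall
  obtain ⟨v, hv⟩ := hall
  have hK : ∀ w, P.tp w = P.tp v → M ⊓ P.S w ≤ P.K w := by
    intro w hw
    rcases tr_or P F (M := M) w with h | h
    · exact absurd (h.of_tp P hw) hv
    · exact h
  by_cases hex : ∃ w, Tr P M w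
  · obtain ⟨w, hw⟩ := hex
    apply hM1
    refine case_two P hw fun y hy => hK y ?_
    have h1 : P.tp w ≠ P.tp v := fun h => hv (hw.of_tp P h)
    revert hy h1
    cases P.tp y <;> cases P.tp w <;> cases P.tp v <;> simp
  · push Not at hex
    have h3 : ∀ w, M ⊓ P.S w ≤ P.K w := fun w => (tr_or P F (M := M) w).resolve_left (hex w)
    have h4 := case_three P h3 v
    have h5 : Nat.card ↥M ∣ (P.S v).index := by
      have e1 : M.relIndex (P.S v ⊔ M) = Nat.card ↥(P.S v) := by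
        rw [relIndex_sup_right, ← inf_relIndex_right, h4, relIndex_bot_left]
      have e2 : M.relIndex (P.S v ⊔ M) * Nat.card ↥M = Nat.card ↥(P.S v ⊔ M) := by
        rw [← relIndex_bot_left, ← relIndex_bot_left, mul_comm]
        exact relIndex_mul_relIndex _ _ _ bot_le le_sup_right
      have e3 : Nat.card ↥(P.S v ⊔ M) ∣ Nat.card G := card_subgroup_dvd_card _
      rw [← e2, e1, ← card_mul_index (P.S v)] at e3
      exact Nat.dvd_of_mul_dvd_mul_left Nat.card_pos e3
    have h6 := E.index_S v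
    have h7 : ¬ 2 ∣ (P.S v).index := by
      have hodd : ∀ m : ℕ, 1 ≤ m → ¬ 2 ∣ ∑ i ∈ Finset.range m, (P.q true * P.q false) ^ i := by
        intro m hm
        obtain ⟨m, rfl⟩ : ∃ j, m = j + 1 := ⟨m - 1, by omega⟩
        rw [Finset.sum_range_succ', pow_zero]
        have h8 : 2 ∣ ∑ i ∈ Finset.range m, (P.q true * P.q false) ^ (i + 1) :=
          Finset.dvd_sum fun i _ => (Dvd.dvd.mul_right (h2 true) _).trans (dvd_pow_self _ (Nat.succ_ne_zero i))
        omega
      have hS := hodd (P.n / 2) (by rcases P.hn with h | h | h <;> rw [h] <;> norm_num)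
      have ho : ∀ b, ¬ 2 ∣ 1 + P.q b := fun b => by have := h2 b; omega
      intro h8
      have h9 : 2 ∣ ch P.n (P.q true) (P.q false) := by
        rw [← h6]; exact Dvd.dvd.mul_right h8 _
      unfold ch at h9
      rcases (Nat.prime_two.dvd_mul).1 h9 with h10 | h10
      · rcases (Nat.prime_two.dvd_mul).1 h10 with h11 | h11
        · exact ho _ h11
        · exact ho _ h11
      · exact hS h10
    exact hM1 (hO.1 M hM fun h => h7 (h.trans h5))

theorem dvd_card [Finite G] (F : Facts P) (E : FactsE P) (hO : NoOdd G) (h2 : ∀ b, 2 ∣ P.q b) {M : Subgroup G}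
    [hM : M.Normal] (hM1 : M ≠ ⊥) : ch P.n (P.q true) (P.q false) ∣ Nat.card ↥M := by
  obtain ⟨x, y, hxy, -⟩ := exists_edge P true
  exact dvd_of_trans P E hxy fun x' y' h h' => flag_trans P F E hO h2 hM1 hxy h h'

/-- **The simple normal subgroup.** -/
theorem exists_simple [Finite G] (F : Facts P) (E : FactsE P) (hO : NoOdd G) (h2 : ∀ b, 2 ∣ P.q b) {p : ℕ}
    (hp : p.Prime) (hd : p ∣ ch P.n (P.q true) (P.q false)) (hd2 : ¬ p ^ 2 ∣ Nat.card G) :
    ∃ T : Subgroup G, T.Normal ∧ IsSimpleGroup ↥T ∧ ¬ IsMulCommutative ↥T ∧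
      ch P.n (P.q true) (P.q false) ∣ Nat.card ↥T ∧ Subgroup.centralizer (T : Set G) = ⊥ := by
  classical
  have hch : 1 < ch P.n (P.q true) (P.q false) := by
    have h1 := P.two_le true
    have h3 := P.two_le false
    have h4 : 1 ≤ ∑ i ∈ Finset.range (P.n / 2), (P.q true * P.q false) ^ i := by
      obtain ⟨m, hm⟩ : ∃ j, P.n / 2 = j + 1 := ⟨P.n / 2 - 1, by rcases P.hn with h | h | h <;> rw [h] <;> norm_num⟩
      rw [hm, Finset.sum_range_succ', pow_zero]
      omega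
    unfold ch
    calc 1 < 3 * 3 * 1 := by norm_num
      _ ≤ _ := Nat.mul_le_mul (Nat.mul_le_mul (by omega) (by omega)) h4
  have hG : (⊤ : Subgroup G) ≠ ⊥ := by
    intro h
    have h1 : Subgroup.center G = ⊥ := hO.2
    have h3 : Nat.card G = 1 := by
      rw [← Subgroup.card_top, h, Subgroup.card_bot]
    obtain ⟨x, y, hxy, -⟩ := exists_edge P true
    have h4 := E.index_B hxy
    have h5 : (P.S x ⊓ P.S y).index ∣ Nat.card G := Subgroup.index_dvd_card _
    rw [h4, h3] at h5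
    have := Nat.le_of_dvd one_pos h5
    omega
  obtain ⟨T, hT, hT1, -, hmin⟩ := Cfsg.Agent.H500.exists_minimal_normal (⊤ : Subgroup G) inferInstance hG
  have hdT := dvd_card P F E hO h2 hT1
  have hs : IsSimpleGroup ↥T := simple_of_minimal T hT1 hmin hp (hd.trans hdT) hd2
  -- `T` is not commutative
  have hna : ¬ IsMulCommutative ↥T := by
    intro hc
    have hc' : IsMulCommutative ↥T := hc
    have hpr : (Nat.card ↥T).Prime := by
      let _ : CommGroup ↥T := { (inferInstance : Group ↥T) with mul_comm := fun a b => hc'.is_comm.comm a b }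
      exact IsSimpleGroup.prime_card
    have h3 : ch P.n (P.q true) (P.q false) = Nat.card ↥T := (hpr.eq_one_or_self_of_dvd _ hdT).resolve_left (by omega)
    rw [← h3] at hpr
    unfold ch at hpr
    have h1 := P.two_le true
    have h4 := P.two_le false
    have h5 : 1 ≤ ∑ i ∈ Finset.range (P.n / 2), (P.q true * P.q false) ^ i := by
      obtain ⟨m, hm⟩ : ∃ j, P.n / 2 = j + 1 := ⟨P.n / 2 - 1, by rcases P.hn with h | h | h <;> rw [h] <;> norm_num⟩
      rw [hm, Finset.sum_range_succ', pow_zero]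
      omega
    rw [mul_assoc] at hpr
    exact Nat.not_prime_mul (by omega) (by nlinarith) hpr
  refine ⟨T, hT, hs, hna, hdT, ?_⟩
  by_contra hC
  have hCn : (Subgroup.centralizer (T : Set G)).Normal := inferInstance
  have h3 := dvd_card P F E hO h2 (M := Subgroup.centralizer (T : Set G)) hC
  -- `T ⊓ C(T) = 1`
  have h4 : T ⊓ Subgroup.centralizer (T : Set G) = ⊥ := by
    rcases hmin (T ⊓ Subgroup.centralizer (T : Set G)) inferInstance inf_le_left with h | h
    · exact h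
    · exfalso
      apply hna
      refine ⟨⟨fun a b => Subtype.ext ?_⟩⟩
      have h5 : (b : G) ∈ Subgroup.centralizer (T : Set G) := by
        have : (b : G) ∈ T ⊓ Subgroup.centralizer (T : Set G) := by rw [h]; exact b.2
        exact this.2
      exact Subgroup.mem_centralizer_iff.1 h5 a a.2
  have e1 : T.relIndex (Subgroup.centralizer (T : Set G) ⊔ T) = Nat.card ↥(Subgroup.centralizer (T : Set G)) := by
    rw [relIndex_sup_right, ← inf_relIndex_right, h4, relIndex_bot_left]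
  have e2 : T.relIndex (Subgroup.centralizer (T : Set G) ⊔ T) * Nat.card ↥T =
      Nat.card ↥(Subgroup.centralizer (T : Set G) ⊔ T) := by
        rw [← relIndex_bot_left, ← relIndex_bot_left, mul_comm]
        exact relIndex_mul_relIndex _ _ _ bot_le le_sup_right
  have e3 : Nat.card ↥(Subgroup.centralizer (T : Set G) ⊔ T) ∣ Nat.card G := card_subgroup_dvd_card _
  rw [← e2, e1] at e3
  apply hd2
  rw [pow_two]
  exact (Nat.mul_dvd_mul (hd.trans h3) (hd.trans hdT)).trans e3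

end Cfsg.Agent.H482.Tits
end

-- part: H756/TS/SmallCore
section
set_option linter.all false
open scoped Cfsg.Agent.FastGrp

/-!
# S3414, task E-SMALL: the small exceptions, by orders (helper756)
-/

set_option autoImplicit false

namespace Cfsg.Agent.H756.TS

open Cfsg Cfsg.Agent.OrdDiv Cfsg.Agent.H873.Tits

universe u

/-- the `p`-part of `n < p ^ 60` -/
def pp (p n : ℕ) : ℕ := Nat.gcd n (p ^ 60)

theorem pp_eq {n p : ℕ} (hp : p.Prime) (hn : n ≠ 0) (hlt : n < p ^ 60) : pp p n = p ^ n.factorization p := by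
  have h1 : p ^ n.factorization p ∣ n := Nat.ordProj_dvd n p
  have h2 : n.factorization p ≤ 60 := by
    have h3 : p ^ n.factorization p < p ^ 60 := (Nat.le_of_dvd (Nat.pos_of_ne_zero hn) h1).trans_lt hlt
    exact ((Nat.pow_lt_pow_iff_right hp.one_lt).1 h3).le
  obtain ⟨j, hj, he⟩ := (Nat.dvd_prime_pow hp).1 (Nat.gcd_dvd_right n (p ^ 60))
  have h4 : j ≤ n.factorization p := by
    rw [← hp.pow_dvd_iff_le_factorization hn]
    rw [← he]
    exact Nat.gcd_dvd_left _ _
  have h5 : p ^ n.factorization p ∣ p ^ j := by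
    rw [← he]
    exact Nat.dvd_gcd h1 (pow_dvd_pow p h2)
  have h6 : n.factorization p ≤ j := (Nat.pow_dvd_pow_iff_le_right hp.one_lt).1 h5
  rw [pp, he, le_antisymm h4 h6]

/-- the test -/
def flt (c w p t n : ℕ) : Bool :=
  Nat.beq (n % c) 0 && !(Nat.blt n (pp p n ^ 3)) &&
    Nat.ble (2 ^ ((w + pp p n - 1) / pp p n) * (1 + t) ^ 3) (c ^ 3)

theorem flt_true {c w p t n u : ℕ} (hp : p.Prime) (hn : n ≠ 0) (hlt : n < p ^ 60) (hc : c ∣ n)
    (hw : w ≤ u * p ^ n.factorization p) (hu : 2 ^ u * (1 + t) ^ 3 ≤ c ^ 3)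
    (hno : ¬ n < p ^ (3 * n.factorization p)) : flt c w p t n = true := by
  unfold flt
  rw [pp_eq hp hn hlt]
  have hP : 0 < p ^ n.factorization p := pow_pos hp.pos _
  have h1 : Nat.beq (n % c) 0 = true := by
    rw [Nat.beq_eq]
    exact Nat.mod_eq_zero_of_dvd hc
  have h2 : Nat.blt n ((p ^ n.factorization p) ^ 3) = false := by
    rw [← Bool.not_eq_true, Nat.blt_eq, ← pow_mul, mul_comm]
    exact hno
  have h3 : (w + p ^ n.factorization p - 1) / p ^ n.factorization p ≤ u := by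
    rw [Nat.div_le_iff_le_mul_add_pred hP]
    rw [mul_comm]
    omega
  have h4 : Nat.ble (2 ^ ((w + p ^ n.factorization p - 1) / p ^ n.factorization p) * (1 + t) ^ 3) (c ^ 3) = true := by
    rw [Nat.ble_eq]
    refine le_trans ?_ hu
    exact Nat.mul_le_mul_right _ (Nat.pow_le_pow_right (by norm_num) h3)
  rw [h1, h2, h4]
  rfl

variable (tab : OrderTable.{u}) (hkn : ∀ (X : Type u) [Group X] [Finite X] [IsSimpleGroup X], IsKnownSimple' X)

include tab hkn in
theorem key {T : Type u} [Group T] [Finite T] [IsSimpleGroup T] (hna : ¬ IsMulCommutative T) {l : List (ℕ × ℕ)} {N : ℕ}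
    (hv : valid l N = true) {c w p t : ℕ} (hp : p.Prime) (hN0 : 0 < N) (hN : N < p ^ 60) {exc : List Grp}
    (hf : (cands l N).filter (fun g => flt c w p t (ordN g)) = exc) {u : ℕ} (h1 : c ∣ Nat.card T) (h2 : Nat.card T ∣ N)
    (h3 : w ≤ u * p ^ (Nat.card T).factorization p) (h4 : 2 ^ u * (1 + t) ^ 3 ≤ c ^ 3) :
    Nat.card T < p ^ (3 * (Nat.card T).factorization p) ∨ ∃ g ∈ exc, Real g T ∧ Nat.card T = ordN g := by
  by_cases hno : Nat.card T < p ^ (3 * (Nat.card T).factorization p)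
  · exact Or.inl hno
  · right
    have hna' : ¬ ∀ a b : T, a * b = b * a := fun h => hna ⟨⟨h⟩⟩
    obtain ⟨g, hg, hr, hc⟩ := exists_good tab (hkn T) hna' hv h2
    have h5 := flt_true hp Nat.card_pos.ne' ((Nat.le_of_dvd hN0 h2).trans_lt hN) h1 h3 h4 hno
    refine ⟨g, ?_, hr, hc⟩
    rw [← hf]
    exact List.mem_filter.2 ⟨hg, by rw [← hc]; exact h5⟩

theorem v1 : valid [(2, 4), (3, 2), (5, 1)] 720 = true := by decide +kernel
theorem v2 : valid [(2, 7), (3, 4), (5, 1)] 51840 = true := by decide +kernel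
theorem v3 : valid [(2, 10), (3, 2), (5, 2), (17, 1)] 3916800 = true := by decide +kernel
theorem v4 : valid [(2, 12), (3, 5), (5, 1), (7, 1), (11, 1)] 383201280 = true := by decide +kernel
theorem v5 : valid [(2, 15), (3, 2), (5, 3), (13, 1), (17, 1)] 8146944000 = true := by decide +kernel
theorem v6 : valid [(2, 14), (3, 6), (5, 1), (7, 2), (13, 1)] 38041436160 = true := by decide +kernel
theorem v7 : valid [(2, 21), (3, 9), (5, 2), (7, 2), (13, 1), (19, 1)] 12489764320051200 = true := by decide +kernel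
theorem v8 : valid [(2, 6), (3, 3), (7, 1)] 12096 = true := by decide +kernel
theorem v9 : valid [(2, 13), (3, 5), (7, 2), (13, 1)] 1268047872 = true := by decide +kernel
theorem v10 : valid [(2, 13), (3, 4), (5, 2), (13, 1)] 215654400 = true := by decide +kernel
theorem v12 : valid [(2, 10), (3, 6), (5, 1), (7, 1)] 26127360 = true := by decide +kernel

theorem f1 : (cands [(2, 4), (3, 2), (5, 1)] 720).filter (fun g => flt 45 16 2 2 (ordN g)) = [] := by decide +kernel
theorem f2 : (cands [(2, 7), (3, 4), (5, 1)] 51840).filter (fun g => flt 135 64 2 4 (ordN g)) = [] := by decide +kernel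
theorem f3 : (cands [(2, 10), (3, 2), (5, 2), (17, 1)] 3916800).filter (fun g => flt 425 256 2 4 (ordN g)) = [] := by
  decide +kernel
theorem f4 : (cands [(2, 12), (3, 5), (5, 1), (7, 1), (11, 1)] 383201280).filter
    (fun g => flt 1485 1024 2 8 (ordN g)) = [] := by decide +kernel
theorem f5 : (cands [(2, 15), (3, 2), (5, 3), (13, 1), (17, 1)] 8146944000).filter
    (fun g => flt 5525 4096 2 16 (ordN g)) = [] := by decide +kernel
theorem f6 : (cands [(2, 14), (3, 6), (5, 1), (7, 2), (13, 1)] 38041436160).filter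
    (fun g => flt 5265 4096 2 8 (ordN g)) = [] := by decide +kernel
theorem f7 : (cands [(2, 21), (3, 9), (5, 2), (7, 2), (13, 1), (19, 1)] 12489764320051200).filter
    (fun g => flt 300105 262144 2 64 (ordN g)) = [] := by decide +kernel
theorem f8 : (cands [(2, 6), (3, 3), (7, 1)] 12096).filter (fun g => flt 189 64 2 2 (ordN g)) = [] := by decide +kernel
theorem f9 : (cands [(2, 13), (3, 5), (7, 2), (13, 1)] 1268047872).filter
    (fun g => flt 7371 4096 2 8 (ordN g)) = [] := by decide +kernel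
theorem f10 : (cands [(2, 13), (3, 4), (5, 2), (13, 1)] 215654400).filter
    (fun g => flt 8775 4096 2 4 (ordN g)) = [] := by decide +kernel
theorem f11 : (cands [(2, 7), (3, 4), (5, 1)] 51840).filter (fun g => flt 160 81 3 3 (ordN g)) = [] := by decide +kernel
theorem f12 : (cands [(2, 10), (3, 6), (5, 1), (7, 1)] 26127360).filter
    (fun g => flt 1120 729 3 9 (ordN g)) = [.psp 3 2] := by decide +kernel

include tab hkn in
theorem small_of (hout : ∀ (T : Type u) [Group T] [Finite T] [IsSimpleGroup T], ¬ IsMulCommutative T → Real (.psp 3 2) T →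
    Nat.card (Cfsg.Out T) = 1) : StSmall.{u} := by
  intro T _ _ _ hna x hx u h1 h2 h3 h4 h5 h6
  have kk := fun {l : List (ℕ × ℕ)} {N : ℕ} (hv : valid l N = true) {c w p t : ℕ} (hp : p.Prime) (hN0 : 0 < N)
    (hN : N < p ^ 60) {exc : List Grp} (hf : (cands l N).filter (fun g => flt c w p t (ordN g)) = exc) =>
    key tab hkn hna hv hp hN0 hN hf (u := u)
  unfold Cfsg.Agent.H873.Tits.smallList at hx
  simp only [List.mem_cons, List.not_mem_nil, or_false] at hx
  have c1 : ch 4 2 2 = 45 := rfl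
  have c2 : ch 4 2 4 = 135 := rfl
  have c3 : ch 4 4 4 = 425 := rfl
  have c4 : ch 4 4 8 = 1485 := rfl
  have c5 : ch 4 4 16 = 5525 := rfl
  have c6 : ch 4 8 8 = 5265 := rfl
  have c7 : ch 4 8 64 = 300105 := rfl
  have c8 : ch 6 2 2 = 189 := rfl
  have c9 : ch 6 2 8 = 7371 := rfl
  have c10 : ch 8 2 4 = 8775 := rfl
  have c11 : ch 4 3 3 = 160 := rfl
  have c12 : ch 4 3 9 = 1120 := rfl
  rcases hx with rfl | rfl | rfl | rfl | rfl | rfl | rfl | rfl | rfl | rfl | rfl | rfl
  · simp only [c1] at h1 h2 h6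
    norm_num at h2 h3
    rcases kk v1 Nat.prime_two (by norm_num) (by norm_num) f1 h1 h2 h3 h6 with h | ⟨g, hg, -⟩
    · exact h
    · simp at hg
  · simp only [c2] at h1 h2 h6
    norm_num at h2 h3
    rcases kk v2 Nat.prime_two (by norm_num) (by norm_num) f2 h1 h2 h3 h6 with h | ⟨g, hg, -⟩
    · exact h
    · simp at hg
  · simp only [c3] at h1 h2 h6
    norm_num at h2 h3
    rcases kk v3 Nat.prime_two (by norm_num) (by norm_num) f3 h1 h2 h3 h6 with h | ⟨g, hg, -⟩
    · exact h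
    · simp at hg
  · simp only [c4] at h1 h2 h6
    norm_num at h2 h3
    rcases kk v4 Nat.prime_two (by norm_num) (by norm_num) f4 h1 h2 h3 h6 with h | ⟨g, hg, -⟩
    · exact h
    · simp at hg
  · simp only [c5] at h1 h2 h6
    norm_num at h2 h3
    rcases kk v5 Nat.prime_two (by norm_num) (by norm_num) f5 h1 h2 h3 h6 with h | ⟨g, hg, -⟩
    · exact h
    · simp at hg
  · simp only [c6] at h1 h2 h6
    norm_num at h2 h3
    rcases kk v6 Nat.prime_two (by norm_num) (by norm_num) f6 h1 h2 h3 h6 with h | ⟨g, hg, -⟩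
    · exact h
    · simp at hg
  · simp only [c7] at h1 h2 h6
    norm_num at h2 h3
    rcases kk v7 Nat.prime_two (by norm_num) (by norm_num) f7 h1 h2 h3 h6 with h | ⟨g, hg, -⟩
    · exact h
    · simp at hg
  · simp only [c8] at h1 h2 h6
    norm_num at h2 h3
    rcases kk v8 Nat.prime_two (by norm_num) (by norm_num) f8 h1 h2 h3 h6 with h | ⟨g, hg, -⟩
    · exact h
    · simp at hg
  · simp only [c9] at h1 h2 h6
    norm_num at h2 h3
    rcases kk v9 Nat.prime_two (by norm_num) (by norm_num) f9 h1 h2 h3 h6 with h | ⟨g, hg, -⟩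
    · exact h
    · simp at hg
  · simp only [c10] at h1 h2 h6
    norm_num at h2 h3
    rcases kk v10 Nat.prime_two (by norm_num) (by norm_num) f10 h1 h2 h3 h6 with h | ⟨g, hg, -⟩
    · exact h
    · simp at hg
  · simp only [c11] at h1 h2 h6
    norm_num at h2 h3
    rcases kk v2 Nat.prime_three (by norm_num) (by norm_num) f11 h1 h2 h3 h6 with h | ⟨g, hg, -⟩
    · exact h
    · simp at hg
  · simp only [c12] at h1 h2 h6
    norm_num at h2 h3
    rcases kk v12 Nat.prime_three (by norm_num) (by norm_num) f12 h1 h2 h3 h6 with h | ⟨g, hg, hr, hc⟩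
    · exact h
    · simp only [List.mem_cons, List.not_mem_nil, or_false] at hg
      subst hg
      exfalso
      rw [hout T hna hr] at h4
      have hT : Nat.card T ≠ 0 := Nat.card_pos.ne'
      have h7 : 729 ≤ 1 * 3 ^ (Nat.card T).factorization 3 := h3.trans (Nat.mul_le_mul_right _ h4)
      have h8 : 3 ^ 6 ≤ 3 ^ (Nat.card T).factorization 3 := by
        rw [one_mul] at h7
        exact h7
      have h9 : 6 ≤ (Nat.card T).factorization 3 := (Nat.pow_le_pow_iff_right (by norm_num)).1 h8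
      have h10 : 3 ^ 6 ∣ Nat.card T := (Nat.prime_three.pow_dvd_iff_le_factorization hT).2 h9
      rw [hc] at h10
      revert h10
      decide +kernel

end Cfsg.Agent.H756.TS

private theorem dce_ccc2463cf46e : _root_.True := by
  try have : _root_.True := by simp only [_root_.Cfsg.Agent.H756.TS.pp.eq_1]
  exact _root_.True.intro
end

-- part: H156/Tits/PlanePSL
section
set_option linter.all false
open scoped Cfsg.Agent.FastGrp

/-!
# A doubly transitive group of collineations of a finite projective plane contains `PSL_3(F)` as a normal subgroup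
-/

set_option autoImplicit false

namespace Cfsg.Agent.H156.Tits

open Cfsg Cfsg.Agent.H985 Cfsg.Agent.H985.Pl Configuration Configuration.ProjectivePlane
open scoped LinearAlgebra.Projectivization

universe u

section Elations

variable {P L : Type*} [Membership P L] [ProjectivePlane P L] [Finite P] [Finite L]

/-- a doubly transitive group of collineations contains all elations -/
theorem Pg_le {H : Subgroup (Coll P L)} (hT : T2 H P) {z : P} {w : L} (hz : z ∈ w) : Pg (Coll P L) z w ≤ H := by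
  have hTC : T2 (Coll P L) P := by
    intro p₁ p₂ q₁ q₂ h1 h2
    obtain ⟨g, h3, h4⟩ := hT p₁ p₂ q₁ q₂ h1 h2
    exact ⟨g.1, h3, h4⟩
  have hc1 := card_Pg_all hT hz
  have hc2 := card_Pg_all hTC hz
  have h1 : (Pg H z w).map H.subtype ≤ Pg (Coll P L) z w := by
    rintro _ ⟨g, hg, rfl⟩
    exact ⟨fun p hp => hg.1 p hp, fun l hl => hg.2 l hl⟩
  have h2 : (Pg H z w).map H.subtype = Pg (Coll P L) z w := by
    apply Subgroup.eq_of_le_of_card_ge h1
    rw [Subgroup.card_map_of_injective H.subtype_injective, hc1, hc2]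
  rw [← h2]
  rintro _ ⟨g, _, rfl⟩
  exact g.2

/-- the group generated by the elations -/
def EG (P L : Type*) [Membership P L] [ProjectivePlane P L] [Finite P] [Finite L] : Subgroup (Coll P L) :=
  Subgroup.closure {g | ∃ (z : P) (w : L), z ∈ w ∧ g ∈ Pg (Coll P L) z w}

theorem EG_le {H : Subgroup (Coll P L)} (hT : T2 H P) : EG P L ≤ H := by
  rw [EG, Subgroup.closure_le]
  rintro g ⟨z, w, hz, hg⟩
  exact Pg_le hT hz hg

instance EG_normal : (EG P L).Normal := by
  constructor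
  intro n hn g
  refine Subgroup.closure_induction (p := fun n _ => g * n * g⁻¹ ∈ EG P L) ?_ ?_ ?_ ?_ hn
  · rintro x ⟨z, w, hz, hx⟩
    exact Subgroup.subset_closure ⟨g • z, g • w, mem_smul g hz, hx.1.conj g, hx.2.conj g⟩
  · simp only [mul_one, mul_inv_cancel]
    exact one_mem _
  · intro x y _ _ hx hy
    have h1 : g * (x * y) * g⁻¹ = (g * x * g⁻¹) * (g * y * g⁻¹) := by group
    rw [h1]
    exact mul_mem hx hy
  · intro x _ hx
    have h1 : g * x⁻¹ * g⁻¹ = (g * x * g⁻¹)⁻¹ := by group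
    rw [h1]
    exact inv_mem hx

theorem EG_ne {H : Subgroup (Coll P L)} (hT : T2 H P) : EG P L ≠ ⊥ := by
  have hTC : T2 (Coll P L) P := by
    intro p₁ p₂ q₁ q₂ h1 h2
    obtain ⟨g, h3, h4⟩ := hT p₁ p₂ q₁ q₂ h1 h2
    exact ⟨g.1, h3, h4⟩
  obtain ⟨z, w, hz, g, hg, h1, h2⟩ := ex_elation (L := L) hTC
  intro h
  have h3 : g ∈ EG P L := Subgroup.subset_closure ⟨z, w, hz, h1, h2⟩
  rw [h, Subgroup.mem_bot] at h3
  exact hg h3

/-- a permutation of the points mapping lines to lines is a collineation -/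
theorem exists_coll (σ : Equiv.Perm P) (h : ∀ l : L, ∃ l' : L, ∀ p : P, p ∈ l ↔ σ p ∈ l') :
    ∃ c : Coll P L, ∀ p : P, c • p = σ p := by
  classical
  choose τ hτ using h
  have hinj : Function.Injective τ := by
    intro l m hlm
    obtain ⟨p, hp, -, -⟩ := ex_third (P := P) l (exOffP (P := P) l).choose (exOffP (P := P) l).choose
    obtain ⟨q, hq, hqp, -⟩ := ex_third l p p
    refine uL hqp hq hp ?_ ?_
    · rw [hτ m, ← hlm, ← hτ l]; exact hq
    · rw [hτ m, ← hlm, ← hτ l]; exact hp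
  exact ⟨⟨(σ, Equiv.ofBijective τ (Finite.injective_iff_bijective.1 hinj)), fun p l => (hτ l p).symm⟩, fun p => rfl⟩

/-- if all elements of a group of permutations of the points map lines to lines, it is a group of collineations -/
theorem exists_hom {Q : Type*} [Group Q] (f : Q →* Equiv.Perm P)
    (h : ∀ (g : Q) (l : L), ∃ l' : L, ∀ p : P, p ∈ l ↔ f g p ∈ l') :
    ∃ ρ : Q →* Coll P L, ∀ (g : Q) (p : P), ρ g • p = f g p := by
  choose c hc using fun g => exists_coll (f g) (h g)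
  refine ⟨{ toFun := c, map_one' := ?_, map_mul' := ?_ }, hc⟩
  · apply FaithfulSMul.eq_of_smul_eq_smul (α := P)
    intro p
    rw [hc, map_one, one_smul]
    rfl
  · intro x y
    apply FaithfulSMul.eq_of_smul_eq_smul (α := P)
    intro p
    rw [hc, map_mul, mul_smul, hc y, hc x]
    rfl

end Elations

/-- **a faithful doubly transitive group of collineations of a finite projective plane has a normal subgroup isomorphic to `PSL_3(F)`** -/
theorem psl_of_T2 {G P L : Type*} [Group G] [Membership P L] [MulAction G P] [MulAction G L] [Act G P L]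
    [ProjectivePlane P L] [Finite P] [Finite L] [FaithfulSMul G P] (hT : T2 G P) :
    ∃ K : Subgroup G, K.Normal ∧ ∃ (F : Type) (_ : Field F) (_ : Fintype F),
      Nonempty (K ≃* Matrix.ProjectiveSpecialLinearGroup (Fin 3) F) := by
  classical
  have i0 : FaithfulSMul (Coll P L) P := inferInstance
  -- the image of `G`
  have hinj : Function.Injective (toColl G P L) := by
    intro g h hgh
    apply FaithfulSMul.eq_of_smul_eq_smul (α := P)
    intro p
    rw [← toColl_smul (L := L) g p, hgh, toColl_smul]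
  have hTG : T2 (toColl G P L).range P := by
    intro p₁ p₂ q₁ q₂ h1 h2
    obtain ⟨g, h3, h4⟩ := hT p₁ p₂ q₁ q₂ h1 h2
    exact ⟨⟨toColl G P L g, g, rfl⟩, h3, h4⟩
  have hTC : T2 (Coll P L) P := by
    intro p₁ p₂ q₁ q₂ h1 h2
    obtain ⟨g, h3, h4⟩ := hT p₁ p₂ q₁ q₂ h1 h2
    exact ⟨toColl G P L g, h3, h4⟩
  -- coordinates
  obtain ⟨F, i1, i2, e, he⟩ := desargues_coords (G := Coll P L) (P := P) (L := L) hTC
  obtain ⟨φ, h1, h2⟩ := coord_final e he
  have hsimp : IsSimpleGroup (Matrix.ProjectiveSpecialLinearGroup (Fin 3) F) :=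
    LieClassical.SLGen.psl_isSimpleGroup (by simp)
  -- the action of `PSL_3(F)`
  let f0 : Matrix.ProjectiveSpecialLinearGroup (Fin 3) F →* Equiv.Perm P :=
    (φ.symm.permCongrHom.toMonoidHom).comp Projectivization.PSLAction.toPermHom
  have hf0 : ∀ (g : Matrix.ProjectiveSpecialLinearGroup (Fin 3) F) (p : P), f0 g p = φ.symm (g • φ p) := fun g p => rfl
  have hline : ∀ (g : Matrix.ProjectiveSpecialLinearGroup (Fin 3) F) (l : L), ∃ l' : L, ∀ p : P, p ∈ l ↔ f0 g p ∈ l' := by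
    intro g l
    obtain ⟨g, rfl⟩ := QuotientGroup.mk_surjective g
    obtain ⟨W, hW, hl⟩ := h1 l
    obtain ⟨l', hl'⟩ := h2 (W.map (Matrix.SpecialLinearGroup.toLin' g).toLinearMap) (by
      rw [← hW]
      exact LinearEquiv.finrank_map_eq (Matrix.SpecialLinearGroup.toLin' g) W)
    refine ⟨l', fun p => ?_⟩
    rw [hl, hl', hf0, Equiv.apply_symm_apply]
    change _ ↔ (g • φ p).submodule ≤ _
    generalize φ p = x
    induction x using Projectivization.ind with
    | h v hv =>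
      rw [Projectivization.smul_mk, mk_le_iff, mk_le_iff]
      constructor
      · intro h
        exact ⟨v, h, rfl⟩
      · rintro ⟨w, hw, hw2⟩
        have h3 : (Matrix.SpecialLinearGroup.toLin' g) w = (Matrix.SpecialLinearGroup.toLin' g) v := hw2
        rw [← (Matrix.SpecialLinearGroup.toLin' g).injective h3]
        exact hw
  obtain ⟨ρ, hρ⟩ := exists_hom (P := P) (L := L) f0 hline
  have hρinj : Function.Injective ρ := by
    intro g h hgh
    apply FaithfulSMul.eq_of_smul_eq_smul (α := ℙ F (Fin 3 → F))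
    intro x
    have h3 := congrArg (fun c : Coll P L => c • (φ.symm x)) hgh
    simp only [hρ, hf0, Equiv.apply_symm_apply] at h3
    exact φ.symm.injective h3
  have hTQ : T2 ρ.range P := by
    intro p₁ p₂ q₁ q₂ h3 h4
    have h5 : ∀ {a b c d : ℙ F (Fin 3 → F)}, a ≠ b → c ≠ d →
        ∃ g : Matrix.SpecialLinearGroup (Fin 3) F, g • a = c ∧ g • b = d :=
      MulAction.is_two_pretransitive_iff.1 inferInstance
    obtain ⟨g, hg1, hg2⟩ := h5 (fun h => h3 (φ.injective h)) (fun h => h4 (φ.injective h))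
    refine ⟨⟨ρ g, g, rfl⟩, ?_, ?_⟩
    · change ρ g • p₁ = q₁
      rw [hρ, hf0]
      exact (congrArg φ.symm hg1).trans (φ.symm_apply_apply _)
    · change ρ g • p₂ = q₂
      rw [hρ, hf0]
      exact (congrArg φ.symm hg2).trans (φ.symm_apply_apply _)
  -- the elations generate the image of `PSL_3(F)`
  have hE1 : EG P L ≤ ρ.range := EG_le hTQ
  have hE2 : EG P L = ρ.range := by
    have h3 : ((EG P L).comap ρ).Normal := inferInstance
    rcases h3.eq_bot_or_eq_top with h4 | h4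
    · exfalso
      apply EG_ne (L := L) hTQ
      rw [eq_bot_iff]
      intro x hx
      obtain ⟨g, rfl⟩ := hE1 hx
      have h5 : g ∈ (EG P L).comap ρ := hx
      rw [h4, Subgroup.mem_bot] at h5
      rw [h5, map_one]
      exact one_mem _
    · apply le_antisymm hE1
      rintro _ ⟨g, rfl⟩
      have h5 : g ∈ (EG P L).comap ρ := by rw [h4]; trivial
      exact h5
  have hE3 : EG P L ≤ (toColl G P L).range := EG_le hTG
  refine ⟨(EG P L).comap (toColl G P L), inferInstance, F, i1, i2, ⟨?_⟩⟩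
  have e1 : (EG P L).comap (toColl G P L) ≃* ((EG P L).comap (toColl G P L)).map (toColl G P L) :=
    ((EG P L).comap (toColl G P L)).equivMapOfInjective _ hinj
  have h6 : ((EG P L).comap (toColl G P L)).map (toColl G P L) = ρ.range := by
    rw [Subgroup.map_comap_eq_self hE3, hE2]
  exact (e1.trans (MulEquiv.subgroupCongr h6)).trans (MonoidHom.ofInjective hρinj).symm

end Cfsg.Agent.H156.Tits

private theorem dce_364e81f62892 : _root_.True := by
  try have : _root_.True := by simp only [_root_.Cfsg.Agent.H156.Tits.EG.congr_simp]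
  try have : _root_.True := by simp only [_root_.Cfsg.Agent.H156.Tits.EG.eq_1]
  exact _root_.True.intro
end

-- part: H156/Tits/SubPlane
section
set_option linter.all false
open scoped Cfsg.Agent.FastGrp

/-!
# S3414, case (B): a group with a normal subgroup acting as `PSL_3(F)` on the projective plane acts by collineations,
and its doubly transitive subgroups contain a normal subgroup `≠ 1` (helper156)
-/

set_option autoImplicit false

namespace Cfsg.Agent.H156.Tits

open Cfsg.Agent.H985 Cfsg.Agent.H985.Pl Configuration Configuration.ProjectivePlane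
open Cfsg.Agent.H270.Tits.Elat
open scoped LinearAlgebra.Projectivization
open Module

universe u v w

section Plane

variable {F : Type w} [Field F] {n : ℕ} {G : Type u} {Ω : Type v} [Group G] [MulAction G Ω]
  {T : Subgroup G} {Φ : Ω ≃ ℙ F (Fin n → F)}

/-- the fixed points of an elation form a hyperplane -/
theorem isE_fix_iff {v : Fin n → F} {f : Dual F (Fin n → F)} (hv : v ≠ 0) (hf : f v = 0) {g : G} (h : IsE T Φ v f g)
    {ω : Ω} {w : Fin n → F} (hw : Pt Φ ω w) : g • ω = ω ↔ f w = 0 := by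
  have h1 := h.2 ω w hw
  constructor
  · intro he
    rw [he] at h1
    obtain ⟨k, hk, e⟩ := hw.unique h1
    by_contra hne
    have h2 : f w • v = (k - 1) • w := by rw [sub_smul, one_smul, ← e, add_sub_cancel_left]
    have h3 := congrArg f h2
    rw [map_smul, map_smul, hf, smul_zero, smul_eq_mul] at h3
    have h4 : k - 1 = 0 := (mul_eq_zero.1 h3.symm).resolve_right hne
    rw [h4, zero_smul] at h2
    exact (smul_ne_zero hne hv) h2
  · intro he
    rw [he, zero_smul, add_zero] at h1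
    exact h1.inj hw

/-- every element of `G` maps hyperplanes to hyperplanes -/
theorem exists_dual (P : PA T Φ) (h3 : 3 ≤ n) (x : G) {f : Dual F (Fin n → F)} (hf : f ≠ 0) :
    ∃ f' : Dual F (Fin n → F), f' ≠ 0 ∧ ∀ ω w w', Pt Φ ω w → Pt Φ (x • ω) w' → (f w = 0 ↔ f' w' = 0) := by
  -- a zero of `f`
  obtain ⟨v, hfv, hv'⟩ := exists_zero h3 f 0
  have hv : v ≠ 0 := by
    rintro rfl
    exact hv' (Submodule.zero_mem _)
  obtain ⟨a, ha⟩ := exists_pt Φ hv
  obtain ⟨g, hg⟩ := P.exists_isE (v := v) hfv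
  -- `T` is transitive
  obtain ⟨t, htT, ht⟩ : ∃ t ∈ T, t • x • a = a := by
    have h5 : MulAction.IsPretransitive (Matrix.SpecialLinearGroup (Fin n) F) (ℙ F (Fin n → F)) := by
      have : Nontrivial (Fin n) := Fin.nontrivial_iff_two_le.2 (by omega)
      infer_instance
    obtain ⟨s, hs⟩ := h5.exists_smul_eq (Φ (x • a)) (Φ a)
    obtain ⟨t, htT, h⟩ := P.real s
    refine ⟨t, htT, ?_⟩
    obtain ⟨w, hw⟩ := pt_exists Φ (x • a)
    obtain ⟨hw0, hw'⟩ := hw
    have h6 := h (x • a) w ⟨hw0, hw'⟩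
    rw [hw'] at hs
    obtain ⟨h7, h8⟩ := h6
    apply Φ.injective
    rw [h8, ← hs]
    rfl
  obtain ⟨s, hs⟩ := P.rep t htT
  have hya : (t * x) • a = a := by rw [mul_smul, ht]
  obtain ⟨f₁, hf₁, hE⟩ := P.El_conj h3 ha hya (g := g) ⟨f, hfv, hg⟩
  -- the functional
  refine ⟨f₁ ∘ₗ s.1.mulVecLin, ?_, ?_⟩
  · intro h0
    have hf₁0 : f₁ = 0 := by
      ext i
      have h1 := LinearMap.congr_fun h0 (s⁻¹.1.mulVec (Pi.single i 1))
      rw [LinearMap.comp_apply, Matrix.mulVecLin_apply, mulVec_inv, LinearMap.zero_apply] at h1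
      simpa using h1
    have h1 := PA.isE_zero_iff hE hf₁0 P
    have h2 : g = 1 := by
      have h4 : g = (t * x)⁻¹ * (t * x * g * (t * x)⁻¹) * (t * x) := by group
      rw [h4, h1]
      group
    obtain ⟨u, hu⟩ : ∃ u, f u ≠ 0 := by
      by_contra hcon
      push Not at hcon
      exact hf (LinearMap.ext hcon)
    have hu0 : u ≠ 0 := by
      rintro rfl
      exact hu (map_zero f)
    obtain ⟨ω, hω⟩ := exists_pt Φ hu0
    have h4 := (isE_fix_iff hv hfv hg hω).1 (by rw [h2, one_smul])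
    exact hu h4
  · intro ω w w' hw hw'
    rw [← isE_fix_iff hv hfv hg hw, LinearMap.comp_apply, Matrix.mulVecLin_apply]
    have h1 := hs _ _ hw'
    rw [← isE_fix_iff hv hf₁ hE h1]
    have h2 : (t * x * g * (t * x)⁻¹) • t • x • ω = t • x • g • ω := by
      rw [smul_smul, smul_smul, smul_smul, smul_smul]
      congr 1
      group
    rw [h2, smul_left_cancel_iff, smul_left_cancel_iff]

end Plane

/-- the lines of the projective plane over `F` -/
def LinT (F : Type w) [Field F] : Type w := ℙ F (Fin 3 → F)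

instance {F : Type w} [Field F] : Membership (ℙ F (Fin 3 → F)) (LinT F) :=
  inferInstanceAs (Membership (ℙ F (Fin 3 → F)) (ℙ F (Fin 3 → F)))

instance {F : Type w} [Field F] [Finite F] : Finite (LinT F) := inferInstanceAs (Finite (ℙ F (Fin 3 → F)))

noncomputable instance {F : Type w} [Field F] [DecidableEq F] : ProjectivePlane (ℙ F (Fin 3 → F)) (LinT F) :=
  inferInstanceAs (ProjectivePlane (ℙ F (Fin 3 → F)) (ℙ F (Fin 3 → F)))

theorem mem_LinT_mk {F : Type w} [Field F] {u w : Fin 3 → F} (hu : u ≠ 0) (hw : w ≠ 0) :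
    Projectivization.mk F w hw ∈ (show LinT F from Projectivization.mk F u hu) ↔ dotProductEquiv F (Fin 3) u w = 0 := by
  change Projectivization.orthogonal (Projectivization.mk F w hw) (Projectivization.mk F u hu) ↔ dotProduct u w = 0
  rw [Projectivization.orthogonal_mk hw hu, dotProduct_comm]

/-- a doubly transitive subgroup contains a normal subgroup `≠ 1` -/
theorem exists_normal_of_PA {F : Type w} [Field F] [Finite F] {G : Type u} {Ω : Type v} [Group G] [MulAction G Ω]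
    {T : Subgroup G} {Φ : Ω ≃ ℙ F (Fin 3 → F)} (P : PA T Φ) {H : Subgroup G}
    (h2 : ∀ a b a' b' : Ω, a ≠ b → a' ≠ b' → ∃ g ∈ H, g • a = a' ∧ g • b = b') :
    ∃ X : Subgroup G, X.Normal ∧ X ≠ ⊥ ∧ X ≤ H := by
  classical
  have hfinP : Finite (ℙ F (Fin 3 → F)) := inferInstance
  let f0 : G →* Equiv.Perm (ℙ F (Fin 3 → F)) := (Φ.permCongrHom.toMonoidHom).comp (MulAction.toPermHom G Ω)
  have hf0 : ∀ (g : G) (p : ℙ F (Fin 3 → F)), f0 g p = Φ (g • Φ.symm p) := fun g p => rfl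
  have hline : ∀ (g : G) (l : LinT F), ∃ l' : LinT F, ∀ p : ℙ F (Fin 3 → F), p ∈ l ↔ f0 g p ∈ l' := by
    intro g l
    obtain ⟨u, hu, rfl⟩ : ∃ (u : Fin 3 → F) (hu : u ≠ 0), l = (show LinT F from Projectivization.mk F u hu) :=
      ⟨_, Projectivization.rep_nonzero l, (Projectivization.mk_rep l).symm⟩
    have hfu : dotProductEquiv F (Fin 3) u ≠ 0 := (dotProductEquiv F (Fin 3)).map_ne_zero_iff.2 hu
    obtain ⟨f', hf', h⟩ := exists_dual P (by norm_num) g hfu
    obtain ⟨u', rfl⟩ := (dotProductEquiv F (Fin 3)).surjective f'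
    have hu' : u' ≠ 0 := (dotProductEquiv F (Fin 3)).map_ne_zero_iff.1 hf'
    refine ⟨(show LinT F from Projectivization.mk F u' hu'), fun p => ?_⟩
    rw [hf0]
    obtain ⟨ω, rfl⟩ := Φ.surjective p
    rw [Φ.symm_apply_apply]
    obtain ⟨w, hw0, hw⟩ := pt_exists Φ ω
    obtain ⟨w', hw0', hw'⟩ := pt_exists Φ (g • ω)
    have h1 := h ω w w' ⟨hw0, hw⟩ ⟨hw0', hw'⟩
    rw [hw, hw', mem_LinT_mk, mem_LinT_mk]
    exact h1
  obtain ⟨ρ, hρ⟩ := exists_hom (P := ℙ F (Fin 3 → F)) (L := LinT F) f0 hline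
  have hρinj : Function.Injective ρ := by
    rw [injective_iff_map_eq_one]
    intro g hg
    apply P.faithful
    intro ω
    have h1 := hρ g (Φ ω)
    rw [hg, one_smul, hf0, Φ.symm_apply_apply] at h1
    exact (Φ.injective h1).symm
  have hT : T2 (H.map ρ) (ℙ F (Fin 3 → F)) := by
    intro p₁ p₂ q₁ q₂ hp hq
    obtain ⟨g, hg, h3, h4⟩ := h2 (Φ.symm p₁) (Φ.symm p₂) (Φ.symm q₁) (Φ.symm q₂) (fun h => hp (Φ.symm.injective h))
      (fun h => hq (Φ.symm.injective h))
    refine ⟨⟨ρ g, g, hg, rfl⟩, ?_, ?_⟩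
    · change ρ g • p₁ = q₁
      rw [hρ, hf0, h3, Φ.apply_symm_apply]
    · change ρ g • p₂ = q₂
      rw [hρ, hf0, h4, Φ.apply_symm_apply]
  have hle := EG_le hT
  refine ⟨(EG (ℙ F (Fin 3 → F)) (LinT F)).comap ρ, inferInstance, ?_, ?_⟩
  · intro h
    apply EG_ne (L := LinT F) hT
    rw [eq_bot_iff]
    intro x hx
    obtain ⟨g, hg, rfl⟩ := hle hx
    have h5 : g ∈ (EG (ℙ F (Fin 3 → F)) (LinT F)).comap ρ := hx
    rw [h, Subgroup.mem_bot] at h5
    rw [h5, map_one]
    exact one_mem _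
  · intro g hg
    obtain ⟨g', hg', h⟩ := hle hg
    rwa [← hρinj h]

end Cfsg.Agent.H156.Tits
end
end
end
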